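import Mathlib
import Cfsg.Prelude.Def_Characters
import Cfsg.Agent.Lib.Helper2.CharDecomp
import Cfsg.Agent.Lib.Helper2.CharComplete
import Cfsg.Agent.Lib.Helper8.SchurAux

set_option autoImplicit false

namespace Cfsg.Agent.Lib.Helper8

open Cfsg.Agent.Lib.Helper2 Representation Module
open scoped ComplexConjugate

/-- a representation whose character is an irreducible character is irreducible -/
theorem irreducible_of_isIrrCharacter {N V : Type*} [Group N] [Fintype N] [AddCommGroup V]
    [Module ℂ V] [FiniteDimensional ℂ V] (ρ : Representation ℂ N V)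
    (h : Cfsg.IsIrrCharacter N ρ.character) : ρ.IsIrreducible := by
  obtain ⟨d, σ, hσ, hchar⟩ := h
  have := hσ
  have h1 := classInner_char_nat σ ρ
  rw [← hchar, classInner_irr_self ⟨d, σ, hσ, rfl⟩] at h1
  have hfr : finrank ℂ (IntertwiningMap σ ρ) = 1 := by exact_mod_cast h1.symm
  have hnt : Nontrivial (IntertwiningMap σ ρ) :=
    Module.nontrivial_of_finrank_pos (R := ℂ) (by rw [hfr]; norm_num)
  obtain ⟨f, hf⟩ := exists_ne (0 : IntertwiningMap σ ρ)
  have hinj : Function.Injective f := (IsIrreducible.injective_or_eq_zero f).resolve_right hf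
  have hdim : finrank ℂ (Fin d → ℂ) = finrank ℂ V := by
    have := congrFun hchar 1
    rw [Representation.char_one, Representation.char_one] at this
    exact_mod_cast this
  have hsurj : Function.Surjective f :=
    (LinearMap.injective_iff_surjective_of_finrank_eq_finrank (f := f.toLinearMap) hdim).1 hinj
  exact isIrreducible_of_equiv (IntertwiningMap.ofBijective f ⟨hinj, hsurj⟩)

/-- a character of degree zero vanishes -/
theorem char_eq_zero_of_apply_one {G : Type*} [Group G] {η : G → ℂ} (hη : Cfsg.IsCharacter G η)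
    (h1 : η 1 = 0) : η = 0 := by
  obtain ⟨n, ρ, rfl⟩ := hη
  rw [Representation.char_one] at h1
  have hn : n = 0 := by
    have : finrank ℂ (Fin n → ℂ) = 0 := by exact_mod_cast h1
    simpa using this
  subst hn
  funext g
  have : ρ g = 0 := Subsingleton.elim _ _
  change LinearMap.trace ℂ _ (ρ g) = 0
  rw [this, map_zero]

/-- averaging `X ↦ σ n X σ n⁻¹` over the group gives a scalar -/
theorem sum_conj_scalar {N V : Type*} [Group N] [Fintype N] [AddCommGroup V] [Module ℂ V]
    [FiniteDimensional ℂ V] (σ : Representation ℂ N V) (hσ : σ.IsIrreducible)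
    (X : Module.End ℂ V) :
    ∑ n : N, σ n * X * σ n⁻¹
      = ((Nat.card N : ℂ) * LinearMap.trace ℂ V X / (finrank ℂ V : ℂ)) • (1 : Module.End ℂ V) := by
  have := hσ
  have hcomm : ∀ m : N, (∑ n : N, σ n * X * σ n⁻¹) ∘ₗ σ m = σ m ∘ₗ (∑ n : N, σ n * X * σ n⁻¹) := by
    intro m
    change (∑ n : N, σ n * X * σ n⁻¹) * σ m = σ m * (∑ n : N, σ n * X * σ n⁻¹)
    rw [Finset.sum_mul, Finset.mul_sum]
    apply Fintype.sum_equiv (Equiv.mulLeft m⁻¹)
    intro n
    simp only [Equiv.coe_mulLeft, map_mul, mul_inv_rev, inv_inv]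
    have h1 : σ m * σ m⁻¹ = 1 := by rw [← map_mul, mul_inv_cancel, map_one]
    calc σ n * X * σ n⁻¹ * σ m = 1 * (σ n * X * σ n⁻¹ * σ m) := by rw [one_mul]
      _ = σ m * σ m⁻¹ * (σ n * X * σ n⁻¹ * σ m) := by rw [h1]
      _ = σ m * (σ m⁻¹ * σ n * X * (σ n⁻¹ * σ m)) := by simp only [mul_assoc]
  obtain ⟨a, ha⟩ := schur_scalar σ hσ _ hcomm
  have htr := congrArg (LinearMap.trace ℂ V) ha
  rw [map_sum, map_smul, LinearMap.trace_one, smul_eq_mul] at htr
  have h2 : ∀ n : N, LinearMap.trace ℂ V (σ n * X * σ n⁻¹) = LinearMap.trace ℂ V X := by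
    intro n
    rw [LinearMap.trace_mul_comm, ← mul_assoc, ← map_mul, inv_mul_cancel, map_one, one_mul]
  simp only [h2] at htr
  rw [Finset.sum_const, Finset.card_univ, nsmul_eq_mul, ← Nat.card_eq_fintype_card] at htr
  have hd : (finrank ℂ V : ℂ) ≠ 0 := by
    have := irr_finrank_pos σ
    exact_mod_cast this.ne'
  rw [ha]
  congr 1
  rw [htr]
  field_simp

theorem trace_mul_single {d : ℕ} (A : Matrix (Fin d) (Fin d) ℂ) (i j : Fin d) :
    Matrix.trace (A * Matrix.single i j (1 : ℂ)) = A j i := by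
  classical
  unfold Matrix.trace
  simp only [Matrix.diag_apply]
  rw [Finset.sum_eq_single j]
  · rw [Matrix.mul_single_apply_same (1 : ℂ) i j j A, mul_one]
  · intro a _ ha
    exact Matrix.mul_single_apply_of_ne (1 : ℂ) i j a a ha A
  · intro h; exact absurd (Finset.mem_univ j) h

theorem entry_single' {n : ℕ} (A B : Matrix (Fin n) (Fin n) ℂ) (i j a b : Fin n) :
    (A * Matrix.single i j (1 : ℂ) * B) a b = A a i * B j b := by
  classical
  rw [Matrix.mul_apply, Finset.sum_eq_single j]
  · rw [Matrix.mul_single_apply_same (1 : ℂ) i j a A, mul_one]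
  · intro k _ hk
    rw [Matrix.mul_single_apply_of_ne (1 : ℂ) i j a k hk A, zero_mul]
  · intro h; exact absurd (Finset.mem_univ j) h

/-- Schur orthogonality for matrix coefficients, in trace form -/
theorem trace_orthogonality {N : Type*} [Group N] [Fintype N] {d : ℕ}
    (σ : Representation ℂ N (Fin d → ℂ)) (hσ : σ.IsIrreducible)
    (A B : Matrix (Fin d) (Fin d) ℂ) :
    ∑ n : N, Matrix.trace (LinearMap.toMatrix' (σ n) * A)
        * Matrix.trace (LinearMap.toMatrix' (σ n⁻¹) * B)
      = (Nat.card N : ℂ) / (d : ℂ) * Matrix.trace (A * B) := by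
  classical
  have key : ∀ X : Matrix (Fin d) (Fin d) ℂ,
      ∑ n : N, LinearMap.toMatrix' (σ n) * X * LinearMap.toMatrix' (σ n⁻¹)
        = ((Nat.card N : ℂ) * Matrix.trace X / (d : ℂ)) • (1 : Matrix (Fin d) (Fin d) ℂ) := by
    intro X
    have h := sum_conj_scalar σ hσ (Matrix.toLin' X)
    have h2 := congrArg LinearMap.toMatrix' h
    rw [map_sum, map_smul] at h2
    have h3 : ∀ n : N, LinearMap.toMatrix' (σ n * Matrix.toLin' X * σ n⁻¹)
        = LinearMap.toMatrix' (σ n) * X * LinearMap.toMatrix' (σ n⁻¹) := by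
      intro n
      rw [Module.End.mul_eq_comp, Module.End.mul_eq_comp, LinearMap.toMatrix'_comp,
        LinearMap.toMatrix'_comp, LinearMap.toMatrix'_toLin']
    simp only [h3] at h2
    rw [h2]
    congr 1
    · have h4 : LinearMap.trace ℂ (Fin d → ℂ) (Matrix.toLin' X) = Matrix.trace X := by
        rw [LinearMap.trace_eq_matrix_trace ℂ (Pi.basisFun ℂ (Fin d)),
          LinearMap.toMatrix_eq_toMatrix', LinearMap.toMatrix'_toLin']
      rw [h4]
      simp
    · exact LinearMap.toMatrix'_id
  have h1 : ∀ n : N, Matrix.trace (LinearMap.toMatrix' (σ n) * A)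
        * Matrix.trace (LinearMap.toMatrix' (σ n⁻¹) * B)
      = ∑ i : Fin d, ∑ j : Fin d,
        ((LinearMap.toMatrix' (σ n) * (A * Matrix.single i j (1 : ℂ))
          * LinearMap.toMatrix' (σ n⁻¹)) * B) i j := by
    intro n
    unfold Matrix.trace
    simp only [Matrix.diag_apply]
    rw [Finset.sum_mul_sum]
    apply Finset.sum_congr rfl; intro i _
    apply Finset.sum_congr rfl; intro j _
    have : LinearMap.toMatrix' (σ n) * (A * Matrix.single i j (1 : ℂ))
          * LinearMap.toMatrix' (σ n⁻¹) * B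
        = (LinearMap.toMatrix' (σ n) * A) * Matrix.single i j (1 : ℂ)
          * (LinearMap.toMatrix' (σ n⁻¹) * B) := by
      simp only [Matrix.mul_assoc]
    rw [this, entry_single']
  simp only [h1]
  rw [Finset.sum_comm]
  have h2 : ∀ i : Fin d, ∑ n : N, ∑ j : Fin d,
        ((LinearMap.toMatrix' (σ n) * (A * Matrix.single i j (1 : ℂ))
          * LinearMap.toMatrix' (σ n⁻¹)) * B) i j
      = ∑ j : Fin d, (Nat.card N : ℂ) / (d : ℂ) * (A j i * B i j) := by
    intro i
    rw [Finset.sum_comm]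
    apply Finset.sum_congr rfl; intro j _
    rw [← Matrix.sum_apply, ← Finset.sum_mul, key, trace_mul_single, Matrix.smul_mul,
      Matrix.one_mul, Matrix.smul_apply, smul_eq_mul]
    ring
  simp only [h2]
  rw [Finset.sum_comm]
  unfold Matrix.trace
  simp only [Matrix.diag_apply, Matrix.mul_apply]
  rw [Finset.mul_sum]
  apply Finset.sum_congr rfl; intro j _
  rw [Finset.mul_sum]

/-- restriction of a representation to a subgroup -/
@[reducible] def resRep {G V : Type*} [Group G] [AddCommGroup V] [Module ℂ V]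
    (ρ : Representation ℂ G V) (N : Subgroup G) : Representation ℂ N V := ρ.comp N.subtype

/-- for `χ` irreducible with irreducible restriction to `N`, the squared absolute values
of `χ` sum to `|N|` over every coset of `N` -/
theorem coset_norm {G : Type*} [Group G] [Fintype G] (N : Subgroup G) [Fintype N]
    (χ : G → ℂ) (hχ : Cfsg.IsIrrCharacter G χ)
    (hχN : Cfsg.IsIrrCharacter N (fun n : N => χ n)) (g : G) :
    ∑ n : N, χ ((n : G) * g) * conj (χ ((n : G) * g)) = (Nat.card N : ℂ) := by
  classical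
  obtain ⟨d, ρ, hρ, rfl⟩ := hχ
  have hirrN : (resRep ρ N).IsIrreducible :=
    irreducible_of_isIrrCharacter (resRep ρ N) hχN
  have htr : ∀ x : G, ρ.character x = Matrix.trace (LinearMap.toMatrix' (ρ x)) := by
    intro x
    have := LinearMap.trace_eq_matrix_trace ℂ (Pi.basisFun ℂ (Fin d)) (ρ x)
    rw [LinearMap.toMatrix_eq_toMatrix'] at this
    exact this
  have hmul : ∀ x y : G, LinearMap.toMatrix' (ρ (x * y))
      = LinearMap.toMatrix' (ρ x) * LinearMap.toMatrix' (ρ y) := fun x y => by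
    rw [map_mul, Module.End.mul_eq_comp, LinearMap.toMatrix'_comp]
  have h1 := trace_orthogonality (resRep ρ N) hirrN
    (LinearMap.toMatrix' (ρ g)) (LinearMap.toMatrix' (ρ g⁻¹))
  have h2 : ∀ n : N, ρ.character ((n : G) * g) * conj (ρ.character ((n : G) * g))
      = Matrix.trace (LinearMap.toMatrix' ((resRep ρ N) n)
          * LinearMap.toMatrix' (ρ g))
        * Matrix.trace (LinearMap.toMatrix' ((resRep ρ N) n⁻¹)
          * LinearMap.toMatrix' (ρ g⁻¹)) := by
    intro n
    rw [← char_inv, mul_inv_rev, htr, htr, hmul, hmul, Matrix.trace_mul_comm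
      (LinearMap.toMatrix' (ρ g⁻¹))]
    rfl
  simp only [h2]
  rw [h1, ← hmul, mul_inv_cancel, map_one]
  have hd : (d : ℂ) ≠ 0 := by
    have := hρ
    have := irr_finrank_pos ρ
    simp only [Module.finrank_fintype_fun_eq_card, Fintype.card_fin] at this
    exact_mod_cast this.ne'
  have h3 : Matrix.trace (LinearMap.toMatrix' (1 : Module.End ℂ (Fin d → ℂ))) = (d : ℂ) := by
    rw [Module.End.one_eq_id, LinearMap.toMatrix'_id, Matrix.trace_one, Fintype.card_fin]
  rw [h3]
  field_simp

/-- averaging an irreducible character over the cosets of a normal subgroup -/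
theorem avg_normal {G : Type*} [Group G] [Fintype G] (N : Subgroup G) [hN : N.Normal]
    [Fintype N] (β : G → ℂ) (hβ : Cfsg.IsIrrCharacter G β) :
    ∃ a : ℂ, (a = 0 ∨ a = 1) ∧ ∀ x : G, ∑ n : N, β ((n : G) * x) = a * (Nat.card N : ℂ) * β x := by
  classical
  obtain ⟨d, τ, hτ, rfl⟩ := hβ
  have := hτ
  have hnt : Nontrivial (Fin d → ℂ) := irr_nontrivial τ
  have hcomm : ∀ g : G, (∑ n : N, τ (n : G)) ∘ₗ τ g = τ g ∘ₗ (∑ n : N, τ (n : G)) := by
    intro g
    change (∑ n : N, τ (n : G)) * τ g = τ g * (∑ n : N, τ (n : G))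
    rw [Finset.sum_mul, Finset.mul_sum]
    apply Fintype.sum_equiv (MulAut.conjNormal g⁻¹ : N ≃* N).toEquiv
    intro n
    rw [← map_mul, ← map_mul]
    congr 1
    change (n : G) * g = g * (g⁻¹ * (n : G) * g⁻¹⁻¹)
    group
  obtain ⟨c, hc⟩ := schur_scalar τ hτ _ hcomm
  have hsq : (∑ n : N, τ (n : G)) * (∑ n : N, τ (n : G))
      = (Nat.card N : ℂ) • (∑ n : N, τ (n : G)) := by
    rw [Finset.sum_mul]
    have : ∀ m : N, τ (m : G) * (∑ n : N, τ (n : G)) = ∑ n : N, τ (n : G) := by
      intro m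
      rw [Finset.mul_sum]
      apply Fintype.sum_equiv (Equiv.mulLeft m)
      intro n
      rw [← map_mul]
      rfl
    simp only [this]
    rw [Finset.sum_const, Finset.card_univ, ← Nat.card_eq_fintype_card, Nat.cast_smul_eq_nsmul]
  rw [hc, smul_mul_smul_comm, one_mul, smul_smul] at hsq
  have hcc : c * c = (Nat.card N : ℂ) * c := by
    obtain ⟨v, hv⟩ := exists_ne (0 : Fin d → ℂ)
    have h2 := congrArg (fun T : Module.End ℂ (Fin d → ℂ) => T v) hsq
    simp only [LinearMap.smul_apply, Module.End.one_apply] at h2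
    have h3 : (c * c - (Nat.card N : ℂ) * c) • v = 0 := by rw [sub_smul, h2, sub_self]
    rcases smul_eq_zero.1 h3 with h4 | h4
    · exact sub_eq_zero.1 h4
    · exact absurd h4 hv
  have hN0 : (Nat.card N : ℂ) ≠ 0 := card_ne_zero_complex N
  refine ⟨c / (Nat.card N : ℂ), ?_, ?_⟩
  · by_cases h0 : c = 0
    · left; rw [h0, zero_div]
    · right
      have : c = (Nat.card N : ℂ) := mul_right_cancel₀ h0 hcc
      rw [this, div_self hN0]
  · intro x
    have h1 : ∑ n : N, τ.character ((n : G) * x)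
        = LinearMap.trace ℂ _ ((∑ n : N, τ (n : G)) * τ x) := by
      rw [Finset.sum_mul, map_sum]
      apply Finset.sum_congr rfl
      intro n _
      rw [← map_mul]
      rfl
    rw [h1, hc, smul_mul_assoc, one_mul, map_smul, smul_eq_mul, div_mul_cancel₀ _ hN0]
    rfl

end Cfsg.Agent.Lib.Helper8
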