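import Mathlib
import Cfsg.Prelude.Def_Characters
import Cfsg.Agent.Lib.Helper2.CharBridge
import Cfsg.Agent.Lib.Helper2.CharBasic
import Cfsg.Agent.Lib.Helper2.CharExpand
import Cfsg.Agent.Lib.Helper2.CharDecomp
import Cfsg.Agent.Lib.Helper2.CharLinear
import Cfsg.Agent.Lib.Lead.TIFN
import Cfsg.Agent.Lib.Helper25.Central

/-!
# A degree bound from a TI-type hypothesis (Feit--Thompson style)

Abstract part: for a normal subgroup `H` of a finite group `M` and a character `χ` of `M`
that is not constant on `H`, the sum of `|χ|^2` over the elements commuting with a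
nonidentity element of `H` is at least `|M|` plus the corresponding sum for the
`H`-average of `χ`.
-/

set_option autoImplicit false

namespace Cfsg.Agent.Lib.Helper8

open Cfsg.Agent.Lib.Helper2 Cfsg.Agent.Lib.Helper25
open scoped ComplexConjugate
open Classical

noncomputable section

section ind

variable {M : Type*} [Group M]

/-- indicator of the elements commuting with some nonidentity element of `H` -/
def commInd (H : Subgroup M) (g : M) : ℝ :=
  if ∃ h ∈ H, h ≠ 1 ∧ g * h = h * g then 1 else 0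

theorem commInd_pos (H : Subgroup M) {g : M} (h : ∃ h ∈ H, h ≠ 1 ∧ g * h = h * g) :
    commInd H g = 1 := if_pos h

theorem commInd_neg (H : Subgroup M) {g : M} (h : ¬ ∃ h ∈ H, h ≠ 1 ∧ g * h = h * g) :
    commInd H g = 0 := if_neg h

theorem commInd_nonneg (H : Subgroup M) (g : M) : 0 ≤ commInd H g := by
  unfold commInd
  split_ifs <;> norm_num

theorem commInd_le_one (H : Subgroup M) (g : M) : commInd H g ≤ 1 := by
  unfold commInd
  split_ifs <;> norm_num

end ind

section avg

variable {M : Type*} [Group M] [Fintype M]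

/-- right `H`-average of a function -/
def hAvg (H : Subgroup M) [Fintype H] (χ : M → ℂ) (g : M) : ℂ :=
  (Nat.card H : ℂ)⁻¹ * ∑ h : H, χ (g * h)

theorem hAvg_mul (H : Subgroup M) [Fintype H] (χ : M → ℂ) (g : M) {h : M} (hh : h ∈ H) :
    hAvg H χ (g * h) = hAvg H χ g := by
  unfold hAvg
  congr 1
  apply Fintype.sum_equiv (Equiv.mulLeft (⟨h, hh⟩ : H))
  intro u
  simp [mul_assoc]

theorem hAvg_of_fpf (H : Subgroup M) [H.Normal] [Fintype H] {χ : M → ℂ}
    (hcl : Cfsg.IsClassFunction M χ) (g : M) (hg : ¬ ∃ h ∈ H, h ≠ 1 ∧ g * h = h * g) :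
    hAvg H χ g = χ g := by
  have hmem : ∀ u : H, g⁻¹ * (u : M) * g * (u : M)⁻¹ ∈ H := by
    intro u
    apply H.mul_mem _ (H.inv_mem u.2)
    have := (inferInstance : H.Normal).conj_mem u.1 u.2 g⁻¹
    simpa using this
  let c : H → H := fun u => ⟨g⁻¹ * (u : M) * g * (u : M)⁻¹, hmem u⟩
  have hinj : Function.Injective c := by
    intro u₁ u₂ h12
    have e : g⁻¹ * (u₁ : M) * g * (u₁ : M)⁻¹ = g⁻¹ * (u₂ : M) * g * (u₂ : M)⁻¹ :=
      congrArg Subtype.val h12
    by_contra hne12
    apply hg
    refine ⟨(u₂ : M)⁻¹ * (u₁ : M), H.mul_mem (H.inv_mem u₂.2) u₁.2, ?_, ?_⟩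
    · intro h0
      apply hne12
      apply Subtype.ext
      exact (inv_mul_eq_one.mp h0).symm
    · have e2 : (u₁ : M) * g * (u₁ : M)⁻¹ = (u₂ : M) * g * (u₂ : M)⁻¹ := by
        have := congrArg (fun z => g * z) e
        simpa [mul_assoc] using this
      calc g * ((u₂ : M)⁻¹ * (u₁ : M))
          = (u₂ : M)⁻¹ * ((u₂ : M) * g * (u₂ : M)⁻¹) * (u₁ : M) := by group
        _ = (u₂ : M)⁻¹ * ((u₁ : M) * g * (u₁ : M)⁻¹) * (u₁ : M) := by rw [e2]
        _ = (u₂ : M)⁻¹ * (u₁ : M) * g := by group
  have hbij : Function.Bijective c := Finite.injective_iff_bijective.mp hinj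
  have h3 : ∀ u : H, χ (g * (c u : M)) = χ g := by
    intro u
    have : g * (c u : M) = (u : M) * g * (u : M)⁻¹ := by
      change g * (g⁻¹ * (u : M) * g * (u : M)⁻¹) = _
      group
    rw [this]
    exact hcl g u
  have h2 : ∑ u : H, χ (g * (c u : M)) = ∑ u : H, χ (g * (u : M)) :=
    Function.Bijective.sum_comp hbij (fun u : H => χ (g * (u : M)))
  unfold hAvg
  rw [← h2]
  simp only [h3, Finset.sum_const, Finset.card_univ, nsmul_eq_mul]
  rw [Nat.card_eq_fintype_card]
  have hcard : (Fintype.card H : ℂ) ≠ 0 := by exact_mod_cast Fintype.card_ne_zero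
  field_simp

/-- adjointness of the `H`-average -/
theorem sum_mul_hAvg (H : Subgroup M) [Fintype H] (φ χ : M → ℂ) :
    ∑ g : M, φ g * hAvg H χ g = ∑ g : M, hAvg H φ g * χ g := by
  unfold hAvg
  have h1 : ∀ h : H, ∑ g : M, φ g * χ (g * h) = ∑ g : M, φ (g * (h : M)⁻¹) * χ g := by
    intro h
    apply Fintype.sum_equiv (Equiv.mulRight (h : M))
    intro g
    simp
  have h2 : ∑ h : H, ∑ g : M, φ (g * (h : M)⁻¹) * χ g = ∑ h : H, ∑ g : M, φ (g * (h : M)) * χ g := by
    apply Fintype.sum_equiv (Equiv.inv H)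
    intro h
    simp
  calc ∑ g : M, φ g * ((Nat.card H : ℂ)⁻¹ * ∑ h : H, χ (g * h))
      = (Nat.card H : ℂ)⁻¹ * ∑ h : H, ∑ g : M, φ g * χ (g * h) := by
        have e1 : ∀ g : M, φ g * ((Nat.card H : ℂ)⁻¹ * ∑ h : H, χ (g * h))
            = (Nat.card H : ℂ)⁻¹ * ∑ h : H, φ g * χ (g * h) := by
          intro g
          rw [Finset.mul_sum, Finset.mul_sum, Finset.mul_sum]
          apply Finset.sum_congr rfl
          intro h _
          ring
        rw [Finset.sum_congr rfl (fun g _ => e1 g), ← Finset.mul_sum, Finset.sum_comm]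
    _ = (Nat.card H : ℂ)⁻¹ * ∑ h : H, ∑ g : M, φ (g * (h : M)) * χ g := by
        rw [Finset.sum_congr rfl (fun h _ => h1 h), h2]
    _ = ∑ g : M, ((Nat.card H : ℂ)⁻¹ * ∑ h : H, φ (g * h)) * χ g := by
        rw [Finset.sum_comm, Finset.mul_sum]
        apply Finset.sum_congr rfl
        intro g _
        rw [mul_assoc, Finset.sum_mul]

theorem char_mul_of_eq_one {χ : M → ℂ} (hχ : Cfsg.IsCharacter M χ) {h : M} (hh : χ h = χ 1)
    (g : M) : χ (g * h) = χ g := by
  obtain ⟨n, ρ, rfl⟩ := hχ
  have h1 : ρ.character 1 = (Module.finrank ℂ (Fin n → ℂ) : ℂ) := Representation.char_one ρ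
  rw [h1] at hh
  have h2 := (char_eq_finrank_iff ρ h).mp hh
  unfold Representation.character
  rw [map_mul, h2]
  rfl

theorem exists_rel_constituent (H : Subgroup M) {χ : M → ℂ} (hχ : Cfsg.IsCharacter M χ)
    (hrel : ∃ h ∈ H, χ h ≠ χ 1) :
    ∃ η : M → ℂ, Cfsg.IsIrrCharacter M η ∧ (∃ h ∈ H, η h ≠ η 1) ∧
      ∃ c : ℕ, 0 < c ∧ Cfsg.classInner χ η = (c : ℂ) := by
  have : Fintype (Cfsg.IrrCharacter M) := Fintype.ofFinite _
  by_contra hcon
  push Not at hcon
  obtain ⟨h, hh, hne⟩ := hrel
  apply hne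
  have hexp := class_fun_expand χ (isClassFunction_of_isCharacter hχ)
  have key : ∀ η : Cfsg.IrrCharacter M,
      Cfsg.classInner χ η * (η : M → ℂ) h = Cfsg.classInner χ η * (η : M → ℂ) 1 := by
    intro η
    by_cases hr : ∃ h ∈ H, (η : M → ℂ) h ≠ (η : M → ℂ) 1
    · obtain ⟨c, hc⟩ := classInner_isCharacter_nat hχ (isCharacter_of_isIrrCharacter η.2)
      have h3 := hcon η η.2 hr c
      have hc0 : c = 0 := by
        by_contra h0
        exact h3 (Nat.pos_of_ne_zero h0) hc
      rw [hc, hc0]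
      simp
    · push Not at hr
      rw [hr h hh]
  have e1 := congrFun hexp h
  have e2 := congrFun hexp 1
  rw [e1, e2]
  simp only [Finset.sum_apply, Pi.smul_apply, smul_eq_mul]
  exact Finset.sum_congr rfl (fun η _ => key η)

theorem sum_normSq_irr {η : M → ℂ} (hη : Cfsg.IsIrrCharacter M η) :
    ∑ g : M, Complex.normSq (η g) = (Fintype.card M : ℝ) := by
  have h1 := classInner_irr_self hη
  rw [classInner_def] at h1
  have hcard : (Nat.card M : ℂ) ≠ 0 := card_ne_zero_complex M
  have h2 : ∑ g : M, η g * conj (η g) = (Nat.card M : ℂ) := by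
    field_simp at h1
    exact h1
  have h3 : ((∑ g : M, Complex.normSq (η g) : ℝ) : ℂ) = ((Fintype.card M : ℝ) : ℂ) := by
    rw [Complex.ofReal_sum]
    simp only [← Complex.mul_conj]
    rw [h2, Nat.card_eq_fintype_card]
    simp
  exact_mod_cast h3

/-- lower bound for the sum of `|χ|^2` over the elements commuting with some nonidentity
element of the normal subgroup `H` -/
theorem ti_lower (H : Subgroup M) [H.Normal] [Fintype H]
    {χ : M → ℂ} (hχ : Cfsg.IsCharacter M χ) (hrel : ∃ h ∈ H, χ h ≠ χ 1) :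
    (Fintype.card M : ℝ) + ∑ g : M, commInd H g * Complex.normSq (hAvg H χ g)
      ≤ ∑ g : M, commInd H g * Complex.normSq (χ g) := by
  have hcl := isClassFunction_of_isCharacter hχ
  set α := hAvg H χ with hα
  have hinv : ∀ g : M, ∀ h ∈ H, conj (α (g * h)) = conj (α g) := fun g h hh => by
    rw [hα, hAvg_mul H χ g hh]
  have horth : ∑ g : M, conj (α g) * α g = ∑ g : M, conj (α g) * χ g := by
    rw [hα, sum_mul_hAvg H (fun g => conj (hAvg H χ g)) χ]
    apply Finset.sum_congr rfl
    intro g _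
    congr 1
    unfold hAvg
    have h1 : ∀ h : H, conj ((Nat.card H : ℂ)⁻¹ * ∑ h' : H, χ (g * (h : M) * h'))
        = conj ((Nat.card H : ℂ)⁻¹ * ∑ h' : H, χ (g * h')) := by
      intro h
      exact hinv g h h.2
    rw [Finset.sum_congr rfl (fun h _ => h1 h)]
    simp only [Finset.sum_const, Finset.card_univ, nsmul_eq_mul]
    rw [Nat.card_eq_fintype_card]
    have hcard : (Fintype.card H : ℂ) ≠ 0 := by exact_mod_cast Fintype.card_ne_zero
    field_simp
  have hpyth : ∑ g : M, Complex.normSq (χ g)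
      = ∑ g : M, Complex.normSq (α g) + ∑ g : M, Complex.normSq (χ g - α g) := by
    have h1 : ∀ g : M, Complex.normSq (χ g) = Complex.normSq (α g) + Complex.normSq (χ g - α g)
        + 2 * (α g * conj (χ g - α g)).re := by
      intro g
      have := Complex.normSq_add (α g) (χ g - α g)
      rw [add_sub_cancel] at this
      exact this
    have h2 : ∑ g : M, (α g * conj (χ g - α g)).re = 0 := by
      rw [← Complex.re_sum]
      have h3 : ∑ g : M, α g * conj (χ g - α g)
          = conj (∑ g : M, (conj (α g) * χ g - conj (α g) * α g)) := by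
        rw [map_sum]
        apply Finset.sum_congr rfl
        intro g _
        simp only [map_sub, map_mul, Complex.conj_conj]
        ring
      rw [h3, Finset.sum_sub_distrib, horth, sub_self, map_zero, Complex.zero_re]
    rw [Finset.sum_congr rfl (fun g _ => h1 g), Finset.sum_add_distrib, Finset.sum_add_distrib,
      ← Finset.mul_sum, h2]
    ring
  have hβ : (Fintype.card M : ℝ) ≤ ∑ g : M, Complex.normSq (χ g - α g) := by
    obtain ⟨η, hη, hηrel, c, hc0, hc⟩ := exists_rel_constituent H hχ hrel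
    have hsumη : ∀ g : M, ∑ h : H, η (g * h) = 0 := fun g =>
      Cfsg.Agent.Lib.Lead.TIFN.sum_coset_eq_zero H hη hηrel g
    have hαη : ∑ g : M, conj (η g) * α g = 0 := by
      rw [hα, sum_mul_hAvg H (fun g => conj (η g)) χ]
      apply Finset.sum_eq_zero
      intro g _
      unfold hAvg
      rw [← map_sum, hsumη g]
      simp
    have hcard : (Nat.card M : ℂ) ≠ 0 := card_ne_zero_complex M
    have hχη : ∑ g : M, χ g * conj (η g) = (Fintype.card M : ℂ) * c := by
      rw [classInner_def] at hc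
      rw [← Nat.card_eq_fintype_card, ← hc]
      field_simp
    have hβη : ∑ g : M, ((χ g - α g) * conj (η g)).re = (Fintype.card M : ℝ) * c := by
      rw [← Complex.re_sum]
      have h3 : ∑ g : M, (χ g - α g) * conj (η g)
          = ∑ g : M, χ g * conj (η g) - ∑ g : M, conj (η g) * α g := by
        rw [← Finset.sum_sub_distrib]
        apply Finset.sum_congr rfl
        intro g _
        ring
      rw [h3, hαη, hχη, sub_zero]
      simp
    have hηη := sum_normSq_irr hη
    have hexp : ∀ g : M, Complex.normSq ((χ g - α g) - (c : ℂ) * η g)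
        = Complex.normSq (χ g - α g) + (c : ℝ) ^ 2 * Complex.normSq (η g)
          - 2 * (c : ℝ) * ((χ g - α g) * conj (η g)).re := by
      intro g
      simp only [Complex.normSq_apply, Complex.sub_re, Complex.sub_im, Complex.mul_re,
        Complex.mul_im, Complex.natCast_re, Complex.natCast_im, Complex.conj_re, Complex.conj_im]
      ring
    have hnn : 0 ≤ ∑ g : M, Complex.normSq ((χ g - α g) - (c : ℂ) * η g) :=
      Finset.sum_nonneg (fun g _ => Complex.normSq_nonneg _)
    rw [Finset.sum_congr rfl (fun g _ => hexp g), Finset.sum_sub_distrib, Finset.sum_add_distrib,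
      ← Finset.mul_sum, ← Finset.mul_sum, hηη, hβη] at hnn
    have hc1 : (1 : ℝ) ≤ c := by exact_mod_cast hc0
    have hM0 : (0 : ℝ) ≤ Fintype.card M := by positivity
    nlinarith [mul_nonneg hM0 (sub_nonneg.mpr hc1), mul_nonneg (mul_nonneg hM0 (sub_nonneg.mpr hc1)) (sub_nonneg.mpr hc1)]
  have hsplit : ∀ f : M → ℝ, ∑ g : M, f g
      = ∑ g : M, commInd H g * f g + ∑ g : M, (1 - commInd H g) * f g := by
    intro f
    rw [← Finset.sum_add_distrib]
    apply Finset.sum_congr rfl
    intro g _
    ring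
  have hnd : ∑ g : M, (1 - commInd H g) * Complex.normSq (χ g)
      = ∑ g : M, (1 - commInd H g) * Complex.normSq (α g) := by
    apply Finset.sum_congr rfl
    intro g _
    by_cases hD : ∃ h ∈ H, h ≠ 1 ∧ g * h = h * g
    · rw [commInd_pos H hD]
      simp
    · rw [hα, hAvg_of_fpf H hcl g hD]
  have e1 := hsplit (fun g => Complex.normSq (χ g))
  have e2 := hsplit (fun g => Complex.normSq (α g))
  linarith

end avg

section main

variable {G : Type*} [Group G]

theorem conj_mem_normalizer_of_map_eq (H : Subgroup G) {a b : G}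
    (h : H.map (MulAut.conj a).toMonoidHom = H.map (MulAut.conj b).toMonoidHom) :
    b⁻¹ * a ∈ Subgroup.normalizer (H : Set G) := by
  rw [Subgroup.mem_normalizer_iff]
  intro n
  constructor
  · intro hn
    have h1 : a * n * a⁻¹ ∈ H.map (MulAut.conj a).toMonoidHom :=
      ⟨n, hn, by simp [MulAut.conj_apply]⟩
    rw [h] at h1
    obtain ⟨m, hm, hme⟩ := h1
    have hme' : b * m * b⁻¹ = a * n * a⁻¹ := by simpa [MulAut.conj_apply] using hme
    have h2 : b⁻¹ * a * n * (b⁻¹ * a)⁻¹ = m := by
      calc b⁻¹ * a * n * (b⁻¹ * a)⁻¹ = b⁻¹ * (a * n * a⁻¹) * b := by group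
        _ = b⁻¹ * (b * m * b⁻¹) * b := by rw [hme']
        _ = m := by group
    rw [h2]
    exact hm
  · intro hn
    have h1 : b * (b⁻¹ * a * n * (b⁻¹ * a)⁻¹) * b⁻¹ ∈ H.map (MulAut.conj b).toMonoidHom :=
      ⟨_, hn, by simp [MulAut.conj_apply]⟩
    rw [← h] at h1
    obtain ⟨m, hm, hme⟩ := h1
    have hme' : a * m * a⁻¹ = b * (b⁻¹ * a * n * (b⁻¹ * a)⁻¹) * b⁻¹ := by
      simpa [MulAut.conj_apply] using hme
    have h2 : n = m := by
      have h3 : a * m * a⁻¹ = a * n * a⁻¹ := by
        rw [hme']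
        group
      have h4 : m = n := by simpa using h3
      exact h4.symm
    rw [h2]
    exact hm

/-- noncentral elements commuting with a nonidentity element of `H` -/
def tiSet (H : Subgroup G) (g : G) : Prop :=
  g ∉ Subgroup.center G ∧ ∃ h ∈ H, h ≠ 1 ∧ g * h = h * g

theorem mem_normalizer_of_commute (H : Subgroup G) (hZ : H ⊓ Subgroup.center G = ⊥)
    (hone : ∀ g : G, g ∉ Subgroup.center G → ∀ a b : G,
      Subgroup.centralizer ({g} : Set G) ⊓ H.map (MulAut.conj a).toMonoidHom ≠ ⊥ →
      Subgroup.centralizer ({g} : Set G) ⊓ H.map (MulAut.conj b).toMonoidHom ≠ ⊥ →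
      H.map (MulAut.conj a).toMonoidHom = H.map (MulAut.conj b).toMonoidHom)
    {g h : G} (hh : h ∈ H) (hh1 : h ≠ 1) (hcomm : g * h = h * g) :
    g ∈ Subgroup.normalizer (H : Set G) := by
  have hhZ : h ∉ Subgroup.center G := by
    intro hc
    have : h ∈ H ⊓ Subgroup.center G := ⟨hh, hc⟩
    rw [hZ] at this
    exact hh1 (Subgroup.mem_bot.mp this)
  have hself : h ∈ Subgroup.centralizer ({h} : Set G) := by
    rw [Subgroup.mem_centralizer_iff]
    intro y hy
    rw [Set.mem_singleton_iff.mp hy]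
  have h1 : Subgroup.centralizer ({h} : Set G) ⊓ H.map (MulAut.conj (1 : G)).toMonoidHom ≠ ⊥ := by
    intro hbot
    have : h ∈ Subgroup.centralizer ({h} : Set G) ⊓ H.map (MulAut.conj (1 : G)).toMonoidHom :=
      ⟨hself, ⟨h, hh, by simp⟩⟩
    rw [hbot] at this
    exact hh1 (Subgroup.mem_bot.mp this)
  have h2 : Subgroup.centralizer ({h} : Set G) ⊓ H.map (MulAut.conj g).toMonoidHom ≠ ⊥ := by
    intro hbot
    have : h ∈ Subgroup.centralizer ({h} : Set G) ⊓ H.map (MulAut.conj g).toMonoidHom := by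
      refine ⟨hself, ⟨h, hh, ?_⟩⟩
      simp only [MulEquiv.coe_toMonoidHom, MulAut.conj_apply]
      rw [hcomm]
      group
    rw [hbot] at this
    exact hh1 (Subgroup.mem_bot.mp this)
  have h3 := conj_mem_normalizer_of_map_eq H (hone h hhZ 1 g h1 h2)
  have h4 := inv_mem h3
  simpa using h4

theorem tiSet_conj_mem (H : Subgroup G)
    (hone : ∀ g : G, g ∉ Subgroup.center G → ∀ a b : G,
      Subgroup.centralizer ({g} : Set G) ⊓ H.map (MulAut.conj a).toMonoidHom ≠ ⊥ →
      Subgroup.centralizer ({g} : Set G) ⊓ H.map (MulAut.conj b).toMonoidHom ≠ ⊥ →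
      H.map (MulAut.conj a).toMonoidHom = H.map (MulAut.conj b).toMonoidHom)
    {g x : G} (hg : tiSet H g) (hx : tiSet H (x * g * x⁻¹)) :
    x ∈ Subgroup.normalizer (H : Set G) := by
  obtain ⟨hgZ, h, hh, hh1, hcomm⟩ := hg
  obtain ⟨_, h', hh', hh'1, hcomm'⟩ := hx
  have h1 : Subgroup.centralizer ({g} : Set G) ⊓ H.map (MulAut.conj (1 : G)).toMonoidHom ≠ ⊥ := by
    intro hbot
    have hc : h ∈ Subgroup.centralizer ({g} : Set G) := by
      rw [Subgroup.mem_centralizer_iff]
      intro y hy
      rw [Set.mem_singleton_iff.mp hy]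
      exact hcomm
    have : h ∈ Subgroup.centralizer ({g} : Set G) ⊓ H.map (MulAut.conj (1 : G)).toMonoidHom :=
      ⟨hc, ⟨h, hh, by simp⟩⟩
    rw [hbot] at this
    exact hh1 (Subgroup.mem_bot.mp this)
  have h2 : Subgroup.centralizer ({g} : Set G) ⊓ H.map (MulAut.conj x⁻¹).toMonoidHom ≠ ⊥ := by
    intro hbot
    have hc : x⁻¹ * h' * x ∈ Subgroup.centralizer ({g} : Set G) := by
      rw [Subgroup.mem_centralizer_iff]
      intro y hy
      rw [Set.mem_singleton_iff.mp hy]
      calc g * (x⁻¹ * h' * x) = x⁻¹ * (x * g * x⁻¹ * h') * x := by group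
        _ = x⁻¹ * (h' * (x * g * x⁻¹)) * x := by rw [hcomm']
        _ = x⁻¹ * h' * x * g := by group
    have : x⁻¹ * h' * x ∈ Subgroup.centralizer ({g} : Set G)
        ⊓ H.map (MulAut.conj x⁻¹).toMonoidHom :=
      ⟨hc, ⟨h', hh', by simp⟩⟩
    rw [hbot] at this
    apply hh'1
    have h5 : x⁻¹ * h' * x = 1 := Subgroup.mem_bot.mp this
    calc h' = x * (x⁻¹ * h' * x) * x⁻¹ := by group
      _ = 1 := by rw [h5]; group
  have h3 := conj_mem_normalizer_of_map_eq H (hone g hgZ 1 x⁻¹ h1 h2)
  simpa using h3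

variable [Fintype G]

theorem ti_upper (H : Subgroup G)
    (hone : ∀ g : G, g ∉ Subgroup.center G → ∀ a b : G,
      Subgroup.centralizer ({g} : Set G) ⊓ H.map (MulAut.conj a).toMonoidHom ≠ ⊥ →
      Subgroup.centralizer ({g} : Set G) ⊓ H.map (MulAut.conj b).toMonoidHom ≠ ⊥ →
      H.map (MulAut.conj a).toMonoidHom = H.map (MulAut.conj b).toMonoidHom)
    (f : G → ℝ) (hf : ∀ g, 0 ≤ f g) (hfc : ∀ g x : G, f (x * g * x⁻¹) = f g) :
    (Fintype.card G : ℝ) * ∑ g : G, (if tiSet H g then f g else 0)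
      ≤ (Nat.card (Subgroup.normalizer (H : Set G)) : ℝ)
          * ∑ g : G, (if g ∈ Subgroup.center G then 0 else f g) := by
  have : Fintype (Subgroup.normalizer (H : Set G)) := Fintype.ofFinite _
  have h1 : ∀ x : G, ∑ g : G, (if tiSet H g then f g else 0)
      = ∑ y : G, (if tiSet H (x⁻¹ * y * x) then f y else 0) := by
    intro x
    apply Fintype.sum_equiv (MulAut.conj x).toEquiv
    intro g
    have e1 : x⁻¹ * ((MulAut.conj x).toEquiv g) * x = g := by
      simp [MulAut.conj_apply]
      group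
    have e2 : f ((MulAut.conj x).toEquiv g) = f g := by
      simp only [MulEquiv.toEquiv_eq_coe, MulEquiv.coe_toEquiv, MulAut.conj_apply]
      exact hfc g x
    rw [e1, e2]
  have h2 : (Fintype.card G : ℝ) * ∑ g : G, (if tiSet H g then f g else 0)
      = ∑ y : G, ∑ x : G, (if tiSet H (x⁻¹ * y * x) then f y else 0) := by
    rw [Finset.sum_comm]
    rw [← Finset.sum_congr rfl (fun x _ => h1 x)]
    simp [Finset.sum_const, Finset.card_univ]
  rw [h2, Finset.mul_sum]
  apply Finset.sum_le_sum
  intro y _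
  by_cases hy : y ∈ Subgroup.center G
  · rw [if_pos hy, mul_zero]
    apply le_of_eq
    apply Finset.sum_eq_zero
    intro x _
    rw [if_neg]
    intro ht
    apply ht.1
    have : x⁻¹ * y * x = y := by
      rw [mul_assoc, ← Subgroup.mem_center_iff.mp hy x, ← mul_assoc, inv_mul_cancel, one_mul]
    rw [this]
    exact hy
  · rw [if_neg hy]
    rw [← Finset.sum_filter, Finset.sum_const, nsmul_eq_mul]
    apply mul_le_mul_of_nonneg_right _ (hf y)
    have hcard : (Finset.univ.filter (fun x : G => tiSet H (x⁻¹ * y * x))).card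
        ≤ Nat.card (Subgroup.normalizer (H : Set G)) := by
      rcases Finset.eq_empty_or_nonempty (Finset.univ.filter (fun x : G => tiSet H (x⁻¹ * y * x)))
        with hem | ⟨x₀, hx₀⟩
      · rw [hem]
        simp
      · rw [Finset.mem_filter] at hx₀
        have hsub : Finset.univ.filter (fun x : G => tiSet H (x⁻¹ * y * x))
            ⊆ Finset.image (fun n : Subgroup.normalizer (H : Set G) => x₀ * (n : G)) Finset.univ := by
          intro x hx
          rw [Finset.mem_filter] at hx
          rw [Finset.mem_image]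
          have hmem : x⁻¹ * x₀ ∈ Subgroup.normalizer (H : Set G) := by
            apply tiSet_conj_mem H hone hx₀.2
            have e : x⁻¹ * x₀ * (x₀⁻¹ * y * x₀) * (x⁻¹ * x₀)⁻¹ = x⁻¹ * y * x := by group
            rw [e]
            exact hx.2
          refine ⟨⟨x₀⁻¹ * x, ?_⟩, Finset.mem_univ _, ?_⟩
          · have := inv_mem hmem
            simpa using this
          · simp
        calc (Finset.univ.filter (fun x : G => tiSet H (x⁻¹ * y * x))).card
            ≤ (Finset.image (fun n : Subgroup.normalizer (H : Set G) => x₀ * (n : G))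
                Finset.univ).card := Finset.card_le_card hsub
          _ ≤ (Finset.univ : Finset (Subgroup.normalizer (H : Set G))).card := Finset.card_image_le
          _ = Nat.card (Subgroup.normalizer (H : Set G)) := by
              rw [Finset.card_univ, Nat.card_eq_fintype_card]
    exact_mod_cast hcard

theorem ti_arith (cG cZ cN cH n2 a2 SA : ℝ) (hcG : 0 < cG) (hcZ : 0 < cZ) (hcN : 0 < cN)
    (hn2 : 0 < n2) (hA : cN + cH * cZ * a2 ≤ cZ * n2 + SA)
    (hB : cG * SA ≤ cN * (cG - cZ * n2)) : cH * a2 < n2 := by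
  have hC : cG * (cN + cH * cZ * a2) ≤ cG * (cZ * n2 + SA) :=
    mul_le_mul_of_nonneg_left hA hcG.le
  have hpos : 0 < cN * cZ * n2 := by positivity
  have hE : cG * cZ * (cH * a2) < cG * cZ * n2 := by nlinarith
  exact lt_of_mul_lt_mul_left hE (by positivity)

theorem central_mul_char {χ : G → ℂ} (hχ : Cfsg.IsIrrCharacter G χ) {z : G}
    (hz : z ∈ Subgroup.center G) :
    ∃ ω : ℂ, Complex.normSq ω = 1 ∧ ∀ g : G, χ (z * g) = ω * χ g := by
  obtain ⟨d, ρ, hirr, rfl⟩ := hχ
  obtain ⟨ω, hω⟩ := central_scalar ρ hirr z hz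
  have := hirr
  have : Nontrivial (Fin d → ℂ) := irr_nontrivial ρ
  refine ⟨ω, ?_, fun g => char_scalar_mul ρ hω g⟩
  have h1 := scalar_norm ρ hω
  rw [Complex.normSq_eq_norm_sq, h1]
  norm_num

/-- the degree bound: `|H| * |(χ_H, 1_H)|^2 < χ(1)^2` -/
theorem ti_bound (H : Subgroup G) [Fintype H]
    (hab : ∀ a ∈ H, ∀ b ∈ H, a * b = b * a)
    (hZ : H ⊓ Subgroup.center G = ⊥)
    (hone : ∀ g : G, g ∉ Subgroup.center G → ∀ a b : G,
      Subgroup.centralizer ({g} : Set G) ⊓ H.map (MulAut.conj a).toMonoidHom ≠ ⊥ →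
      Subgroup.centralizer ({g} : Set G) ⊓ H.map (MulAut.conj b).toMonoidHom ≠ ⊥ →
      H.map (MulAut.conj a).toMonoidHom = H.map (MulAut.conj b).toMonoidHom)
    (χ : G → ℂ) (hχ : Cfsg.IsIrrCharacter G χ) (hker : ∃ h ∈ H, χ h ≠ χ 1) :
    (Nat.card H : ℝ) * Complex.normSq (Cfsg.classInner (fun h : H => χ h) (fun _ => 1))
      < Complex.normSq (χ 1) := by
  set N := Subgroup.normalizer (H : Set G) with hN
  have hFN : Fintype N := Fintype.ofFinite N
  have hHN : H ≤ N := Subgroup.le_normalizer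
  have hZN : Subgroup.center G ≤ N := Subgroup.center_le_normalizer _
  set Hn : Subgroup N := H.subgroupOf N with hHn
  have hFHn : Fintype Hn := Fintype.ofFinite Hn
  have hnorm : Hn.Normal := Subgroup.normal_in_normalizer
  have hcl := isClassFunction_of_isIrrCharacter hχ
  set χ' : N → ℂ := fun g => χ g with hχ'
  have hχ'c : Cfsg.IsCharacter N χ' := IsCharacter.restrict (isCharacter_of_isIrrCharacter hχ) N
  obtain ⟨h₀, hh₀, hne₀⟩ := hker
  have hh₀1 : h₀ ≠ 1 := by
    rintro rfl
    exact hne₀ rfl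
  have hrel' : ∃ h ∈ Hn, χ' h ≠ χ' 1 :=
    ⟨⟨h₀, hHN hh₀⟩, Subgroup.mem_subgroupOf.mpr hh₀, hne₀⟩
  have hlow := ti_lower Hn hχ'c hrel'
  set a := Cfsg.classInner (fun h : H => χ h) (fun _ => 1) with ha
  have hDiff : ∀ g : N, (∃ h ∈ Hn, h ≠ 1 ∧ g * h = h * g)
      ↔ (∃ h ∈ H, h ≠ 1 ∧ (g : G) * h = h * (g : G)) := by
    intro g
    constructor
    · rintro ⟨h, hh, hh1, hc⟩
      exact ⟨h, Subgroup.mem_subgroupOf.mp hh, fun h0 => hh1 (Subtype.ext h0),
        congrArg Subtype.val hc⟩
    · rintro ⟨h, hh, hh1, hc⟩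
      exact ⟨⟨h, hHN hh⟩, Subgroup.mem_subgroupOf.mpr hh,
        fun h0 => hh1 (congrArg Subtype.val h0), Subtype.ext hc⟩
  have hcen : ∀ z ∈ Subgroup.center G, ∀ g : G,
      Complex.normSq (χ (z * g)) = Complex.normSq (χ g) := by
    intro z hz g
    obtain ⟨ω, hω1, hω⟩ := central_mul_char hχ hz
    rw [hω g, Complex.normSq_mul, hω1, one_mul]
  have hDiff' : ∀ g : N, commInd Hn g = commInd H (g : G) := by
    intro g
    by_cases hd : ∃ h ∈ H, h ≠ 1 ∧ (g : G) * h = h * (g : G)
    · rw [commInd_pos H hd, commInd_pos Hn ((hDiff g).mpr hd)]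
    · rw [commInd_neg H hd, commInd_neg Hn (fun h => hd ((hDiff g).mp h))]
  -- the upper estimate on the normalizer
  have hU : ∑ g : N, commInd Hn g * Complex.normSq (χ' g)
      ≤ ∑ g : G, (if g ∈ Subgroup.center G then Complex.normSq (χ g) else 0)
        + ∑ g : G, (if tiSet H g then Complex.normSq (χ g) else 0) := by
    have e1 : ∑ g : N, commInd Hn g * Complex.normSq (χ' g)
        = ∑ g : N, (fun g : G => commInd H g * Complex.normSq (χ g)) g := by
      apply Finset.sum_congr rfl
      intro g _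
      rw [hDiff' g]
    have e2 : ∑ g : N, (fun g : G => commInd H g * Complex.normSq (χ g)) g
        = ∑ g ∈ Finset.univ.filter (· ∈ N), commInd H g * Complex.normSq (χ g) :=
      (Finset.sum_subtype (Finset.univ.filter (· ∈ N)) (by simp)
        (fun g : G => commInd H g * Complex.normSq (χ g))).symm
    rw [e1, e2, ← Finset.sum_add_distrib]
    have e3 : ∑ g ∈ Finset.univ.filter (· ∈ N), commInd H g * Complex.normSq (χ g)
        ≤ ∑ g : G, commInd H g * Complex.normSq (χ g) := by
      apply Finset.sum_le_sum_of_subset_of_nonneg (Finset.filter_subset _ _)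
      intro g _ _
      exact mul_nonneg (commInd_nonneg H g) (Complex.normSq_nonneg _)
    refine le_trans e3 ?_
    apply Finset.sum_le_sum
    intro g _
    by_cases hz : g ∈ Subgroup.center G
    · rw [if_pos hz]
      have hnt : ¬ tiSet H g := fun ht => ht.1 hz
      rw [if_neg hnt, add_zero]
      have h6 : commInd H g * Complex.normSq (χ g) ≤ 1 * Complex.normSq (χ g) :=
        mul_le_mul_of_nonneg_right (commInd_le_one H g) (Complex.normSq_nonneg _)
      rw [one_mul] at h6
      exact h6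
    · rw [if_neg hz, zero_add]
      by_cases hd : ∃ h ∈ H, h ≠ 1 ∧ g * h = h * g
      · rw [commInd_pos H hd, if_pos ⟨hz, hd⟩, one_mul]
      · rw [commInd_neg H hd, zero_mul]
        split_ifs
        · exact Complex.normSq_nonneg _
        · exact le_refl _
  -- the central part
  have hSZ : ∑ g : G, (if g ∈ Subgroup.center G then Complex.normSq (χ g) else 0)
      = (Nat.card (Subgroup.center G) : ℝ) * Complex.normSq (χ 1) := by
    have h1 : ∀ g : G, (if g ∈ Subgroup.center G then Complex.normSq (χ g) else 0)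
        = (if g ∈ Subgroup.center G then Complex.normSq (χ 1) else 0) := by
      intro g
      split_ifs with hz
      · have := hcen g hz 1
        rw [mul_one] at this
        exact this
      · rfl
    rw [Finset.sum_congr rfl (fun g _ => h1 g), ← Finset.sum_filter, Finset.sum_const,
      nsmul_eq_mul]
    congr 2
    exact ((Nat.card_eq_fintype_card).trans (Fintype.card_subtype _)).symm
  -- the lower estimate for the average
  have hLα : (Nat.card H : ℝ) * (Nat.card (Subgroup.center G) : ℝ) * Complex.normSq a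
      ≤ ∑ g : N, commInd Hn g * Complex.normSq (hAvg Hn χ' g) := by
    have hFZ : Fintype (Subgroup.center G) := Fintype.ofFinite _
    set F : N → ℝ := fun g => commInd Hn g * Complex.normSq (hAvg Hn χ' g) with hF
    have hFnn : ∀ g : N, 0 ≤ F g := by
      intro g
      exact mul_nonneg (commInd_nonneg Hn g) (Complex.normSq_nonneg _)
    let φ : H × Subgroup.center G → N := fun p =>
      ⟨(p.1 : G) * (p.2 : G), N.mul_mem (hHN p.1.2) (hZN p.2.2)⟩
    have hφinj : Function.Injective φ := by
      rintro ⟨h, z⟩ ⟨h', z'⟩ heq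
      have e : (h : G) * (z : G) = (h' : G) * (z' : G) := congrArg Subtype.val heq
      have hmem : (h' : G)⁻¹ * (h : G) ∈ H ⊓ Subgroup.center G := by
        refine ⟨H.mul_mem (H.inv_mem h'.2) h.2, ?_⟩
        have e2 : (h' : G)⁻¹ * (h : G) = (z' : G) * (z : G)⁻¹ := by
          calc (h' : G)⁻¹ * (h : G) = (h' : G)⁻¹ * ((h : G) * (z : G)) * (z : G)⁻¹ := by group
            _ = (h' : G)⁻¹ * ((h' : G) * (z' : G)) * (z : G)⁻¹ := by rw [e]
            _ = (z' : G) * (z : G)⁻¹ := by group
        rw [e2]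
        exact (Subgroup.center G).mul_mem z'.2 ((Subgroup.center G).inv_mem z.2)
      rw [hZ] at hmem
      have e3 : (h : G) = (h' : G) := (inv_mul_eq_one.mp (Subgroup.mem_bot.mp hmem)).symm
      have e4 : (z : G) = (z' : G) := by
        rw [e3] at e
        exact mul_left_cancel e
      exact Prod.ext (Subtype.ext e3) (Subtype.ext e4)
    have hval : ∀ p : H × Subgroup.center G, F (φ p) = Complex.normSq a := by
      rintro ⟨h, z⟩
      rw [hF]
      beta_reduce
      have hzc := Subgroup.mem_center_iff.mp z.2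
      have hcond : ∃ u ∈ Hn, u ≠ 1 ∧ φ (h, z) * u = u * φ (h, z) := by
        refine ⟨⟨h₀, hHN hh₀⟩, Subgroup.mem_subgroupOf.mpr hh₀,
          fun h0 => hh₀1 (congrArg Subtype.val h0), Subtype.ext ?_⟩
        change (h : G) * (z : G) * h₀ = h₀ * ((h : G) * (z : G))
        calc (h : G) * (z : G) * h₀ = (h : G) * h₀ * (z : G) := by
              rw [mul_assoc, ← hzc h₀, mul_assoc]
          _ = h₀ * (h : G) * (z : G) := by rw [hab h h.2 h₀ hh₀]
          _ = h₀ * ((h : G) * (z : G)) := by rw [mul_assoc]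
      rw [commInd_pos Hn hcond, one_mul]
      obtain ⟨ω, hω1, hω⟩ := central_mul_char hχ z.2
      have hav : hAvg Hn χ' (φ (h, z)) = ω * a := by
        unfold hAvg
        have e1 : ∑ u : Hn, χ' (φ (h, z) * u) = ∑ v : H, χ ((h : G) * (z : G) * (v : G)) := by
          apply Fintype.sum_equiv (Subgroup.subgroupOfEquivOfLe hHN).toEquiv
          intro u
          rfl
        have e2 : ∑ v : H, χ ((h : G) * (z : G) * (v : G)) = ω * ∑ v : H, χ (v : G) := by
          rw [Finset.mul_sum]
          apply Fintype.sum_equiv (Equiv.mulLeft h)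
          intro v
          have e5 : (h : G) * (z : G) * (v : G) = (z : G) * ((h : G) * (v : G)) := by
            rw [hzc (h : G), mul_assoc]
          rw [e5, hω]
          rfl
        have e3 : Nat.card Hn = Nat.card H :=
          Nat.card_congr (Subgroup.subgroupOfEquivOfLe hHN).toEquiv
        rw [e1, e2, e3, ha, classInner_def]
        simp only [map_one, mul_one]
        ring
      rw [hav, Complex.normSq_mul, hω1, one_mul]
    calc (Nat.card H : ℝ) * (Nat.card (Subgroup.center G) : ℝ) * Complex.normSq a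
        = ∑ p : H × Subgroup.center G, Complex.normSq a := by
          rw [Finset.sum_const, Finset.card_univ, Fintype.card_prod, nsmul_eq_mul,
            Nat.card_eq_fintype_card, Nat.card_eq_fintype_card]
          push_cast
          ring
      _ = ∑ p : H × Subgroup.center G, F (φ p) :=
          Finset.sum_congr rfl (fun p _ => (hval p).symm)
      _ = ∑ g ∈ Finset.univ.image φ, F g :=
          (Finset.sum_image (f := F) (g := φ) (fun x _ y _ hxy => hφinj hxy)).symm
      _ ≤ ∑ g : N, F g :=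
          Finset.sum_le_sum_of_subset_of_nonneg (Finset.subset_univ _) (fun g _ _ => hFnn g)
  -- the TI estimate
  have hup := ti_upper H hone (fun g => Complex.normSq (χ g)) (fun g => Complex.normSq_nonneg _)
    (fun g x => by rw [hcl g x])
  have hGsum := sum_normSq_irr hχ
  have hsplit : ∑ g : G, Complex.normSq (χ g)
      = ∑ g : G, (if g ∈ Subgroup.center G then Complex.normSq (χ g) else 0)
        + ∑ g : G, (if g ∈ Subgroup.center G then 0 else Complex.normSq (χ g)) := by
    rw [← Finset.sum_add_distrib]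
    apply Finset.sum_congr rfl
    intro g _
    split_ifs <;> simp
  -- positivity
  obtain ⟨d, hd0, hd⟩ := irr_apply_one hχ
  have hn2 : 0 < Complex.normSq (χ 1) := by
    rw [hd, Complex.normSq_natCast]
    have : (0 : ℝ) < d := by exact_mod_cast hd0
    positivity
  have hcG : (0 : ℝ) < Fintype.card G := by exact_mod_cast Fintype.card_pos
  have hcZ : (0 : ℝ) < Nat.card (Subgroup.center G) := by exact_mod_cast Nat.card_pos
  have hcN : (0 : ℝ) < Nat.card N := by exact_mod_cast Nat.card_pos
  have hNcard : (Fintype.card N : ℝ) = Nat.card N := by rw [Nat.card_eq_fintype_card]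
  rw [hNcard] at hlow
  have hA : (Nat.card N : ℝ) + (Nat.card H : ℝ) * (Nat.card (Subgroup.center G) : ℝ)
        * Complex.normSq a
      ≤ (Nat.card (Subgroup.center G) : ℝ) * Complex.normSq (χ 1)
        + ∑ g : G, (if tiSet H g then Complex.normSq (χ g) else 0) := by
    rw [hSZ] at hU
    linarith
  have hB : (Fintype.card G : ℝ) * ∑ g : G, (if tiSet H g then Complex.normSq (χ g) else 0)
      ≤ (Nat.card N : ℝ) * ((Fintype.card G : ℝ)
          - (Nat.card (Subgroup.center G) : ℝ) * Complex.normSq (χ 1)) := by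
    have h5 : ∑ g : G, (if g ∈ Subgroup.center G then 0 else Complex.normSq (χ g))
        = (Fintype.card G : ℝ) - (Nat.card (Subgroup.center G) : ℝ) * Complex.normSq (χ 1) := by
      rw [hSZ, hGsum] at hsplit
      linarith
    rw [h5] at hup
    exact hup
  exact ti_arith _ _ _ _ _ _ _ hcG hcZ hcN hn2 hA hB

end main

end

end Cfsg.Agent.Lib.Helper8
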