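import Mathlib
import Cfsg.Prelude.Def_Blocks
import Cfsg.Agent.Lib.Helper8.BlockInd
import Cfsg.Agent.Lib.Helper8.BlockNormal
import Cfsg.Agent.Lib.Helper8.SecondMain

set_option autoImplicit false

/-!
Decomposition of a central idempotent modulo the local ideal along the block idempotents,
and the refinement of the existence of Brauer correspondents: the correspondent can be
chosen with a unit coefficient at a prescribed element.
-/

namespace Cfsg.Agent.Lib.Helper8

open Cfsg Cfsg.Agent.Lib.Helper2 Cfsg.Agent.Lib.Helper25

open scoped ComplexConjugate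

section bc

variable {G : Type*} [Group G] [Fintype G] {p : ℕ} {M : Ideal AlgInt}

theorem conv_blockCoeff_idem_aux [Fact p.Prime] (hM : IsPModular p M) (r : G → ℂ)
    (hidem : ∀ g, MemLocalIdeal M (conv r r g - r g))
    (b : Set (IrrCharacter G)) (hb : BlockClosed M b) (g : G) :
    MemLocalIdeal M (conv (conv r r - r) (blockCoeff b) g) := by
  have heR : ∀ g, MemLocalRing M (blockCoeff b g) := blockCoeff_memLocalRing hM b hb
  exact conv_memLocalIdeal_left hM (r := conv r r - r) (s := blockCoeff b)
    (fun x => by rw [Pi.sub_apply]; exact hidem x) heR g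

/-- if all central characters of the block `b` kill `r` modulo the ideal, then `r e_b`
vanishes modulo the ideal -/
theorem conv_blockCoeff_mem_of_omega [Fact p.Prime] (hM : IsPModular p M) (r : G → ℂ)
    (hr : IsClassFunction G r) (hrR : ∀ g, MemLocalRing M (r g))
    (hidem : ∀ g, MemLocalIdeal M (conv r r g - r g))
    (b : Set (IrrCharacter G)) (hb : BlockClosed M b)
    (hω : ∀ χ : IrrCharacter G, χ ∈ b → MemLocalIdeal M (omegaFun (χ : G → ℂ) r)) :
    ∀ g, MemLocalIdeal M (conv r (blockCoeff b) g) := by
  classical
  have hpr := isPrime_of_isPModular hM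
  have : Fintype (IrrCharacter G) := Fintype.ofFinite _
  have he : IsClassFunction G (blockCoeff b) := blockCoeff_isClassFunction b
  have heR : ∀ g, MemLocalRing M (blockCoeff b g) := blockCoeff_memLocalRing hM b hb
  have hscf : IsClassFunction G (conv r (blockCoeff b)) := conv_isClassFunction hr he
  have hsR : ∀ g, MemLocalRing M (conv r (blockCoeff b) g) := conv_memLocalRing hM hrR heR
  have hsω : ∀ χ : IrrCharacter G, omegaFun (χ : G → ℂ) (conv r (blockCoeff b))
      = omegaFun (χ : G → ℂ) r * (if χ ∈ b then 1 else 0) := by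
    intro χ
    rw [omegaFun_conv χ hr he, omegaFun_blockCoeff]
  apply memLocalIdeal_of_idem_of_omega hM _ hscf hsR
  · intro g
    have e : conv (conv r (blockCoeff b)) (conv r (blockCoeff b)) - conv r (blockCoeff b)
        = conv (conv r r - r) (blockCoeff b) := by
      apply eq_of_omegaFun (IsClassFunction.sub' (conv_isClassFunction hscf hscf) hscf)
        (conv_isClassFunction (IsClassFunction.sub' (conv_isClassFunction hr hr) hr) he)
      intro χ
      rw [omegaFun_sub, omegaFun_conv χ hscf hscf, hsω,
        omegaFun_conv χ (IsClassFunction.sub' (conv_isClassFunction hr hr) hr) he,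
        omegaFun_sub, omegaFun_conv χ hr hr, omegaFun_blockCoeff]
      split_ifs <;> ring
    have := conv_blockCoeff_idem_aux hM r hidem b hb g
    rw [← e] at this
    exact this
  · intro χ
    rw [hsω]
    split_ifs with h
    · rw [mul_one]; exact hω χ h
    · rw [mul_zero]; exact memLocalIdeal_zero M

/-- if no central character of the block `b` kills `r` modulo the ideal, then `r e_b`
is congruent to `e_b` modulo the ideal -/
theorem blockCoeff_sub_conv_mem_of_omega [Fact p.Prime] (hM : IsPModular p M) (r : G → ℂ)
    (hr : IsClassFunction G r) (hrR : ∀ g, MemLocalRing M (r g))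
    (hidem : ∀ g, MemLocalIdeal M (conv r r g - r g))
    (b : Set (IrrCharacter G)) (hb : BlockClosed M b)
    (hω : ∀ χ : IrrCharacter G, χ ∈ b → ¬ MemLocalIdeal M (omegaFun (χ : G → ℂ) r)) :
    ∀ g, MemLocalIdeal M (blockCoeff b g - conv r (blockCoeff b) g) := by
  classical
  have hpr := isPrime_of_isPModular hM
  have : Fintype (IrrCharacter G) := Fintype.ofFinite _
  have he : IsClassFunction G (blockCoeff b) := blockCoeff_isClassFunction b
  have heR : ∀ g, MemLocalRing M (blockCoeff b g) := blockCoeff_memLocalRing hM b hb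
  have hscf : IsClassFunction G (conv r (blockCoeff b)) := conv_isClassFunction hr he
  have hsR : ∀ g, MemLocalRing M (conv r (blockCoeff b) g) := conv_memLocalRing hM hrR heR
  have htcf : IsClassFunction G (blockCoeff b - conv r (blockCoeff b)) :=
    IsClassFunction.sub' he hscf
  have htR : ∀ g, MemLocalRing M ((blockCoeff b - conv r (blockCoeff b)) g) := by
    intro g
    rw [Pi.sub_apply]
    exact MemLocalRing.sub M (heR g) (hsR g)
  have htω : ∀ χ : IrrCharacter G, omegaFun (χ : G → ℂ) (blockCoeff b - conv r (blockCoeff b))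
      = (1 - omegaFun (χ : G → ℂ) r) * (if χ ∈ b then 1 else 0) := by
    intro χ
    rw [omegaFun_sub, omegaFun_conv χ hr he, omegaFun_blockCoeff]
    ring
  have key := memLocalIdeal_of_idem_of_omega hM _ htcf htR ?_ ?_
  · intro g
    have := key g
    rwa [Pi.sub_apply] at this
  · intro g
    have e : conv (blockCoeff b - conv r (blockCoeff b)) (blockCoeff b - conv r (blockCoeff b))
          - (blockCoeff b - conv r (blockCoeff b))
        = conv (conv r r - r) (blockCoeff b) := by
      apply eq_of_omegaFun (IsClassFunction.sub' (conv_isClassFunction htcf htcf) htcf)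
        (conv_isClassFunction (IsClassFunction.sub' (conv_isClassFunction hr hr) hr) he)
      intro χ
      rw [omegaFun_sub, omegaFun_conv χ htcf htcf, htω,
        omegaFun_conv χ (IsClassFunction.sub' (conv_isClassFunction hr hr) hr) he,
        omegaFun_sub, omegaFun_conv χ hr hr, omegaFun_blockCoeff]
      split_ifs <;> ring
    have := conv_blockCoeff_idem_aux hM r hidem b hb g
    rw [← e] at this
    exact this
  · intro χ
    rw [htω]
    split_ifs with h
    · rw [mul_one]
      have hωR : MemLocalRing M (omegaFun (χ : G → ℂ) r) := omegaFun_memLocalRing hM χ r hr hrR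
      have h1 : MemLocalIdeal M (omegaFun (χ : G → ℂ) r * (omegaFun (χ : G → ℂ) r - 1)) := by
        have h2 := omegaFun_memLocalIdeal hM χ (conv r r - r)
          (IsClassFunction.sub' (conv_isClassFunction hr hr) hr)
          (fun x => by rw [Pi.sub_apply]; exact hidem x)
        rw [omegaFun_sub, omegaFun_conv χ hr hr] at h2
        have e2 : omegaFun (χ : G → ℂ) r * (omegaFun (χ : G → ℂ) r - 1)
            = omegaFun (χ : G → ℂ) r * omegaFun (χ : G → ℂ) r - omegaFun (χ : G → ℂ) r := by
          ring
        rw [e2]
        exact h2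
      rcases MemLocalIdeal.of_mul M hωR (MemLocalRing.sub M hωR (memLocalRing_one M)) h1 with h3 | h3
      · exact absurd h3 (hω χ h)
      · have := MemLocalIdeal.neg M h3
        rwa [neg_sub] at this
    · rw [mul_zero]; exact memLocalIdeal_zero M

/-- a central idempotent modulo the ideal with a unit coefficient at `k` has a block whose
central characters do not kill it and whose idempotent has a unit coefficient at `k` -/
theorem exists_block_of_idem_coeff [Fact p.Prime] (hM : IsPModular p M) (r : G → ℂ)
    (hr : IsClassFunction G r) (hrR : ∀ g, MemLocalRing M (r g))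
    (hidem : ∀ g, MemLocalIdeal M (conv r r g - r g)) (k : G)
    (hk : ¬ MemLocalIdeal M (r k)) :
    ∃ ξ : IrrCharacter G, ¬ MemLocalIdeal M (omegaFun (ξ : G → ℂ) r) ∧
      ¬ MemLocalIdeal M (blockCoeff (blockOf M (ξ : G → ℂ)) k) := by
  classical
  have hpr := isPrime_of_isPModular hM
  have : Fintype (IrrCharacter G) := Fintype.ofFinite _
  by_contra hcon
  push Not at hcon
  apply hk
  have e2 : r k = ∑ B ∈ (Finset.univ : Finset (IrrCharacter G)).image
        (fun χ : IrrCharacter G => blockOf M (χ : G → ℂ)), conv (blockCoeff B) r k := by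
    have h1 := sum_blockCoeff_eq_delta1 (G := G) hM
    have h2 : conv (delta1 G) r k = r k := congrFun (conv_delta1_left r) k
    rw [← h1] at h2
    refine h2.symm.trans ?_
    unfold conv
    simp only [Finset.sum_apply, Finset.sum_mul]
    rw [Finset.sum_comm]
  rw [e2]
  apply memLocalIdeal_sum
  intro B hB
  rw [Finset.mem_image] at hB
  obtain ⟨ξ, -, rfl⟩ := hB
  have hbc : BlockClosed M (blockOf M (ξ : G → ℂ)) := blockClosed_blockOf M _
  have he : IsClassFunction G (blockCoeff (blockOf M (ξ : G → ℂ))) := blockCoeff_isClassFunction _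
  have ecomm : conv (blockCoeff (blockOf M (ξ : G → ℂ))) r
      = conv r (blockCoeff (blockOf M (ξ : G → ℂ))) := by
    apply eq_of_omegaFun (conv_isClassFunction he hr) (conv_isClassFunction hr he)
    intro χ
    rw [omegaFun_conv χ he hr, omegaFun_conv χ hr he, mul_comm]
  rw [ecomm]
  by_cases hξ : MemLocalIdeal M (omegaFun (ξ : G → ℂ) r)
  · apply conv_blockCoeff_mem_of_omega hM r hr hrR hidem _ hbc
    intro χ hχ
    have h1 := omegaFun_sub_mem hM χ ξ (sameBlock_symm M hχ) r hr hrR
    have := MemLocalIdeal.add M h1 hξ
    rwa [sub_add_cancel] at this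
  · have h1 := blockCoeff_sub_conv_mem_of_omega hM r hr hrR hidem _ hbc (by
      intro χ hχ hχJ
      apply hξ
      have h1 := omegaFun_sub_mem hM ξ χ hχ r hr hrR
      have := MemLocalIdeal.add M h1 hχJ
      rwa [sub_add_cancel] at this) k
    have h2 := hcon ξ hξ
    have := MemLocalIdeal.sub M h2 h1
    rwa [sub_sub_cancel] at this

/-- refinement of `exists_induced_of_blockCoeff`: the correspondent block can be chosen with
a unit coefficient of its idempotent at the given element -/
theorem exists_induced_with_coeff [Fact p.Prime] (hM : IsPModular p M) (P H : Subgroup G)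
    [Fintype H] (hP : IsPGroup p P) (hPH : P ≤ H)
    (hCH : Subgroup.centralizer (P : Set G) ≤ H) (hHN : H ≤ Subgroup.normalizer (P : Set G))
    (B : Set (IrrCharacter G)) (hB : IsPBlock M B) (g : G)
    (hg : g ∈ Subgroup.centralizer (P : Set G)) (hne : ¬ MemLocalIdeal M (blockCoeff B g)) :
    ∃ ξ : IrrCharacter H, IsInducedBlock M H (blockOf M (ξ : H → ℂ)) B ∧
      ¬ MemLocalIdeal M (blockCoeff (blockOf M (ξ : H → ℂ)) ⟨g, hCH hg⟩) := by
  classical
  have hpr := isPrime_of_isPModular hM
  have : Fintype (IrrCharacter G) := Fintype.ofFinite _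
  have hBc : BlockClosed M B := blockClosed_of_isPBlock M hB
  have he : IsClassFunction G (blockCoeff B) := blockCoeff_isClassFunction B
  have heR : ∀ g, MemLocalRing M (blockCoeff B g) := blockCoeff_memLocalRing hM B hBc
  set r := brauerMap P H (blockCoeff B) with hr
  have hrcf : IsClassFunction H r := brauerMap_isClassFunction P H hHN he
  have hrR : ∀ h, MemLocalRing M (r h) := by
    intro h
    rw [hr]
    unfold brauerMap
    split_ifs
    · exact heR _
    · exact memLocalRing_zero M
  have hidem : ∀ h, MemLocalIdeal M (conv r r h - r h) := by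
    intro h
    have h1 := brauerMap_conv hM P H hP hCH (blockCoeff B) (blockCoeff B) he he heR heR h
    have e : conv (blockCoeff B) (blockCoeff B) = blockCoeff B := by
      funext x
      exact blockCoeff_idem B x
    rw [e] at h1
    have := MemLocalIdeal.neg M h1
    rwa [neg_sub] at this
  have hrg : ¬ MemLocalIdeal M (r ⟨g, hCH hg⟩) := by
    rw [hr]
    unfold brauerMap
    rw [if_pos hg]
    exact hne
  obtain ⟨ξ, hξ, hξg⟩ := exists_block_of_idem_coeff hM r hrcf hrR hidem ⟨g, hCH hg⟩ hrg
  obtain ⟨χ, -, hχ⟩ := exists_brauer_correspondent hM P H hP hCH hHN ξ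
  have hχB : χ ∈ B := by
    by_contra hn
    apply hξ
    have h1 := hχ (blockCoeff B) he heR
    rw [omegaFun_blockCoeff, if_neg hn, sub_zero] at h1
    exact h1
  refine ⟨ξ, ?_, hξg⟩
  have hBeq : B = blockOf M (χ : G → ℂ) := by
    obtain ⟨χ₀, rfl⟩ := hB
    exact blockOf_eq_of_mem hM hχB
  rw [hBeq]
  exact isInducedBlock_of_brauer hM P H hP hPH hHN ξ χ hχ

end bc

end Cfsg.Agent.Lib.Helper8
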