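import Mathlib

set_option autoImplicit false
open scoped Pointwise

namespace Cfsg.Agent.Lib.Helper8

variable {G : Type*} [Group G]

theorem card_centralizer_conj [Finite G] (g t : G) :
    Nat.card (Subgroup.centralizer ({t * g * t⁻¹} : Set G)) =
      Nat.card (Subgroup.centralizer ({g} : Set G)) := by
  apply Nat.card_congr
  refine
    { toFun := fun c => ⟨t⁻¹ * c.1 * t, ?_⟩
      invFun := fun c => ⟨t * c.1 * t⁻¹, ?_⟩
      left_inv := fun c => by apply Subtype.ext; simp [mul_assoc]
      right_inv := fun c => by apply Subtype.ext; simp [mul_assoc] }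
  · have hc := c.2
    rw [Subgroup.mem_centralizer_singleton_iff] at hc ⊢
    have : t⁻¹ * c.1 * t * g = t⁻¹ * (c.1 * (t * g * t⁻¹)) * t := by group
    rw [this, hc]; group
  · have hc := c.2
    rw [Subgroup.mem_centralizer_singleton_iff] at hc ⊢
    have : t * c.1 * t⁻¹ * (t * g * t⁻¹) = t * (c.1 * g) * t⁻¹ := by group
    rw [this, hc]; group

theorem card_map_subtype (K : Subgroup G) (S : Subgroup K) :
    Nat.card (S.map K.subtype) = Nat.card S :=
  Subgroup.card_map_of_injective K.subtype_injective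

theorem sylow_map_card [Finite G] {p : ℕ} [Fact p.Prime] (K : Subgroup G) (S : Sylow p K) :
    Nat.card ((S : Subgroup K).map K.subtype) = p ^ (Nat.card K).factorization p := by
  rw [card_map_subtype]
  exact Sylow.card_eq_multiplicity S

theorem exists_sylow_map_eq [Finite G] {p : ℕ} [Fact p.Prime] (K P : Subgroup G) (hPK : P ≤ K)
    (hcard : Nat.card P = p ^ (Nat.card K).factorization p) :
    ∃ S : Sylow p K, (S : Subgroup K).map K.subtype = P := by
  have h1 : Nat.card (P.subgroupOf K) = p ^ (Nat.card K).factorization p := by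
    rw [← hcard]
    exact Nat.card_congr (Subgroup.subgroupOfEquivOfLe hPK).toEquiv
  refine ⟨Sylow.ofCard (P.subgroupOf K) h1, ?_⟩
  rw [Sylow.coe_ofCard]
  exact Subgroup.map_subgroupOf_eq_of_le hPK

theorem exists_conj_of_card [Finite G] {p : ℕ} [Fact p.Prime] (K P Q : Subgroup G)
    (hPK : P ≤ K) (hQK : Q ≤ K)
    (hP : Nat.card P = p ^ (Nat.card K).factorization p)
    (hQ : Nat.card Q = p ^ (Nat.card K).factorization p) :
    ∃ z ∈ K, ∀ x, x ∈ P ↔ z * x * z⁻¹ ∈ Q := by
  have h1 : Nat.card (P.subgroupOf K) = p ^ (Nat.card K).factorization p := by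
    rw [← hP]
    exact Nat.card_congr (Subgroup.subgroupOfEquivOfLe hPK).toEquiv
  have h2 : Nat.card (Q.subgroupOf K) = p ^ (Nat.card K).factorization p := by
    rw [← hQ]
    exact Nat.card_congr (Subgroup.subgroupOfEquivOfLe hQK).toEquiv
  obtain ⟨z, hz⟩ := MulAction.exists_smul_eq K (Sylow.ofCard (P.subgroupOf K) h1)
    (Sylow.ofCard (Q.subgroupOf K) h2)
  have hz' : ∀ y : K, y ∈ Q.subgroupOf K ↔ y ∈ MulAut.conj z • (P.subgroupOf K) := by
    intro y
    have := congrArg (fun S : Sylow p K => (S : Subgroup K)) hz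
    simp only [Sylow.coe_ofCard] at this
    rw [← this]
    rfl
  refine ⟨z, z.2, ?_⟩
  intro x
  constructor
  · intro hx
    have hxK : x ∈ K := hPK hx
    have h3 : MulAut.conj z • (⟨x, hxK⟩ : K) ∈ MulAut.conj z • (P.subgroupOf K) :=
      Subgroup.smul_mem_pointwise_smul _ _ _ (Subgroup.mem_subgroupOf.2 hx)
    have h4 := (hz' _).2 h3
    exact Subgroup.mem_subgroupOf.1 h4
  · intro hx
    have hxK : x ∈ K := by
      have h5 : z.1 * x * z.1⁻¹ ∈ K := hQK hx
      have : x = z.1⁻¹ * (z.1 * x * z.1⁻¹) * z.1 := by group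
      rw [this]
      exact K.mul_mem (K.mul_mem (K.inv_mem z.2) h5) z.2
    have h3 : MulAut.conj z • (⟨x, hxK⟩ : K) ∈ Q.subgroupOf K := Subgroup.mem_subgroupOf.2 hx
    have h4 := (hz' _).1 h3
    rw [Subgroup.smul_mem_pointwise_smul_iff] at h4
    exact Subgroup.mem_subgroupOf.1 h4

end Cfsg.Agent.Lib.Helper8
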