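import Mathlib
import Cfsg.Prelude.Def_Blocks
import Cfsg.Agent.Lib.Helper8.BrauerCoeff
import Cfsg.Agent.Lib.Helper8.FirstMain
import Cfsg.Agent.Lib.Helper8.Extended
import Cfsg.Agent.Lib.Helper8.SylowAux
import Cfsg.Agent.Lib.Helper25.BrauerPair8
import Cfsg.Agent.S0920

set_option autoImplicit false

/-!
The first main theorem in terms of block idempotents: a block with defect group `P` and its
correspondent in the normalizer of `P` have idempotents that agree modulo the local ideal on
the centralizer of `P`.  Transport of defect groups along isomorphisms.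
-/

namespace Cfsg.Agent.Lib.Helper8

open Cfsg Cfsg.Agent.Lib.Helper2 Cfsg.Agent.Lib.Helper25

open scoped ComplexConjugate

section fmi

variable {G : Type*} [Group G] [Fintype G] {p : ℕ} {M : Ideal AlgInt}

theorem eq_sum_conv_blockCoeff [Fact p.Prime] (hM : IsPModular p M)
    [Fintype (IrrCharacter G)] [DecidableEq (Set (IrrCharacter G))] (r : G → ℂ) (k : G) :
    r k = ∑ B ∈ (Finset.univ : Finset (IrrCharacter G)).image
        (fun χ : IrrCharacter G => blockOf M (χ : G → ℂ)), conv (blockCoeff B) r k := by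
  have h1 := sum_blockCoeff_eq_delta1 (G := G) hM
  have h2 : conv (delta1 G) r k = r k := congrFun (conv_delta1_left r) k
  rw [← h1] at h2
  refine h2.symm.trans ?_
  unfold conv
  simp only [Finset.sum_apply, Finset.sum_mul]
  rw [Finset.sum_comm]

/-- a central idempotent modulo the ideal whose central character values are units exactly on
the block `b₁` is congruent to the idempotent of `b₁` -/
theorem idem_sub_blockCoeff_mem [Fact p.Prime] (hM : IsPModular p M) (r : G → ℂ)
    (hr : IsClassFunction G r) (hrR : ∀ g, MemLocalRing M (r g))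
    (hidem : ∀ g, MemLocalIdeal M (conv r r g - r g))
    (b₁ : Set (IrrCharacter G)) (hb₁ : IsPBlock M b₁)
    (h1 : ∀ ξ : IrrCharacter G, ξ ∈ b₁ → ¬ MemLocalIdeal M (omegaFun (ξ : G → ℂ) r))
    (h0 : ∀ ξ : IrrCharacter G, ξ ∉ b₁ → MemLocalIdeal M (omegaFun (ξ : G → ℂ) r)) (k : G) :
    MemLocalIdeal M (r k - blockCoeff b₁ k) := by
  classical
  have hpr := isPrime_of_isPModular hM
  have : Fintype (IrrCharacter G) := Fintype.ofFinite _
  obtain ⟨ξ₁, rfl⟩ := hb₁
  have hmem : blockOf M (ξ₁ : G → ℂ) ∈ (Finset.univ : Finset (IrrCharacter G)).image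
      (fun χ : IrrCharacter G => blockOf M (χ : G → ℂ)) :=
    Finset.mem_image.mpr ⟨ξ₁, Finset.mem_univ _, rfl⟩
  rw [eq_sum_conv_blockCoeff hM r k, ← Finset.add_sum_erase _ _ hmem]
  have hcomm : ∀ B : Set (IrrCharacter G), conv (blockCoeff B) r = conv r (blockCoeff B) := by
    intro B
    have he : IsClassFunction G (blockCoeff B) := blockCoeff_isClassFunction _
    apply eq_of_omegaFun (conv_isClassFunction he hr) (conv_isClassFunction hr he)
    intro χ
    rw [omegaFun_conv χ he hr, omegaFun_conv χ hr he, mul_comm]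
  have hA : MemLocalIdeal M (conv (blockCoeff (blockOf M (ξ₁ : G → ℂ))) r k
      - blockCoeff (blockOf M (ξ₁ : G → ℂ)) k) := by
    rw [hcomm]
    have := blockCoeff_sub_conv_mem_of_omega hM r hr hrR hidem _ (blockClosed_blockOf M _) h1 k
    have h2 := MemLocalIdeal.neg M this
    rwa [neg_sub] at h2
  have hB : MemLocalIdeal M (∑ B ∈ ((Finset.univ : Finset (IrrCharacter G)).image
      (fun χ : IrrCharacter G => blockOf M (χ : G → ℂ))).erase (blockOf M (ξ₁ : G → ℂ)),
        conv (blockCoeff B) r k) := by
    apply memLocalIdeal_sum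
    intro B hB
    rw [Finset.mem_erase, Finset.mem_image] at hB
    obtain ⟨hne, ξ, -, rfl⟩ := hB
    rw [hcomm]
    apply conv_blockCoeff_mem_of_omega hM r hr hrR hidem _ (blockClosed_blockOf M _)
    intro χ hχ
    apply h0
    intro hχ1
    apply hne
    rw [blockOf_eq_of_mem hM hχ, blockOf_eq_of_mem hM hχ1]
  have := MemLocalIdeal.add M hA hB
  convert this using 1
  ring

/-- first main theorem, from `G` down to the normalizer, with the idempotent congruence -/
theorem fm_down [Fact p.Prime] (hM : IsPModular p M) (P : Subgroup G) (hP : IsPGroup p P)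
    (B : Set (IrrCharacter G)) (hB : IsPBlock M B) (hBP : IsDefectGroup p M B P) :
    ∃ b : Set (IrrCharacter ↥(Subgroup.normalizer (P : Set G))), IsPBlock M b ∧
      IsDefectGroup p M b (P.subgroupOf (Subgroup.normalizer (P : Set G))) ∧
      IsInducedBlock M (Subgroup.normalizer (P : Set G)) b B ∧
      ∀ n : ↥(Subgroup.normalizer (P : Set G)), (n : G) ∈ Subgroup.centralizer (P : Set G) →
        MemLocalIdeal M (blockCoeff B (n : G) - blockCoeff b n) := by
  classical
  have hpr := isPrime_of_isPModular hM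
  have : Fintype ↥(Subgroup.normalizer (P : Set G)) := Fintype.ofFinite _
  have : Fintype (IrrCharacter G) := Fintype.ofFinite _
  obtain ⟨b, ⟨hb, hbP, hind⟩, -⟩ := (Cfsg.Agent.S0920.result p M hM P hP).2 B hB hBP
  refine ⟨b, hb, hbP, hind, ?_⟩
  have hPN : P ≤ Subgroup.normalizer (P : Set G) := Subgroup.le_normalizer
  have hCN := Subgroup.centralizer_le_normalizer (P : Set G)
  have hBc : BlockClosed M B := blockClosed_of_isPBlock M hB
  have he : IsClassFunction G (blockCoeff B) := blockCoeff_isClassFunction B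
  have heR : ∀ g, MemLocalRing M (blockCoeff B g) := blockCoeff_memLocalRing hM B hBc
  obtain ⟨r, hr⟩ : ∃ r, r = brauerMap P (Subgroup.normalizer (P : Set G)) (blockCoeff B) :=
    ⟨_, rfl⟩
  have hrcf : IsClassFunction _ r := by
    rw [hr]
    exact brauerMap_isClassFunction P _ le_rfl he
  have hrR : ∀ h, MemLocalRing M (r h) := by
    intro h
    rw [hr]
    unfold brauerMap
    split_ifs
    · exact heR _
    · exact memLocalRing_zero M
  have hidem : ∀ h, MemLocalIdeal M (conv r r h - r h) := by
    intro h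
    have h1 := brauerMap_conv hM P _ hP hCN (blockCoeff B) (blockCoeff B) he he heR heR h
    have e : conv (blockCoeff B) (blockCoeff B) = blockCoeff B := by
      funext x
      exact blockCoeff_idem B x
    rw [e, ← hr] at h1
    have := MemLocalIdeal.neg M h1
    rwa [neg_sub] at this
  have hkey : ∀ ξ : IrrCharacter ↥(Subgroup.normalizer (P : Set G)), ∃ χ : IrrCharacter G,
      IsInducedBlock M (Subgroup.normalizer (P : Set G))
        (blockOf M (ξ : ↥(Subgroup.normalizer (P : Set G)) → ℂ)) (blockOf M (χ : G → ℂ)) ∧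
      MemLocalIdeal M (omegaFun (ξ : ↥(Subgroup.normalizer (P : Set G)) → ℂ) r
        - (if χ ∈ B then 1 else 0)) := by
    intro ξ
    obtain ⟨χ, -, hχ⟩ := exists_brauer_correspondent hM P _ hP hCN le_rfl ξ
    refine ⟨χ, isInducedBlock_of_brauer hM P _ hP hPN le_rfl ξ χ hχ, ?_⟩
    have := hχ (blockCoeff B) he heR
    rwa [omegaFun_blockCoeff, ← hr] at this
  have h1 : ∀ ξ : IrrCharacter ↥(Subgroup.normalizer (P : Set G)), ξ ∈ b →
      ¬ MemLocalIdeal M (omegaFun (ξ : ↥(Subgroup.normalizer (P : Set G)) → ℂ) r) := by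
    intro ξ hξ hJ
    obtain ⟨χ, hindχ, hω⟩ := hkey ξ
    have hbeq : b = blockOf M (ξ : ↥(Subgroup.normalizer (P : Set G)) → ℂ) := by
      obtain ⟨ξ₀, rfl⟩ := hb
      exact blockOf_eq_of_mem hM hξ
    rw [← hbeq] at hindχ
    have hBeq := isInducedBlock_unique hM _ hind hindχ
    have hχB : χ ∈ B := by
      rw [hBeq]
      exact sameBlock_refl M _
    rw [if_pos hχB] at hω
    have := MemLocalIdeal.sub M hJ hω
    rw [sub_sub_cancel] at this
    exact not_memLocalIdeal_one M this
  have h0 : ∀ ξ : IrrCharacter ↥(Subgroup.normalizer (P : Set G)), ξ ∉ b →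
      MemLocalIdeal M (omegaFun (ξ : ↥(Subgroup.normalizer (P : Set G)) → ℂ) r) := by
    intro ξ hξ
    obtain ⟨χ, hindχ, hω⟩ := hkey ξ
    by_cases hχB : χ ∈ B
    · exfalso
      apply hξ
      have hBeq : B = blockOf M (χ : G → ℂ) := by
        obtain ⟨χ₀, rfl⟩ := hB
        exact blockOf_eq_of_mem hM hχB
      rw [← hBeq] at hindχ
      have := first_main_unique hM P hP B hB b
        (blockOf M (ξ : ↥(Subgroup.normalizer (P : Set G)) → ℂ)) hbP hind hindχ
      rw [← this]
      exact sameBlock_refl M _
    · rw [if_neg hχB, sub_zero] at hω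
      exact hω
  intro n hn
  have := idem_sub_blockCoeff_mem hM r hrcf hrR hidem b hb h1 h0 n
  have e : r n = blockCoeff B (n : G) := by
    rw [hr]
    unfold brauerMap
    rw [if_pos hn]
  rwa [e] at this

/-- first main theorem, from the normalizer up to `G`, with the idempotent congruence -/
theorem fm_up [Fact p.Prime] (hM : IsPModular p M) (P : Subgroup G) (hP : IsPGroup p P)
    (b : Set (IrrCharacter ↥(Subgroup.normalizer (P : Set G)))) (hb : IsPBlock M b)
    (hbP : IsDefectGroup p M b (P.subgroupOf (Subgroup.normalizer (P : Set G)))) :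
    ∃ B : Set (IrrCharacter G), IsPBlock M B ∧ IsDefectGroup p M B P ∧
      IsInducedBlock M (Subgroup.normalizer (P : Set G)) b B ∧
      ∀ n : ↥(Subgroup.normalizer (P : Set G)), (n : G) ∈ Subgroup.centralizer (P : Set G) →
        MemLocalIdeal M (blockCoeff B (n : G) - blockCoeff b n) := by
  obtain ⟨B, hB, hBP, hind⟩ := (Cfsg.Agent.S0920.result p M hM P hP).1 b hb hbP
  obtain ⟨b₁, hb₁, hb₁P, hind₁, hc⟩ := fm_down hM P hP B hB hBP
  have h := first_main_unique hM P hP B hB b b₁ hbP hind hind₁
  rw [h] at hc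
  exact ⟨B, hB, hBP, hind, hc⟩

/-- a block with defect group `P` is determined by the values of its idempotent on the
centralizer of `P` modulo the ideal -/
theorem block_eq_of_brauer_eq [Fact p.Prime] (hM : IsPModular p M) (P : Subgroup G)
    (hP : IsPGroup p P) (B B' : Set (IrrCharacter G)) (hB : IsPBlock M B) (hB' : IsPBlock M B')
    (hBP : IsDefectGroup p M B P)
    (h : ∀ x ∈ Subgroup.centralizer (P : Set G),
      MemLocalIdeal M (blockCoeff B x - blockCoeff B' x)) : B = B' := by
  classical
  have hpr := isPrime_of_isPModular hM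
  have : Fintype (IrrCharacter G) := Fintype.ofFinite _
  have : Fintype ↥(Subgroup.normalizer (P : Set G)) := Fintype.ofFinite _
  by_contra hne
  have he : IsClassFunction G (blockCoeff B) := blockCoeff_isClassFunction B
  have he' : IsClassFunction G (blockCoeff B') := blockCoeff_isClassFunction B'
  have heR : ∀ g, MemLocalRing M (blockCoeff B g) :=
    blockCoeff_memLocalRing hM B (blockClosed_of_isPBlock M hB)
  have heR' : ∀ g, MemLocalRing M (blockCoeff B' g) :=
    blockCoeff_memLocalRing hM B' (blockClosed_of_isPBlock M hB')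
  have hz : conv (blockCoeff B) (blockCoeff B') = 0 := by
    apply eq_of_omegaFun (conv_isClassFunction he he') isClassFunction_zero
    intro χ
    rw [omegaFun_conv χ he he', omegaFun_blockCoeff, omegaFun_blockCoeff, omegaFun_zero]
    by_cases h1 : χ ∈ B
    · by_cases h2 : χ ∈ B'
      · exfalso
        apply hne
        obtain ⟨χ₀, rfl⟩ := hB
        obtain ⟨χ₁, rfl⟩ := hB'
        rw [blockOf_eq_of_mem hM h1, blockOf_eq_of_mem hM h2]
      · rw [if_neg h2, mul_zero]
    · rw [if_neg h1, zero_mul]
  have hCN := Subgroup.centralizer_le_normalizer (P : Set G)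
  obtain ⟨β, hβ⟩ : ∃ β, β = brauerMap P (Subgroup.normalizer (P : Set G)) (blockCoeff B) :=
    ⟨_, rfl⟩
  obtain ⟨β', hβ'⟩ : ∃ β', β' = brauerMap P (Subgroup.normalizer (P : Set G)) (blockCoeff B') :=
    ⟨_, rfl⟩
  have hβR : ∀ n, MemLocalRing M (β n) := by
    intro n
    rw [hβ]
    unfold brauerMap
    split_ifs
    · exact heR _
    · exact memLocalRing_zero M
  have hdiff : ∀ n, MemLocalIdeal M (β' n - β n) := by
    intro n
    rw [hβ, hβ']
    unfold brauerMap
    split_ifs with hc
    · have := MemLocalIdeal.neg M (h _ hc)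
      rwa [neg_sub] at this
    · rw [sub_zero]
      exact memLocalIdeal_zero M
  have key : ∀ n, MemLocalIdeal M (β n) := by
    intro n
    have a1 := brauerMap_conv hM P _ hP hCN (blockCoeff B) (blockCoeff B') he he' heR heR' n
    rw [hz, ← hβ, ← hβ'] at a1
    have a1' : MemLocalIdeal M (conv β β' n) := by
      have e0 : brauerMap P (Subgroup.normalizer (P : Set G)) (0 : G → ℂ) n = 0 := by
        unfold brauerMap
        split_ifs <;> rfl
      rw [e0, zero_sub] at a1
      have := MemLocalIdeal.neg M a1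
      rwa [neg_neg] at this
    have a2 : MemLocalIdeal M (conv β (β' - β) n) :=
      conv_memLocalIdeal_right hM hβR (fun x => by rw [Pi.sub_apply]; exact hdiff x) n
    have a3 : MemLocalIdeal M (conv β β n) := by
      have e : conv β β n = conv β β' n - conv β (β' - β) n := by
        unfold conv
        simp only [Pi.sub_apply, mul_sub, Finset.sum_sub_distrib]
        ring
      rw [e]
      exact MemLocalIdeal.sub M a1' a2
    have a4 := brauerMap_conv hM P _ hP hCN (blockCoeff B) (blockCoeff B) he he heR heR n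
    have e : conv (blockCoeff B) (blockCoeff B) = blockCoeff B := by
      funext x
      exact blockCoeff_idem B x
    rw [e, ← hβ] at a4
    have := MemLocalIdeal.add M a4 a3
    rwa [sub_add_cancel] at this
  obtain ⟨y, hy, P₀, hP₀⟩ := hBP
  have hyc : y ∈ Subgroup.centralizer (P : Set G) := by
    rw [Subgroup.mem_centralizer_iff]
    intro u hu
    have hu' : u ∈ P := hu
    rw [hP₀] at hu'
    obtain ⟨c, -, rfl⟩ := Subgroup.mem_map.mp hu'
    have := c.2
    rw [Subgroup.mem_centralizer_singleton_iff] at this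
    exact this
  have := key ⟨y, hCN hyc⟩
  rw [hβ] at this
  unfold brauerMap at this
  rw [if_pos hyc] at this
  exact hy.2.1 this

end fmi

section transport

variable {K H : Type*} [Group K] [Group H] [Finite K] [Finite H] {p : ℕ} {M : Ideal AlgInt}

/-- transport of defect groups along an isomorphism -/
theorem isDefectGroup_image_isoIrr [Fact p.Prime] (φ : K ≃* H) {f : Set (IrrCharacter K)}
    {D : Subgroup K} (hD : IsDefectGroup p M f D) :
    IsDefectGroup p M (isoIrr φ '' f) (D.map φ.toMonoidHom) := by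
  obtain ⟨g, ⟨hloc, hnot, hcc⟩, P₀, hP₀⟩ := hD
  have hcoef := blockCoeff_image_isoIrr φ f g
  have hcls : IsDefectClass M (isoIrr φ '' f) (φ g) := by
    refine ⟨by rw [hcoef]; exact hloc, by rw [hcoef]; exact hnot, ?_⟩
    rintro χ ⟨ξ, hξ, rfl⟩
    have e : centralChar ((isoIrr φ ξ : H → ℂ)) (φ g) = centralChar (ξ : K → ℂ) g := by
      rw [← centralChar_comp_iso φ]
      congr 1
      funext k
      change (ξ : K → ℂ) (φ.symm (φ k)) = _
      rw [MulEquiv.symm_apply_apply]
    rw [e]
    exact hcc ξ hξ
  have hle : D.map φ.toMonoidHom ≤ Subgroup.centralizer ({φ g} : Set H) := by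
    rintro _ ⟨d, hd, rfl⟩
    rw [Subgroup.mem_centralizer_singleton_iff]
    have hd' : d ∈ D := hd
    rw [hP₀] at hd'
    obtain ⟨c, -, rfl⟩ := Subgroup.mem_map.mp hd'
    have := c.2
    rw [Subgroup.mem_centralizer_singleton_iff] at this
    change φ c.1 * φ g = φ g * φ c.1
    rw [← map_mul, ← map_mul, this]
  have hcardC : Nat.card (Subgroup.centralizer ({φ g} : Set H))
      = Nat.card (Subgroup.centralizer ({g} : Set K)) := by
    have h1 := index_centralizer_iso φ g
    have h2 := Subgroup.card_mul_index (Subgroup.centralizer ({φ g} : Set H))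
    have h3 := Subgroup.card_mul_index (Subgroup.centralizer ({g} : Set K))
    have h4 : Nat.card K = Nat.card H := Nat.card_congr φ.toEquiv
    rw [h1, ← h4, ← h3] at h2
    exact Nat.eq_of_mul_eq_mul_right (Nat.pos_of_ne_zero Subgroup.index_ne_zero_of_finite) h2
  have hcard : Nat.card (D.map φ.toMonoidHom)
      = p ^ (Nat.card (Subgroup.centralizer ({φ g} : Set H))).factorization p := by
    rw [Subgroup.card_map_of_injective (f := φ.toMonoidHom) φ.injective, hcardC, hP₀]
    exact sylow_map_card _ P₀
  obtain ⟨S, hS⟩ := exists_sylow_map_eq _ _ hle hcard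
  exact ⟨φ g, hcls, S, hS.symm⟩

end transport

section normIso

variable {G : Type*} [Group G]

theorem mem_normalizer_subgroupOf_iff (P H : Subgroup G) (hPH : P ≤ H) (h : H) :
    h ∈ Subgroup.normalizer ((P.subgroupOf H : Subgroup H) : Set H)
      ↔ (h : G) ∈ Subgroup.normalizer (P : Set G) := by
  rw [Subgroup.mem_normalizer_iff, Subgroup.mem_normalizer_iff]
  constructor
  · intro hh x
    constructor
    · intro hx
      have := (hh ⟨x, hPH hx⟩).mp (Subgroup.mem_subgroupOf.mpr hx)
      exact Subgroup.mem_subgroupOf.mp this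
    · intro hx
      have hxH : x ∈ H := by
        have h1 : (h : G) * x * (h : G)⁻¹ ∈ H := hPH hx
        have e : x = (h : G)⁻¹ * ((h : G) * x * (h : G)⁻¹) * (h : G) := by group
        rw [e]
        exact H.mul_mem (H.mul_mem (H.inv_mem h.2) h1) h.2
      have := (hh ⟨x, hxH⟩).mpr (Subgroup.mem_subgroupOf.mpr hx)
      exact Subgroup.mem_subgroupOf.mp this
  · intro hh x
    exact hh (x : G)

/-- the normalizer of `P` computed inside a subgroup `H` containing the normalizer -/
noncomputable def normIso (P H : Subgroup G) (hPH : P ≤ H)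
    (hNH : Subgroup.normalizer (P : Set G) ≤ H) :
    ↥(Subgroup.normalizer ((P.subgroupOf H : Subgroup H) : Set H))
      ≃* ↥(Subgroup.normalizer (P : Set G)) where
  toFun n := ⟨((n : H) : G), (mem_normalizer_subgroupOf_iff P H hPH n.1).mp n.2⟩
  invFun n := ⟨⟨(n : G), hNH n.2⟩,
    (mem_normalizer_subgroupOf_iff P H hPH ⟨(n : G), hNH n.2⟩).mpr n.2⟩
  left_inv _ := rfl
  right_inv _ := rfl
  map_mul' _ _ := rfl

theorem normIso_apply_coe (P H : Subgroup G) (hPH : P ≤ H)
    (hNH : Subgroup.normalizer (P : Set G) ≤ H)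
    (n : ↥(Subgroup.normalizer ((P.subgroupOf H : Subgroup H) : Set H))) :
    ((normIso P H hPH hNH n : ↥(Subgroup.normalizer (P : Set G))) : G) = ((n : H) : G) := rfl

theorem normIso_symm_apply_coe (P H : Subgroup G) (hPH : P ≤ H)
    (hNH : Subgroup.normalizer (P : Set G) ≤ H) (n : ↥(Subgroup.normalizer (P : Set G))) :
    ((((normIso P H hPH hNH).symm n :
      ↥(Subgroup.normalizer ((P.subgroupOf H : Subgroup H) : Set H))) : H) : G) = (n : G) := rfl

theorem map_normIso_subgroupOf (P H : Subgroup G) (hPH : P ≤ H)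
    (hNH : Subgroup.normalizer (P : Set G) ≤ H) :
    (((P.subgroupOf H).subgroupOf
      (Subgroup.normalizer ((P.subgroupOf H : Subgroup H) : Set H))).map
        (normIso P H hPH hNH).toMonoidHom) = P.subgroupOf (Subgroup.normalizer (P : Set G)) := by
  ext n
  constructor
  · rintro ⟨n', hn', rfl⟩
    exact hn'
  · intro hn
    exact ⟨(normIso P H hPH hNH).symm n, hn, (normIso P H hPH hNH).apply_symm_apply n⟩

theorem map_normIso_symm_subgroupOf (P H : Subgroup G) (hPH : P ≤ H)
    (hNH : Subgroup.normalizer (P : Set G) ≤ H) :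
    ((P.subgroupOf (Subgroup.normalizer (P : Set G))).map
        (normIso P H hPH hNH).symm.toMonoidHom) = (P.subgroupOf H).subgroupOf
      (Subgroup.normalizer ((P.subgroupOf H : Subgroup H) : Set H)) := by
  ext n
  constructor
  · rintro ⟨n', hn', rfl⟩
    exact hn'
  · intro hn
    exact ⟨normIso P H hPH hNH n, hn, (normIso P H hPH hNH).symm_apply_apply n⟩

end normIso

end Cfsg.Agent.Lib.Helper8
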