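import Mathlib
import Cfsg.Agent.Lib.Helper25.Knorr
import Cfsg.Agent.Lib.Helper25.PIndex2
import Cfsg.Agent.Lib.Helper25.BrauerPair5
import Cfsg.Agent.Lib.Helper8.SylowAux
import Cfsg.Agent.Lib.Helper8.DefectNum
import Cfsg.Agent.S0906
import Cfsg.Agent.S0908
import Cfsg.Agent.S0911

set_option autoImplicit false

/-!
Defect groups of blocks covering a stable block of a normal subgroup (Fong).  The first lemma
is the second half of the argument of `Cfsg.Agent.Lib.Helper25.defect_of_same_idempotent`
(helper25), restated for an arbitrary class with the two properties that argument uses.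
-/

namespace Cfsg.Agent.Lib.Helper8

open Cfsg Cfsg.Agent.Lib.Helper2 Cfsg.Agent.Lib.Helper25

section fong

variable {G : Type*} [Group G] [Fintype G] {p : ℕ} {M : Ideal AlgInt}

/-- the idempotent of a union of blocks is the sum of the idempotents of the blocks in it
(the statement of `Cfsg.Agent.Lib.Helper25.blockCoeff_eq_sum_blocks` for a group instead of a
subgroup; same proof) -/
theorem blockCoeff_eq_sum_blocks' [Fact p.Prime]
    (hM : IsPModular p M) (O : Set (IrrCharacter G)) (hO : BlockClosed M O)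
    [Fintype {f : Set (IrrCharacter G) // IsPBlock M f}]
    [DecidablePred (fun f : Set (IrrCharacter G) => f ⊆ O)] :
    blockCoeff O = ∑ f : {f : Set (IrrCharacter G) // IsPBlock M f},
      if f.1 ⊆ O then blockCoeff f.1 else 0 := by
  classical
  have hpr := isPrime_of_isPModular hM
  have : Fintype (IrrCharacter G) := Fintype.ofFinite _
  apply eq_of_omegaFun (blockCoeff_isClassFunction O)
  · apply isClassFunction_sum
    intro f _
    split_ifs
    · exact blockCoeff_isClassFunction f.1
    · exact isClassFunction_zero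
  intro η
  rw [omegaFun_sum, Cfsg.Agent.Lib.Helper25.omegaFun_blockCoeff O η]
  have h1 : ∀ f : {f : Set (IrrCharacter G) // IsPBlock M f},
      omegaFun (η : G → ℂ) (if f.1 ⊆ O then blockCoeff f.1 else 0)
        = if (f.1 ⊆ O ∧ η ∈ f.1) then 1 else 0 := by
    intro f
    by_cases hf : f.1 ⊆ O
    · rw [if_pos hf, Cfsg.Agent.Lib.Helper25.omegaFun_blockCoeff f.1 η]
      by_cases hη : η ∈ f.1
      · rw [if_pos hη, if_pos ⟨hf, hη⟩]
      · rw [if_neg hη, if_neg (fun h => hη h.2)]
    · rw [if_neg hf, omegaFun_zero, if_neg (fun h => hf h.1)]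
  rw [Finset.sum_congr rfl (fun f _ => h1 f)]
  rw [Finset.sum_eq_single (⟨blockOf M (η : G → ℂ), ⟨η, rfl⟩⟩ :
    {f : Set (IrrCharacter G) // IsPBlock M f})]
  · by_cases hη : η ∈ O
    · rw [if_pos hη, if_pos]
      refine ⟨?_, sameBlock_refl M _⟩
      intro η' hη'
      exact hO η hη η' hη'
    · rw [if_neg hη, if_neg]
      rintro ⟨h2, -⟩
      exact hη (h2 (sameBlock_refl M _))
  · intro b _ hb
    rw [if_neg]
    rintro ⟨-, hmem⟩
    apply hb
    apply Subtype.ext
    exact isPBlock_eq_of_mem hM b.2 ⟨η, rfl⟩ hmem (sameBlock_refl M _)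
  · intro h
    exact absurd (Finset.mem_univ _) h

/-- a class `c₀` of `N` which is a defect class of the block `c` of `N` and whose stabilizer
has index prime to `p`: a Sylow `p`-subgroup `D` of `C_G(c₀)` has `N D` of index prime to `p`
and `D ∩ N` is a defect group of `c` -/
theorem defect_of_classStab [Fact p.Prime] (N : Subgroup G)
    [hN : N.Normal] (c : Set (IrrCharacter N)) (c₀ : G) (hc₀N : c₀ ∈ N)
    (hnd : ¬ p ∣ (classStab N c₀).index) (hdc' : IsDefectClass M c ⟨c₀, hc₀N⟩)
    (P' : Sylow p (Subgroup.centralizer ({c₀} : Set G))) :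
    ¬ p ∣ (N ⊔ (P' : Subgroup (Subgroup.centralizer ({c₀} : Set G))).map
        (Subgroup.centralizer ({c₀} : Set G)).subtype).index ∧
      IsDefectGroup p M c ((((P' : Subgroup (Subgroup.centralizer ({c₀} : Set G))).map
        (Subgroup.centralizer ({c₀} : Set G)).subtype) ⊓ N).subgroupOf N) := by
  classical
  have : Fintype N := Fintype.ofFinite _
  have hp : p.Prime := Fact.out
  have hle : classStab N c₀ ≤ N ⊔ Subgroup.centralizer ({c₀} : Set G) := by
    rintro g ⟨n, hn, hgn⟩
    have hz : n⁻¹ * g ∈ Subgroup.centralizer ({c₀} : Set G) := by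
      rw [Subgroup.mem_centralizer_iff]
      intro y hy
      rw [Set.mem_singleton_iff] at hy
      subst hy
      have e : y * (n⁻¹ * g) = n⁻¹ * (n * y * n⁻¹) * g := by group
      rw [e, ← hgn]
      group
    have h6 : g = n * (n⁻¹ * g) := by group
    rw [h6]
    exact Subgroup.mul_mem _ ((le_sup_left : N ≤ _) hn) ((le_sup_right : _ ≤ N ⊔ _) hz)
  have h1 : ¬ p ∣ (N ⊔ Subgroup.centralizer ({c₀} : Set G)).index :=
    fun h => hnd (h.trans (Subgroup.index_dvd_of_le hle))
  have h2 : ¬ p ∣ (N ⊔ (P' : Subgroup (Subgroup.centralizer ({c₀} : Set G))).map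
      (Subgroup.centralizer ({c₀} : Set G)).subtype).relIndex
      (N ⊔ Subgroup.centralizer ({c₀} : Set G)) := by
    have e1 : ((P' : Subgroup (Subgroup.centralizer ({c₀} : Set G))).map
        (Subgroup.centralizer ({c₀} : Set G)).subtype).map (QuotientGroup.mk' N)
        = (P' : Subgroup (Subgroup.centralizer ({c₀} : Set G))).map
          ((QuotientGroup.mk' N).comp (Subgroup.centralizer ({c₀} : Set G)).subtype) :=
      Subgroup.map_map _ _ _
    have e2 : (Subgroup.centralizer ({c₀} : Set G)).map (QuotientGroup.mk' N)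
        = (⊤ : Subgroup (Subgroup.centralizer ({c₀} : Set G))).map
          ((QuotientGroup.mk' N).comp (Subgroup.centralizer ({c₀} : Set G)).subtype) := by
      rw [← Subgroup.map_map, ← MonoidHom.range_eq_map, Subgroup.range_subtype]
    have e3 := Subgroup.relIndex_map_map (QuotientGroup.mk' N)
      ((P' : Subgroup (Subgroup.centralizer ({c₀} : Set G))).map
        (Subgroup.centralizer ({c₀} : Set G)).subtype) (Subgroup.centralizer ({c₀} : Set G))
    rw [QuotientGroup.ker_mk'] at e3
    have e4 := Subgroup.relIndex_map_map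
      ((QuotientGroup.mk' N).comp (Subgroup.centralizer ({c₀} : Set G)).subtype)
      (P' : Subgroup (Subgroup.centralizer ({c₀} : Set G))) ⊤
    rw [sup_comm N, sup_comm N, ← e3, e1, e2, e4, top_sup_eq, Subgroup.relIndex_top_right]
    intro hdvd
    exact P'.not_dvd_index (hdvd.trans (Subgroup.index_dvd_of_le le_sup_left))
  refine ⟨?_, ?_⟩
  · rw [← Subgroup.relIndex_mul_index (sup_le_sup_left (Subgroup.map_subtype_le _) N)]
    intro hdvd
    rcases (Nat.Prime.dvd_mul hp).mp hdvd with h | h
    · exact h2 h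
    · exact h1 h
  · have hDle : (((P' : Subgroup (Subgroup.centralizer ({c₀} : Set G))).map
        (Subgroup.centralizer ({c₀} : Set G)).subtype) ⊓ N).subgroupOf N
        ≤ Subgroup.centralizer ({(⟨c₀, hc₀N⟩ : N)} : Set N) := by
      intro n hn
      rw [Subgroup.mem_subgroupOf] at hn
      obtain ⟨z, hz, hzn⟩ := Subgroup.mem_map.mp hn.1
      rw [Subgroup.mem_centralizer_iff]
      intro y hy
      rw [Set.mem_singleton_iff] at hy
      subst hy
      apply Subtype.ext
      have := Subgroup.mem_centralizer_iff.mp z.2 c₀ (Set.mem_singleton _)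
      simp only [Subgroup.coe_mul]
      rw [← hzn]
      exact this
    have hYp : IsPGroup p ↥(((((P' : Subgroup (Subgroup.centralizer ({c₀} : Set G))).map
        (Subgroup.centralizer ({c₀} : Set G)).subtype) ⊓ N).subgroupOf N).subgroupOf
        (Subgroup.centralizer ({(⟨c₀, hc₀N⟩ : N)} : Set N))) :=
      (((P'.isPGroup'.map _).to_le inf_le_left).comap_subtype).comap_subtype
    have hYidx : ¬ p ∣ (((((P' : Subgroup (Subgroup.centralizer ({c₀} : Set G))).map
        (Subgroup.centralizer ({c₀} : Set G)).subtype) ⊓ N).subgroupOf N).subgroupOf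
        (Subgroup.centralizer ({(⟨c₀, hc₀N⟩ : N)} : Set N))).index := by
      have e2 : ((((P' : Subgroup (Subgroup.centralizer ({c₀} : Set G))).map
          (Subgroup.centralizer ({c₀} : Set G)).subtype) ⊓ N).subgroupOf N).relIndex
          (Subgroup.centralizer ({(⟨c₀, hc₀N⟩ : N)} : Set N))
          = (((P' : Subgroup (Subgroup.centralizer ({c₀} : Set G))).map
          (Subgroup.centralizer ({c₀} : Set G)).subtype) ⊓ N).relIndex
            ((Subgroup.centralizer ({(⟨c₀, hc₀N⟩ : N)} : Set N)).map N.subtype) := by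
        rw [← Subgroup.relIndex_map_map_of_injective _ _ N.subtype_injective,
          Subgroup.subgroupOf_map_subtype, inf_assoc, inf_idem]
      have e3 : (Subgroup.centralizer ({(⟨c₀, hc₀N⟩ : N)} : Set N)).map N.subtype
          = (N.subgroupOf (Subgroup.centralizer ({c₀} : Set G))).map
            (Subgroup.centralizer ({c₀} : Set G)).subtype := by
        ext g
        rw [Subgroup.subgroupOf_map_subtype]
        constructor
        · rintro ⟨n, hn, rfl⟩
          have hn' : n ∈ Subgroup.centralizer ({(⟨c₀, hc₀N⟩ : N)} : Set N) := hn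
          refine ⟨n.2, ?_⟩
          change (n : G) ∈ Subgroup.centralizer ({c₀} : Set G)
          rw [Subgroup.mem_centralizer_iff]
          intro y hy
          rw [Set.mem_singleton_iff] at hy
          subst hy
          have := Subgroup.mem_centralizer_iff.mp hn' ⟨y, hc₀N⟩ (Set.mem_singleton _)
          exact congrArg Subtype.val this
        · rintro ⟨hgN, hgZ⟩
          refine ⟨⟨g, hgN⟩, ?_, rfl⟩
          change (⟨g, hgN⟩ : N) ∈ Subgroup.centralizer ({(⟨c₀, hc₀N⟩ : N)} : Set N)
          rw [Subgroup.mem_centralizer_iff]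
          intro y hy
          rw [Set.mem_singleton_iff] at hy
          subst hy
          apply Subtype.ext
          exact Subgroup.mem_centralizer_iff.mp hgZ c₀ (Set.mem_singleton _)
      have e4 : (((P' : Subgroup (Subgroup.centralizer ({c₀} : Set G))).map
          (Subgroup.centralizer ({c₀} : Set G)).subtype) ⊓ N).relIndex
            ((N.subgroupOf (Subgroup.centralizer ({c₀} : Set G))).map
            (Subgroup.centralizer ({c₀} : Set G)).subtype)
          = ((P' : Subgroup (Subgroup.centralizer ({c₀} : Set G))).map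
          (Subgroup.centralizer ({c₀} : Set G)).subtype).relIndex
            ((N.subgroupOf (Subgroup.centralizer ({c₀} : Set G))).map
            (Subgroup.centralizer ({c₀} : Set G)).subtype) := by
        rw [← Subgroup.inf_relIndex_right ((P' : Subgroup (Subgroup.centralizer ({c₀} : Set G))).map
          (Subgroup.centralizer ({c₀} : Set G)).subtype)]
        congr 1
        rw [Subgroup.subgroupOf_map_subtype, ← inf_assoc,
          inf_right_comm, inf_of_le_left (Subgroup.map_subtype_le _)]
      have e5 : ((P' : Subgroup (Subgroup.centralizer ({c₀} : Set G))).map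
          (Subgroup.centralizer ({c₀} : Set G)).subtype).relIndex
            ((N.subgroupOf (Subgroup.centralizer ({c₀} : Set G))).map
            (Subgroup.centralizer ({c₀} : Set G)).subtype)
          = (P' : Subgroup (Subgroup.centralizer ({c₀} : Set G))).relIndex
            (N.subgroupOf (Subgroup.centralizer ({c₀} : Set G))) :=
        Subgroup.relIndex_map_map_of_injective _ _ (Subgroup.subtype_injective _)
      change ¬ p ∣ ((((P' : Subgroup (Subgroup.centralizer ({c₀} : Set G))).map
          (Subgroup.centralizer ({c₀} : Set G)).subtype) ⊓ N).subgroupOf N).relIndex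
          (Subgroup.centralizer ({(⟨c₀, hc₀N⟩ : N)} : Set N))
      rw [e2, e3, e4, e5]
      exact sylow_relIndex_normal P' (N.subgroupOf (Subgroup.centralizer ({c₀} : Set G)))
    refine ⟨⟨c₀, hc₀N⟩, hdc', hYp.toSylow hYidx, ?_⟩
    rw [IsPGroup.toSylow_coe, Subgroup.subgroupOf_map_subtype, inf_of_le_left hDle]

/-- **Fong**: a block `B` of maximal defect among the blocks covering a `G`-stable block `b` of
a normal subgroup `N`: a defect group `P` has `N P` of index prime to `p`, and `P ∩ N` is a
defect group of `b` -/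
theorem fong_defect [Fact p.Prime] (hM : IsPModular p M) (N : Subgroup G) [hN : N.Normal]
    [Fintype N] (b : Set (IrrCharacter N)) (hb : IsPBlock M b)
    (hst : ∀ x : G, StabilizesBlock N b x) (B : Set (IrrCharacter G)) (hB : IsPBlock M B)
    (hcov : ∃ χ ∈ B, ∃ θ ∈ b, classInner (fun n : N => (χ : G → ℂ) n) (θ : N → ℂ) ≠ 0)
    (hmax : ∀ B' : Set (IrrCharacter G), IsPBlock M B' →
      (∃ χ ∈ B', ∃ θ ∈ b, classInner (fun n : N => (χ : G → ℂ) n) (θ : N → ℂ) ≠ 0) →
      blockDefect p B' ≤ blockDefect p B)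
    (P : Subgroup G) (hP : IsDefectGroup p M B P) :
    ¬ p ∣ (N ⊔ P).index ∧ IsDefectGroup p M b ((P ⊓ N).subgroupOf N) := by
  classical
  have hpr := isPrime_of_isPModular hM
  have hp : p.Prime := Fact.out
  have : Fintype (IrrCharacter G) := Fintype.ofFinite _
  obtain ⟨χ, hχ, θ, hθ, he⟩ := hcov
  set F := subgroupBlockCoeff N b with hFdef
  have hinvF := blockCoeff_conjNormal_of_stable hM N b hb hst
  have hFcf : IsClassFunction G F := by
    rw [hFdef, subgroupBlockCoeff_eq]
    exact extendByZero_isClassFunction N _ hinvF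
  have hFR : ∀ g : G, MemLocalRing M (F g) := by
    intro g
    rw [hFdef, subgroupBlockCoeff_eq]
    by_cases hg : g ∈ N
    · rw [extendByZero_of_mem N _ hg]
      exact blockCoeff_memLocalRing hM b (blockClosed_of_isPBlock M hb) _
    · rw [extendByZero_of_not_mem N _ hg]
      exact memLocalRing_zero M
  have hF1 : omegaFun (χ : G → ℂ) F = 1 := by
    rw [hFdef, omegaFun_subgroupBlockCoeff_of_over hM N b hb hst χ θ he, if_pos hθ]
  -- a class where both `F` and the central character are units
  obtain ⟨y, hyF, hyω⟩ : ∃ y : G, ¬ MemLocalIdeal M (F y) ∧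
      ¬ MemLocalIdeal M (centralChar (χ : G → ℂ) y) := by
    by_contra hcon
    push Not at hcon
    have h1 := omegaFun_eq_sum_classes (χ : G → ℂ) (isClassFunction_of_isIrrCharacter χ.2)
      F hFcf
    rw [hF1] at h1
    apply not_memLocalIdeal_one M
    rw [h1]
    apply memLocalIdeal_sum M
    intro c _
    by_cases hc : MemLocalIdeal M (F c.out)
    · exact MemLocalIdeal.mul_right M hc
        (memLocalRing_of_isIntegral M (centralChar_isIntegral χ c.out))
    · exact MemLocalIdeal.mul_left M (hFR c.out) (hcon c.out hc)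
  -- the characters over `b`
  have h01 : ∀ ψ : IrrCharacter G, omegaFun (ψ : G → ℂ) F = 1 ∨ omegaFun (ψ : G → ℂ) F = 0 := by
    intro ψ
    obtain ⟨θ', hθ'⟩ := exists_irr_constituent
      (IsCharacter.restrict (isCharacter_of_isIrrCharacter ψ.2) N)
      (fun h0 => irr_one_ne_zero ψ.2 (congrFun h0 1))
    have h1 := omegaFun_subgroupBlockCoeff_of_over hM N b hb hst ψ ⟨θ', hθ'.1⟩ hθ'.2
    by_cases hmem : (⟨θ', hθ'.1⟩ : IrrCharacter N) ∈ b
    · left; rw [hFdef, h1, if_pos hmem]
    · right; rw [hFdef, h1, if_neg hmem]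
  have hover : ∀ ψ : IrrCharacter G, omegaFun (ψ : G → ℂ) F = 1 →
      ∃ θ' ∈ b, classInner (fun n : N => (ψ : G → ℂ) n) (θ' : N → ℂ) ≠ 0 := by
    intro ψ hψ
    obtain ⟨θ', hθ'⟩ := exists_irr_constituent
      (IsCharacter.restrict (isCharacter_of_isIrrCharacter ψ.2) N)
      (fun h0 => irr_one_ne_zero ψ.2 (congrFun h0 1))
    have h1 := omegaFun_subgroupBlockCoeff_of_over hM N b hb hst ψ ⟨θ', hθ'.1⟩ hθ'.2
    refine ⟨⟨θ', hθ'.1⟩, ?_, hθ'.2⟩
    by_contra hmem
    rw [← hFdef, hψ, if_neg hmem] at h1
    exact one_ne_zero h1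
  set O : Set (IrrCharacter G) := {ψ | omegaFun (ψ : G → ℂ) F = 1} with hO
  have hOcl : BlockClosed M O := by
    intro ψ hψ ψ' hs
    have h1 := omegaFun_sub_mem hM ψ ψ' hs F hFcf hFR
    rcases h01 ψ' with h | h
    · exact h
    · exfalso
      have hψ1 : omegaFun (ψ : G → ℂ) F = 1 := hψ
      rw [hψ1, h, sub_zero] at h1
      exact not_memLocalIdeal_one M h1
  have hOF : blockCoeff O = F := by
    apply eq_of_omegaFun (blockCoeff_isClassFunction O) hFcf
    intro ψ
    rw [omegaFun_blockCoeff O ψ]
    by_cases hψ : ψ ∈ O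
    · rw [if_pos hψ]; exact hψ.symm
    · rw [if_neg hψ]
      rcases h01 ψ with h | h
      · exact absurd h hψ
      · exact h.symm
  have : Fintype {f : Set (IrrCharacter G) // IsPBlock M f} := Fintype.ofFinite _
  have hsum := blockCoeff_eq_sum_blocks' hM O hOcl
  obtain ⟨B', hB', hB'O, hB'y⟩ : ∃ B' : Set (IrrCharacter G), IsPBlock M B' ∧ B' ⊆ O ∧
      ¬ MemLocalIdeal M (blockCoeff B' y) := by
    by_contra hcon
    push Not at hcon
    apply hyF
    rw [← hOF, hsum, Finset.sum_apply]
    apply memLocalIdeal_sum M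
    intro f _
    by_cases hf : f.1 ⊆ O
    · rw [if_pos hf]; exact hcon f.1 f.2 hf
    · rw [if_neg hf]; exact memLocalIdeal_zero M
  have hcov' : ∃ χ' ∈ B', ∃ θ' ∈ b,
      classInner (fun n : N => (χ' : G → ℂ) n) (θ' : N → ℂ) ≠ 0 := by
    obtain ⟨χ', hχ'⟩ := isPBlock_nonempty hM hB'
    obtain ⟨θ', hθ', he'⟩ := hover χ' (hB'O hχ')
    exact ⟨χ', hχ', θ', hθ', he'⟩
  have hle := hmax B' hB' hcov'
  -- cardinalities
  obtain ⟨g, hg, P', rfl⟩ := hP
  obtain ⟨g', hg'⟩ := Cfsg.Agent.S0906.result p M hM B' hB'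
  obtain ⟨D'⟩ : Nonempty (Sylow p (Subgroup.centralizer ({g'} : Set G))) := inferInstance
  obtain ⟨x₁, Q₁, hQ₁⟩ := (Cfsg.Agent.S0911.result p M hM B' hB' g' hg' D' y).1
    (blockCoeff_memLocalRing hM B' (blockClosed_of_isPBlock M hB') y) hB'y
  obtain ⟨x, Q, hQ⟩ := (Cfsg.Agent.S0911.result p M hM B hB g hg P' y).2 ⟨χ, hχ, hyω⟩
  set c := (Nat.card (Subgroup.centralizer ({y} : Set G))).factorization p with hc
  have eQ₁ : Nat.card ((Q₁ : Subgroup (Subgroup.centralizer ({y} : Set G))).map
      (Subgroup.centralizer ({y} : Set G)).subtype) = p ^ c := sylow_map_card _ Q₁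
  have eQ : Nat.card ((Q : Subgroup (Subgroup.centralizer ({y} : Set G))).map
      (Subgroup.centralizer ({y} : Set G)).subtype) = p ^ c := sylow_map_card _ Q
  have eD' : Nat.card (((D' : Subgroup (Subgroup.centralizer ({g'} : Set G))).map
      (Subgroup.centralizer ({g'} : Set G)).subtype).map (MulAut.conj x₁).toMonoidHom)
      = p ^ blockDefect p B' := by
    rw [Subgroup.card_map_of_injective (MulAut.conj x₁).injective, sylow_map_card,
      defectClass_factorization hM hB' hg']
  have eP' : Nat.card (((P' : Subgroup (Subgroup.centralizer ({g} : Set G))).map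
      (Subgroup.centralizer ({g} : Set G)).subtype).map (MulAut.conj x).toMonoidHom)
      = p ^ blockDefect p B := by
    rw [Subgroup.card_map_of_injective (MulAut.conj x).injective, sylow_map_card,
      defectClass_factorization hM hB hg]
  have hc1 : c ≤ blockDefect p B' := by
    have h1 := Subgroup.card_le_of_le hQ₁
    rw [eQ₁, eD'] at h1
    exact (Nat.pow_le_pow_iff_right hp.one_lt).mp h1
  have hc2 : blockDefect p B ≤ c := by
    have h1 := Subgroup.card_le_of_le hQ
    rw [eQ, eP'] at h1
    exact (Nat.pow_le_pow_iff_right hp.one_lt).mp h1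
  have hceq : c = blockDefect p B := le_antisymm (hc1.trans hle) hc2
  have hPQ : ((P' : Subgroup (Subgroup.centralizer ({g} : Set G))).map
      (Subgroup.centralizer ({g} : Set G)).subtype).map (MulAut.conj x).toMonoidHom
      = (Q : Subgroup (Subgroup.centralizer ({y} : Set G))).map
        (Subgroup.centralizer ({y} : Set G)).subtype := by
    apply Subgroup.eq_of_le_of_card_ge hQ
    rw [eQ, eP', hceq]
  -- pass to the conjugate class
  have hPle : (P' : Subgroup (Subgroup.centralizer ({g} : Set G))).map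
      (Subgroup.centralizer ({g} : Set G)).subtype
      ≤ Subgroup.centralizer ({x⁻¹ * y * x} : Set G) := by
    intro d hd
    have h1 : x * d * x⁻¹ ∈ (Q : Subgroup (Subgroup.centralizer ({y} : Set G))).map
        (Subgroup.centralizer ({y} : Set G)).subtype := by
      rw [← hPQ]
      exact Subgroup.mem_map.mpr ⟨d, hd, rfl⟩
    obtain ⟨q, -, hq⟩ := Subgroup.mem_map.mp h1
    have h2 := Subgroup.mem_centralizer_iff.mp q.2 y (Set.mem_singleton y)
    rw [Subgroup.mem_centralizer_iff]
    intro z hz
    rw [Set.mem_singleton_iff] at hz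
    subst hz
    have h3 : y * (x * d * x⁻¹) = (x * d * x⁻¹) * y := by rw [← hq]; exact h2
    calc x⁻¹ * y * x * d = x⁻¹ * (y * (x * d * x⁻¹)) * x := by group
      _ = x⁻¹ * ((x * d * x⁻¹) * y) * x := by rw [h3]
      _ = d * (x⁻¹ * y * x) := by group
  have hcard' : Nat.card ((P' : Subgroup (Subgroup.centralizer ({g} : Set G))).map
      (Subgroup.centralizer ({g} : Set G)).subtype)
      = p ^ (Nat.card (Subgroup.centralizer ({x⁻¹ * y * x} : Set G))).factorization p := by
    have h1 : Nat.card (Subgroup.centralizer ({x⁻¹ * y * x} : Set G))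
        = Nat.card (Subgroup.centralizer ({y} : Set G)) := by
      have := card_centralizer_conj y x⁻¹
      rwa [inv_inv] at this
    rw [h1, ← hc, hceq, sylow_map_card, defectClass_factorization hM hB hg]
  obtain ⟨S, hS⟩ := exists_sylow_map_eq (Subgroup.centralizer ({x⁻¹ * y * x} : Set G)) _
    hPle hcard'
  have hFy' : F (x⁻¹ * y * x) = F y := by
    have := hFcf y x⁻¹
    rw [inv_inv] at this
    exact this
  have hωy' : centralChar (χ : G → ℂ) (x⁻¹ * y * x) = centralChar (χ : G → ℂ) y := by
    have := centralChar_conj χ y x⁻¹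
    rw [inv_inv] at this
    exact this
  have hy'N : x⁻¹ * y * x ∈ N := by
    by_contra hnot
    apply hyF
    rw [← hFy', hFdef, subgroupBlockCoeff_eq, extendByZero_of_not_mem N _ hnot]
    exact memLocalIdeal_zero M
  obtain ⟨hnd, hvJ⟩ := classStab_index_not_dvd hM N b hb hst χ θ hθ he ⟨x⁻¹ * y * x, hy'N⟩
    (by rw [hωy']; exact hyω)
  have hdc : IsDefectClass M b ⟨x⁻¹ * y * x, hy'N⟩ := by
    have e : blockCoeff b ⟨x⁻¹ * y * x, hy'N⟩ = F (x⁻¹ * y * x) := by
      rw [hFdef, subgroupBlockCoeff_eq, extendByZero_of_mem _ _ hy'N]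
    refine ⟨?_, ?_, ?_⟩
    · rw [e]; exact hFR _
    · rw [e, hFy']; exact hyF
    · intro θ' hθ' hJ
      have hs : SameBlock M (θ' : N → ℂ) (θ : N → ℂ) := isPBlock_sameBlock' hM hb hθ' hθ
      apply hvJ
      have := MemLocalIdeal.sub M hJ (hs ⟨x⁻¹ * y * x, hy'N⟩)
      rwa [sub_sub_cancel] at this
  have hfin := defect_of_classStab N b (x⁻¹ * y * x) hy'N hnd hdc S
  rw [hS] at hfin
  exact hfin


end fong

end Cfsg.Agent.Lib.Helper8
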