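import Mathlib
import Cfsg.Prelude.Def_Blocks
import Cfsg.Agent.Lib.Helper8.FirstMainIdem
import Cfsg.Agent.Lib.Helper8.FongDefect
import Cfsg.Agent.Lib.Helper25.Quot
import Cfsg.Agent.S0906
import Cfsg.Agent.S0908
import Cfsg.Agent.S0911
import Cfsg.Agent.S0912

set_option autoImplicit false

/-!
Defect groups of blocks of a quotient group compared with the defect groups of the block of
the group containing them.
-/

namespace Cfsg.Agent.Lib.Helper8

open Cfsg Cfsg.Agent.Lib.Helper2 Cfsg.Agent.Lib.Helper25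

open scoped ComplexConjugate

section qd

variable {G : Type*} [Group G] [Finite G] {p : ℕ} {M : Ideal AlgInt}

/-- a conjugate of a defect group is a defect group -/
theorem isDefectGroup_conj' [Fact p.Prime] {B : Set (IrrCharacter G)} {D : Subgroup G}
    (hD : IsDefectGroup p M B D) (g : G) :
    IsDefectGroup p M B (D.map (MulAut.conj g).toMonoidHom) := by
  have h := isDefectGroup_image_isoIrr (M := M) (p := p) (MulAut.conj g) hD
  have he : ∀ ξ : IrrCharacter G, isoIrr (MulAut.conj g) ξ = ξ := by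
    intro ξ
    apply Subtype.ext
    funext h
    rw [isoIrr_apply]
    have := isClassFunction_of_isIrrCharacter ξ.2 h g⁻¹
    rw [← this]
    simp [MulAut.conj_symm_apply]
  have e : isoIrr (MulAut.conj g) '' B = B := by
    ext ξ
    constructor
    · rintro ⟨ξ', hξ', rfl⟩
      rw [he]
      exact hξ'
    · intro hξ
      exact ⟨ξ, hξ, he ξ⟩
  rwa [e] at h

theorem val_aux (p : ℕ) [Fact p.Prime] (cS iS cC iC cSb iSb cCb iCb r cG cGb k : ℕ)
    (hG : cG ≠ 0) (hGb : cGb ≠ 0)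
    (h1 : cS * iS = cG) (h2 : cC * iC = cG) (h3 : cS = p ^ (cC.factorization p))
    (h4 : iC = iCb * r) (h5 : ¬ p ∣ r) (h6 : iSb ∣ iS) (h7 : cSb * iSb = cGb)
    (h8 : cCb * iCb = cGb) (h9 : cSb ∣ cCb) (h10 : cSb = p ^ k) :
    cSb = p ^ (cCb.factorization p) := by
  have hp : p.Prime := Fact.out
  have hcS : cS ≠ 0 := fun h => hG (by rw [← h1, h, zero_mul])
  have hiS : iS ≠ 0 := fun h => hG (by rw [← h1, h, mul_zero])
  have hcC : cC ≠ 0 := fun h => hG (by rw [← h2, h, zero_mul])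
  have hiC : iC ≠ 0 := fun h => hG (by rw [← h2, h, mul_zero])
  have hcSb : cSb ≠ 0 := fun h => hGb (by rw [← h7, h, zero_mul])
  have hiSb : iSb ≠ 0 := fun h => hGb (by rw [← h7, h, mul_zero])
  have hcCb : cCb ≠ 0 := fun h => hGb (by rw [← h8, h, zero_mul])
  have hiCb : iCb ≠ 0 := fun h => hGb (by rw [← h8, h, mul_zero])
  have hr : r ≠ 0 := fun h => hiC (by rw [h4, h, mul_zero])
  have a1 : cS.factorization p + iS.factorization p = cG.factorization p := by
    rw [← h1, Nat.factorization_mul hcS hiS]; rfl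
  have a2 : cC.factorization p + iC.factorization p = cG.factorization p := by
    rw [← h2, Nat.factorization_mul hcC hiC]; rfl
  have a3 : cS.factorization p = cC.factorization p := by
    rw [h3, Nat.factorization_pow, Finsupp.smul_apply, hp.factorization_self, smul_eq_mul,
      mul_one]
  have a4 : iC.factorization p = iCb.factorization p + r.factorization p := by
    rw [h4, Nat.factorization_mul hiCb hr]; rfl
  have a5 : r.factorization p = 0 := Nat.factorization_eq_zero_of_not_dvd h5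
  have a6 : iSb.factorization p ≤ iS.factorization p :=
    (Nat.factorization_le_iff_dvd hiSb hiS).mpr h6 p
  have a7 : cSb.factorization p + iSb.factorization p = cGb.factorization p := by
    rw [← h7, Nat.factorization_mul hcSb hiSb]; rfl
  have a8 : cCb.factorization p + iCb.factorization p = cGb.factorization p := by
    rw [← h8, Nat.factorization_mul hcCb hiCb]; rfl
  have a9 : cSb.factorization p ≤ cCb.factorization p :=
    (Nat.factorization_le_iff_dvd hcSb hcCb).mpr h9 p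
  have a10 : cSb.factorization p = k := by
    rw [h10, Nat.factorization_pow, Finsupp.smul_apply, hp.factorization_self, smul_eq_mul,
      mul_one]
  have : k = cCb.factorization p := by omega
  rw [h10, this]

/-- a block of a quotient contained in a block `B` has its defect groups inside the images of
defect groups of `B` -/
theorem quot_defect_le [Fact p.Prime] (hM : IsPModular p M) (N : Subgroup G) [N.Normal]
    (Bbar : Set (IrrCharacter (G ⧸ N))) (hBbar : IsPBlock M Bbar) (B : Set (IrrCharacter G))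
    (hB : IsPBlock M B)
    (hsub : ∀ χ ∈ Bbar, ∀ ψ : IrrCharacter G,
      (ψ : G → ℂ) = (χ : G ⧸ N → ℂ) ∘ QuotientGroup.mk → ψ ∈ B)
    (Dbar : Subgroup (G ⧸ N)) (hDbar : IsDefectGroup p M Bbar Dbar) :
    ∃ P : Subgroup G, IsDefectGroup p M B P ∧ Dbar ≤ P.map (QuotientGroup.mk' N) := by
  classical
  have hpr := isPrime_of_isPModular hM
  have hp : p.Prime := Fact.out
  have : Fintype G := Fintype.ofFinite G
  have : Fintype (G ⧸ N) := Fintype.ofFinite _
  obtain ⟨x, hx⟩ := Cfsg.Agent.S0906.result p M hM B hB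
  obtain ⟨S⟩ : Nonempty (Sylow p (Subgroup.centralizer ({x} : Set G))) := inferInstance
  obtain ⟨S', hS'⟩ : ∃ S' : Subgroup G, S' = (S : Subgroup _).map
      (Subgroup.centralizer ({x} : Set G)).subtype := ⟨_, rfl⟩
  have hS'D : IsDefectGroup p M B S' := ⟨x, hx, S, hS'⟩
  obtain ⟨χ, hχ⟩ := isPBlock_nonempty' hM hBbar
  have hinfl : (⟨(χ : G ⧸ N → ℂ) ∘ QuotientGroup.mk, inflate_irr N χ.2⟩ : IrrCharacter G) ∈ B :=
    hsub χ hχ _ rfl
  have hcc := hx.2.2 _ hinfl
  have hdvd : (Subgroup.centralizer ({(x : G ⧸ N)} : Set (G ⧸ N))).index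
      ∣ (Subgroup.centralizer ({x} : Set G)).index := by
    have h1 : ((Subgroup.centralizer ({(x : G ⧸ N)} : Set (G ⧸ N))).comap
        (QuotientGroup.mk' N)).index
        = (Subgroup.centralizer ({(x : G ⧸ N)} : Set (G ⧸ N))).index :=
      Subgroup.index_comap_of_surjective _ (QuotientGroup.mk'_surjective N)
    rw [← h1]
    apply Subgroup.index_dvd_of_le
    intro c hc
    rw [Subgroup.mem_comap, Subgroup.mem_centralizer_singleton_iff]
    rw [Subgroup.mem_centralizer_singleton_iff] at hc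
    change ((c : G ⧸ N)) * (x : G ⧸ N) = (x : G ⧸ N) * (c : G ⧸ N)
    rw [← QuotientGroup.mk_mul, ← QuotientGroup.mk_mul, hc]
  obtain ⟨r, hr⟩ := hdvd
  have hcc2 : centralChar ((χ : G ⧸ N → ℂ) ∘ QuotientGroup.mk) x
      = (r : ℂ) * centralChar (χ : G ⧸ N → ℂ) (x : G ⧸ N) := by
    unfold centralChar
    rw [hr]
    push_cast
    simp only [Function.comp_apply, QuotientGroup.mk_one]
    ring
  have hr_p : ¬ p ∣ r := by
    intro hpr'
    apply hcc
    rw [hcc2]
    exact MemLocalIdeal.mul_right M ((memLocalIdeal_natCast_iff hM r).mpr hpr')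
      (memLocalRing_of_isIntegral M (centralChar_isIntegral χ _))
  have hccbar : ¬ MemLocalIdeal M (centralChar (χ : G ⧸ N → ℂ) (x : G ⧸ N)) := by
    intro h
    apply hcc
    rw [hcc2]
    exact MemLocalIdeal.mul_left M (memLocalRing_natCast M r) h
  obtain ⟨g₀, hg₀, P₀, hP₀⟩ := hDbar
  obtain ⟨q, Q, hQ⟩ := (Cfsg.Agent.S0911.result p M hM Bbar hBbar g₀ hg₀ P₀ (x : G ⧸ N)).2
    ⟨χ, hχ, hccbar⟩
  have hSbar_le : S'.map (QuotientGroup.mk' N)
      ≤ Subgroup.centralizer ({(x : G ⧸ N)} : Set (G ⧸ N)) := by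
    rintro _ ⟨s, hs, rfl⟩
    have hs' : s ∈ S' := hs
    rw [hS'] at hs'
    obtain ⟨c, -, rfl⟩ := Subgroup.mem_map.mp hs'
    have := c.2
    rw [Subgroup.mem_centralizer_singleton_iff] at this ⊢
    change ((c.1 : G ⧸ N)) * (x : G ⧸ N) = (x : G ⧸ N) * (c.1 : G ⧸ N)
    rw [← QuotientGroup.mk_mul, ← QuotientGroup.mk_mul, this]
  have hcardS' : Nat.card S'
      = p ^ (Nat.card (Subgroup.centralizer ({x} : Set G))).factorization p := by
    rw [hS']
    exact sylow_map_card _ S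
  have hS'p : IsPGroup p S' := isPGroup_of_isDefectGroup hS'D
  have hSbar_p : IsPGroup p (S'.map (QuotientGroup.mk' N)) := hS'p.map _
  obtain ⟨k, hk⟩ := IsPGroup.iff_card.mp hSbar_p
  have b1 : Nat.card S' * S'.index = Nat.card G := Subgroup.card_mul_index _
  have b2 : Nat.card (Subgroup.centralizer ({x} : Set G))
      * (Subgroup.centralizer ({x} : Set G)).index = Nat.card G := Subgroup.card_mul_index _
  have b6 : (S'.map (QuotientGroup.mk' N)).index ∣ S'.index :=
    Subgroup.index_map_dvd _ (QuotientGroup.mk'_surjective N)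
  have b7 : Nat.card (S'.map (QuotientGroup.mk' N)) * (S'.map (QuotientGroup.mk' N)).index
      = Nat.card (G ⧸ N) := Subgroup.card_mul_index _
  have b8 : Nat.card (Subgroup.centralizer ({(x : G ⧸ N)} : Set (G ⧸ N)))
      * (Subgroup.centralizer ({(x : G ⧸ N)} : Set (G ⧸ N))).index = Nat.card (G ⧸ N) :=
    Subgroup.card_mul_index _
  have b9 : Nat.card (S'.map (QuotientGroup.mk' N))
      ∣ Nat.card (Subgroup.centralizer ({(x : G ⧸ N)} : Set (G ⧸ N))) :=
    Subgroup.card_dvd_of_le hSbar_le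
  have hG0 : Nat.card G ≠ 0 := Nat.card_pos.ne'
  have hGb0 : Nat.card (G ⧸ N) ≠ 0 := Nat.card_pos.ne'
  have hcardSbar : Nat.card (S'.map (QuotientGroup.mk' N))
      = p ^ (Nat.card (Subgroup.centralizer ({(x : G ⧸ N)} : Set (G ⧸ N)))).factorization p :=
    val_aux p _ _ _ _ _ _ _ _ r _ _ k hG0 hGb0 b1 b2 hcardS' hr hr_p b6 b7 b8 b9 hk
  have c1 : ((Q : Subgroup _).map (Subgroup.centralizer ({(x : G ⧸ N)} : Set (G ⧸ N))).subtype)
      ≤ Subgroup.centralizer ({(x : G ⧸ N)} : Set (G ⧸ N)) := Subgroup.map_subtype_le _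
  have c2 : Nat.card ((Q : Subgroup _).map
      (Subgroup.centralizer ({(x : G ⧸ N)} : Set (G ⧸ N))).subtype)
      = p ^ (Nat.card (Subgroup.centralizer ({(x : G ⧸ N)} : Set (G ⧸ N)))).factorization p :=
    sylow_map_card _ Q
  obtain ⟨Kb, hKb⟩ : ∃ Kb : Subgroup (G ⧸ N),
      Kb = Subgroup.centralizer ({(x : G ⧸ N)} : Set (G ⧸ N)) := ⟨_, rfl⟩
  obtain ⟨Qb, hQb⟩ : ∃ Qb : Subgroup (G ⧸ N), Qb = ((Q : Subgroup _).map
      (Subgroup.centralizer ({(x : G ⧸ N)} : Set (G ⧸ N))).subtype) := ⟨_, rfl⟩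
  obtain ⟨Sb, hSb⟩ : ∃ Sb : Subgroup (G ⧸ N), Sb = S'.map (QuotientGroup.mk' N) := ⟨_, rfl⟩
  rw [← hQb, ← hKb] at c1 c2
  rw [← hSb, ← hKb] at hSbar_le hcardSbar
  have c3 : ∃ z ∈ Kb, ∀ t, t ∈ Qb ↔ z * t * z⁻¹ ∈ Sb :=
    exists_conj_of_card Kb Qb Sb c1 hSbar_le c2 hcardSbar
  obtain ⟨z, hz, hzc⟩ := c3
  rw [hQb, hSb] at hzc
  obtain ⟨g, hg⟩ := QuotientGroup.mk_surjective (z * q)
  refine ⟨S'.map (MulAut.conj g⁻¹).toMonoidHom, isDefectGroup_conj' hS'D g⁻¹, ?_⟩
  intro d hd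
  rw [hP₀] at hd
  have h1 : q * d * q⁻¹ ∈ ((Q : Subgroup _).map
      (Subgroup.centralizer ({(x : G ⧸ N)} : Set (G ⧸ N))).subtype) :=
    hQ (Subgroup.mem_map.mpr ⟨d, hd, rfl⟩)
  have h2 := (hzc _).mp h1
  obtain ⟨s, hs, hsd⟩ := Subgroup.mem_map.mp h2
  refine Subgroup.mem_map.mpr ⟨g⁻¹ * s * g, Subgroup.mem_map.mpr ⟨s, hs, ?_⟩, ?_⟩
  · change g⁻¹ * s * g⁻¹⁻¹ = g⁻¹ * s * g
    rw [inv_inv]
  · change ((g⁻¹ * s * g : G) : G ⧸ N) = d
    have hsd' : (s : G ⧸ N) = z * (q * d * q⁻¹) * z⁻¹ := hsd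
    rw [QuotientGroup.mk_mul, QuotientGroup.mk_mul, QuotientGroup.mk_inv, hg, hsd']
    simp only [mul_inv_rev, mul_assoc, inv_mul_cancel_left, inv_mul_cancel, mul_one]

end qd

end Cfsg.Agent.Lib.Helper8
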