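import Mathlib
import Cfsg.Prelude.Def_Blocks
import Cfsg.Agent.Lib.Helper8.QuotDefect
import Cfsg.Agent.Lib.Helper8.DefectLocal

set_option autoImplicit false

/-!
For a normal `p`-subgroup `N`, every block of `G` contains a block of `G ⧸ N` whose defect
groups are the images of the defect groups of the block.
-/

namespace Cfsg.Agent.Lib.Helper8

open Cfsg Cfsg.Agent.Lib.Helper2 Cfsg.Agent.Lib.Helper25

open scoped ComplexConjugate

section qd2

variable {G : Type*} [Group G] [Finite G] {p : ℕ} {M : Ideal AlgInt}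

omit [Finite G] in
theorem centralChar_inflate_nat (N : Subgroup G) [N.Normal] (x : G) :
    ∃ r : ℕ, ∀ χ : G ⧸ N → ℂ, centralChar (χ ∘ QuotientGroup.mk) x
      = (r : ℂ) * centralChar χ (x : G ⧸ N) := by
  have hdvd : (Subgroup.centralizer ({(x : G ⧸ N)} : Set (G ⧸ N))).index
      ∣ (Subgroup.centralizer ({x} : Set G)).index := by
    have h1 : ((Subgroup.centralizer ({(x : G ⧸ N)} : Set (G ⧸ N))).comap
        (QuotientGroup.mk' N)).index
        = (Subgroup.centralizer ({(x : G ⧸ N)} : Set (G ⧸ N))).index :=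
      Subgroup.index_comap_of_surjective _ (QuotientGroup.mk'_surjective N)
    rw [← h1]
    apply Subgroup.index_dvd_of_le
    intro c hc
    rw [Subgroup.mem_comap, Subgroup.mem_centralizer_singleton_iff]
    rw [Subgroup.mem_centralizer_singleton_iff] at hc
    change ((c : G ⧸ N)) * (x : G ⧸ N) = (x : G ⧸ N) * (c : G ⧸ N)
    rw [← QuotientGroup.mk_mul, ← QuotientGroup.mk_mul, hc]
  obtain ⟨r, hr⟩ := hdvd
  refine ⟨r, fun χ => ?_⟩
  unfold centralChar
  rw [hr]
  push_cast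
  simp only [Function.comp_apply, QuotientGroup.mk_one]
  ring

omit [Finite G] in
theorem sameBlock_inflate_of_sameBlock (hM : IsPModular p M) (N : Subgroup G) [N.Normal]
    (χ ψ : G ⧸ N → ℂ) (h : SameBlock M χ ψ) :
    SameBlock M (χ ∘ QuotientGroup.mk) (ψ ∘ QuotientGroup.mk) := by
  have hpr := isPrime_of_isPModular hM
  intro g
  obtain ⟨r, hr⟩ := centralChar_inflate_nat N g
  rw [hr, hr, ← mul_sub]
  exact MemLocalIdeal.mul_left M (memLocalRing_natCast M r) (h _)

omit [Finite G] in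
theorem eq_one_of_regular_commute [Fact p.Prime] {N : Subgroup G} (hN : IsPGroup p N) (g : G)
    (hg : ¬ p ∣ orderOf g) (u : G) (hu : u ∈ N) (hcomm : Commute g u)
    (hgu : ¬ p ∣ orderOf (g * u)) : u = 1 := by
  have hp : p.Prime := Fact.out
  obtain ⟨j, hj⟩ := (IsPGroup.iff_orderOf.mp hN) ⟨u, hu⟩
  have hord : orderOf u = p ^ j := by rw [← hj, ← Subgroup.orderOf_coe]
  have hcop : (orderOf g).Coprime (orderOf u) := by
    rw [hord]
    exact Nat.Coprime.pow_right j ((Nat.Prime.coprime_iff_not_dvd hp).mpr hg).symm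
  rw [hcomm.orderOf_mul_eq_mul_orderOf_of_coprime hcop, hord] at hgu
  have hj0 : j = 0 := by
    by_contra hj0
    exact hgu (Dvd.dvd.mul_left (dvd_pow_self p hj0) _)
  rw [← orderOf_eq_one_iff, hord, hj0, pow_zero]

theorem card_map_mk_mul (N P : Subgroup G) [N.Normal] (hNP : N ≤ P) :
    Nat.card (P.map (QuotientGroup.mk' N)) * Nat.card N = Nat.card P := by
  have h1 : (P.map (QuotientGroup.mk' N)).index = P.index :=
    Subgroup.index_map_eq P (QuotientGroup.mk'_surjective N)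
      (by rw [QuotientGroup.ker_mk']; exact hNP)
  have h2 := Subgroup.card_mul_index (P.map (QuotientGroup.mk' N))
  have h3 := Subgroup.card_mul_index P
  have h4 := Subgroup.card_eq_card_quotient_mul_card_subgroup N
  have hpos : 0 < P.index := Nat.pos_of_ne_zero Subgroup.index_ne_zero_of_finite
  apply Nat.eq_of_mul_eq_mul_right hpos
  calc Nat.card (P.map (QuotientGroup.mk' N)) * Nat.card N * P.index
      = (Nat.card (P.map (QuotientGroup.mk' N)) * (P.map (QuotientGroup.mk' N)).index)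
          * Nat.card N := by rw [h1]; ring
    _ = Nat.card (G ⧸ N) * Nat.card N := by rw [h2]
    _ = Nat.card G := h4.symm
    _ = Nat.card P * P.index := h3.symm

/-- for a normal `p`-subgroup `N`, every block of `G` contains a block of `G ⧸ N` whose defect
groups are exactly the images of the defect groups of the block -/
theorem quot_defect_exists [Fact p.Prime] (hM : IsPModular p M) (N : Subgroup G) [hNn : N.Normal]
    (hN : IsPGroup p N) (B : Set (IrrCharacter G)) (hB : IsPBlock M B) :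
    ∃ Bbar : Set (IrrCharacter (G ⧸ N)), IsPBlock M Bbar ∧
      (∀ χ ∈ Bbar, ∀ ψ : IrrCharacter G,
        (ψ : G → ℂ) = (χ : G ⧸ N → ℂ) ∘ QuotientGroup.mk → ψ ∈ B) ∧
      ∀ Dbar : Subgroup (G ⧸ N), IsDefectGroup p M Bbar Dbar ↔
        ∃ P : Subgroup G, IsDefectGroup p M B P ∧ Dbar = P.map (QuotientGroup.mk' N) := by
  classical
  have hpr := isPrime_of_isPModular hM
  have hp : p.Prime := Fact.out
  have : Fintype G := Fintype.ofFinite G
  have : Fintype (G ⧸ N) := Fintype.ofFinite _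
  have : Fintype (IrrCharacter G) := Fintype.ofFinite _
  have : Fintype (IrrCharacter (G ⧸ N)) := Fintype.ofFinite _
  have : Fintype {f : Set (IrrCharacter (G ⧸ N)) // IsPBlock M f} := Fintype.ofFinite _
  have hBc : BlockClosed M B := blockClosed_of_isPBlock M hB
  obtain ⟨infl, hinfl⟩ : ∃ infl : IrrCharacter (G ⧸ N) → IrrCharacter G,
      ∀ χ, (infl χ : G → ℂ) = (χ : G ⧸ N → ℂ) ∘ QuotientGroup.mk :=
    ⟨fun χ => ⟨(χ : G ⧸ N → ℂ) ∘ QuotientGroup.mk, inflate_irr N χ.2⟩, fun χ => rfl⟩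
  obtain ⟨Bt, hBt⟩ : ∃ Bt : Set (IrrCharacter (G ⧸ N)), ∀ χ, χ ∈ Bt ↔ infl χ ∈ B :=
    ⟨{χ | infl χ ∈ B}, fun χ => Iff.rfl⟩
  have hBtc : BlockClosed M Bt := by
    intro χ hχ ψ hs
    rw [hBt] at hχ ⊢
    apply hBc _ hχ
    have := sameBlock_inflate_of_sameBlock hM N _ _ hs
    rw [hinfl, hinfl]
    exact this
  obtain ⟨e, he⟩ : ∃ e : G → ℂ, e = blockCoeff B := ⟨_, rfl⟩
  obtain ⟨ē, hē⟩ : ∃ ē : G ⧸ N → ℂ,
      ē = fun q => ∑ g : G, if (g : G ⧸ N) = q then e g else 0 := ⟨_, rfl⟩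
  have hēcf : IsClassFunction (G ⧸ N) ē := by
    intro q s
    obtain ⟨t, rfl⟩ := QuotientGroup.mk_surjective s
    rw [hē]
    dsimp only
    apply Fintype.sum_equiv (MulAut.conj t⁻¹).toEquiv
    intro g
    have h1 : (((MulAut.conj t⁻¹).toEquiv g : G) : G ⧸ N) = q ↔
        (g : G ⧸ N) = (t : G ⧸ N) * q * (t : G ⧸ N)⁻¹ := by
      change ((t⁻¹ * g * t⁻¹⁻¹ : G) : G ⧸ N) = q ↔ _
      simp only [QuotientGroup.mk_mul, QuotientGroup.mk_inv, inv_inv]
      constructor
      · intro h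
        rw [← h]; group
      · intro h
        rw [h]; group
    have h2 : e ((MulAut.conj t⁻¹).toEquiv g) = e g := by
      change e (t⁻¹ * g * t⁻¹⁻¹) = e g
      rw [he]
      exact blockCoeff_isClassFunction B g t⁻¹
    by_cases hq : (g : G ⧸ N) = (t : G ⧸ N) * q * (t : G ⧸ N)⁻¹
    · rw [if_pos hq, if_pos (h1.mpr hq), h2]
    · rw [if_neg hq, if_neg (fun h => hq (h1.mp h))]
  have hω : ∀ χ : IrrCharacter (G ⧸ N),
      omegaFun (χ : G ⧸ N → ℂ) ē = if χ ∈ Bt then 1 else 0 := by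
    intro χ
    have h1 := omegaFun_blockCoeff B (infl χ)
    have h2 : omegaFun (χ : G ⧸ N → ℂ) ē = omegaFun (infl χ : G → ℂ) e := by
      unfold omegaFun
      rw [hinfl]
      have h3 : ∑ q : G ⧸ N, ē q * (χ : G ⧸ N → ℂ) q
          = ∑ g : G, e g * (χ : G ⧸ N → ℂ) (g : G ⧸ N) := by
        rw [hē]
        simp only [Finset.sum_mul]
        rw [Finset.sum_comm]
        apply Finset.sum_congr rfl
        intro g _
        rw [Finset.sum_eq_single (g : G ⧸ N)]
        · rw [if_pos rfl]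
        · intro q _ hq
          rw [if_neg (fun h => hq h.symm), zero_mul]
        · intro h; exact absurd (Finset.mem_univ _) h
      rw [h3]
      rfl
    rw [h2, he, h1]
    by_cases hχ : χ ∈ Bt
    · rw [if_pos hχ, if_pos ((hBt χ).mp hχ)]
    · rw [if_neg hχ, if_neg (fun h => hχ ((hBt χ).mpr h))]
  have hēeq : ē = blockCoeff Bt := by
    apply eq_of_omegaFun hēcf (blockCoeff_isClassFunction Bt)
    intro χ
    rw [hω, omegaFun_blockCoeff]
  obtain ⟨y, hy⟩ := Cfsg.Agent.S0906.result p M hM B hB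
  obtain ⟨S⟩ : Nonempty (Sylow p (Subgroup.centralizer ({y} : Set G))) := inferInstance
  obtain ⟨S', hS'⟩ : ∃ S' : Subgroup G, S' = (S : Subgroup _).map
      (Subgroup.centralizer ({y} : Set G)).subtype := ⟨_, rfl⟩
  have hS'D : IsDefectGroup p M B S' := ⟨y, hy, S, hS'⟩
  have hNle : ∀ P : Subgroup G, IsDefectGroup p M B P → N ≤ P := fun P hP =>
    (le_pCore' hNn hN).trans (Cfsg.Agent.S0912.result p M hM B hB P hP)
  have hyreg : ¬ p ∣ orderOf y := by
    intro hsing
    apply hy.2.1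
    rw [blockCoeff_eq_zero_of_singular hM B hBc y hsing]
    exact memLocalIdeal_zero M
  have hyN : ∀ n ∈ N, Commute y n := by
    intro n hn
    have h1 : n ∈ S' := hNle S' hS'D hn
    rw [hS'] at h1
    obtain ⟨c, -, rfl⟩ := Subgroup.mem_map.mp h1
    have := c.2
    rw [Subgroup.mem_centralizer_singleton_iff] at this
    exact this.symm
  have hēy : ē (y : G ⧸ N) = e y := by
    rw [hē]
    dsimp only
    rw [Finset.sum_eq_single y]
    · rw [if_pos rfl]
    · intro g _ hg
      by_cases hq : (g : G ⧸ N) = (y : G ⧸ N)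
      · rw [if_pos hq, he]
        apply blockCoeff_eq_zero_of_singular hM B hBc
        by_contra hgreg
        apply hg
        have h4 : y⁻¹ * g ∈ N := QuotientGroup.eq.mp hq.symm
        have h5 := eq_one_of_regular_commute hN y hyreg (y⁻¹ * g) h4 (hyN _ h4)
          (by rw [mul_inv_cancel_left]; exact hgreg)
        rw [inv_mul_eq_one] at h5
        exact h5.symm
      · rw [if_neg hq]
    · intro h; exact absurd (Finset.mem_univ _) h
  have hsum := blockCoeff_eq_sum_blocks' hM Bt hBtc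
  have hex : ∃ f : {f : Set (IrrCharacter (G ⧸ N)) // IsPBlock M f},
      f.1 ⊆ Bt ∧ ¬ MemLocalIdeal M (blockCoeff f.1 (y : G ⧸ N)) := by
    by_contra hcon
    push Not at hcon
    apply hy.2.1
    have e1 : blockCoeff B y = ē (y : G ⧸ N) := by rw [hēy, he]
    rw [e1, hēeq, hsum, Finset.sum_apply]
    apply memLocalIdeal_sum
    intro f _
    by_cases hf : f.1 ⊆ Bt
    · rw [if_pos hf]
      exact hcon f hf
    · rw [if_neg hf]
      exact memLocalIdeal_zero M
  obtain ⟨⟨f, hf⟩, hfsub, hfy⟩ := hex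
  have hsubf : ∀ χ ∈ f, ∀ ψ : IrrCharacter G,
      (ψ : G → ℂ) = (χ : G ⧸ N → ℂ) ∘ QuotientGroup.mk → ψ ∈ B := by
    intro χ hχ ψ hψ
    have h1 : infl χ ∈ B := (hBt χ).mp (hfsub hχ)
    have h2 : ψ = infl χ := Subtype.ext (by rw [hψ, hinfl])
    rw [h2]
    exact h1
  refine ⟨f, hf, hsubf, ?_⟩
  have hcardmap : ∀ P : Subgroup G, IsDefectGroup p M B P →
      Nat.card (P.map (QuotientGroup.mk' N)) * Nat.card N = p ^ blockDefect p B := by
    intro P hP
    rw [card_map_mk_mul N P (hNle P hP)]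
    exact Cfsg.Agent.S0908.result p M hM B hB P hP
  have hNpos : 0 < Nat.card N := Nat.card_pos
  obtain ⟨Df, hDf⟩ := exists_defectGroup' hM f hf
  obtain ⟨P₀, hP₀, hle₀⟩ := quot_defect_le hM N f hf B hB hsubf Df hDf
  have hDf' := hDf
  obtain ⟨g₀, hg₀, Pb, hPb⟩ := hDf'
  obtain ⟨q, Q, hQ⟩ := (Cfsg.Agent.S0911.result p M hM f hf g₀ hg₀ Pb (y : G ⧸ N)).1
    (blockCoeff_memLocalRing hM f (blockClosed_of_isPBlock M hf) _) hfy
  have k1 : Nat.card ((Q : Subgroup _).map
      (Subgroup.centralizer ({(y : G ⧸ N)} : Set (G ⧸ N))).subtype) ≤ Nat.card Df := by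
    have := Subgroup.card_le_of_le hQ
    rw [Subgroup.card_map_of_injective (f := (MulAut.conj q).toMonoidHom)
      (MulAut.conj q).injective, ← hPb] at this
    exact this
  have hSbar_le : S'.map (QuotientGroup.mk' N)
      ≤ Subgroup.centralizer ({(y : G ⧸ N)} : Set (G ⧸ N)) := by
    rintro _ ⟨s, hs, rfl⟩
    have hs' : s ∈ S' := hs
    rw [hS'] at hs'
    obtain ⟨c, -, rfl⟩ := Subgroup.mem_map.mp hs'
    have := c.2
    rw [Subgroup.mem_centralizer_singleton_iff] at this ⊢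
    change ((c.1 : G ⧸ N)) * (y : G ⧸ N) = (y : G ⧸ N) * (c.1 : G ⧸ N)
    rw [← QuotientGroup.mk_mul, ← QuotientGroup.mk_mul, this]
  have k2 : Nat.card (S'.map (QuotientGroup.mk' N)) ≤ Nat.card ((Q : Subgroup _).map
      (Subgroup.centralizer ({(y : G ⧸ N)} : Set (G ⧸ N))).subtype) := by
    rw [sylow_map_card]
    obtain ⟨k, hk⟩ := IsPGroup.iff_card.mp
      ((isPGroup_of_isDefectGroup hS'D).map (QuotientGroup.mk' N))
    have hd := Subgroup.card_dvd_of_le hSbar_le
    rw [hk] at hd ⊢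
    apply Nat.pow_le_pow_right hp.pos
    exact (hp.pow_dvd_iff_le_factorization Nat.card_pos.ne').mp hd
  have k3 : Nat.card Df ≤ Nat.card (P₀.map (QuotientGroup.mk' N)) := Subgroup.card_le_of_le hle₀
  have k4 : Nat.card (S'.map (QuotientGroup.mk' N))
      = Nat.card (P₀.map (QuotientGroup.mk' N)) :=
    Nat.eq_of_mul_eq_mul_right hNpos ((hcardmap S' hS'D).trans (hcardmap P₀ hP₀).symm)
  have hDfeq : Df = P₀.map (QuotientGroup.mk' N) :=
    Subgroup.eq_of_le_of_card_ge hle₀ (by omega)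
  have hcardDf : Nat.card Df = p ^ blockDefect p f :=
    Cfsg.Agent.S0908.result p M hM f hf Df hDf
  intro Dbar
  constructor
  · intro hDbar
    obtain ⟨P, hP, hle⟩ := quot_defect_le hM N f hf B hB hsubf Dbar hDbar
    refine ⟨P, hP, Subgroup.eq_of_le_of_card_ge hle ?_⟩
    have c1 := Cfsg.Agent.S0908.result p M hM f hf Dbar hDbar
    have c2 : Nat.card (P.map (QuotientGroup.mk' N))
        = Nat.card (P₀.map (QuotientGroup.mk' N)) :=
      Nat.eq_of_mul_eq_mul_right hNpos ((hcardmap P hP).trans (hcardmap P₀ hP₀).symm)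
    rw [c2, ← hDfeq, hcardDf, c1]
  · rintro ⟨P, hP, rfl⟩
    obtain ⟨g, hg⟩ := Cfsg.Agent.Lib.Helper25.defectGroup_conj hM hB hP hP₀
    have h1 := isDefectGroup_conj' hDf (g : G ⧸ N)
    have e : P.map (QuotientGroup.mk' N)
        = Df.map (MulAut.conj (g : G ⧸ N)).toMonoidHom := by
      rw [hg, hDfeq, Subgroup.map_map, Subgroup.map_map]
      congr 1
    rw [e]
    exact h1

end qd2

end Cfsg.Agent.Lib.Helper8
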