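import Mathlib
import Cfsg.Prelude.Def_Blocks
import Cfsg.Agent.Lib.Helper2.CharGalois
import Cfsg.Agent.Lib.Helper2.CharRational
import Cfsg.Agent.Lib.Helper12.GaloisTwist
import Cfsg.Agent.Lib.Helper25.Local
import Cfsg.Agent.Lib.Helper25.BlockIdem
import Cfsg.Agent.Lib.Helper25.BlockOrth
import Cfsg.Agent.Lib.Helper25.Quot
import Cfsg.Agent.Lib.Helper8.BlockAux
import Cfsg.Agent.Lib.Helper8.BlockBrauer
import Cfsg.Agent.Lib.Helper8.QuotDefect2

set_option autoImplicit false

/-!
Blocks of a quotient by a normal subgroup of order prime to `p`, Galois twists of the principal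
block, and integrality of the sums `∑_{χ ∈ B₀} |χ(x)|²`.
-/

namespace Cfsg.Agent.Lib.Helper8

open Cfsg Cfsg.Agent.Lib.Helper2 Cfsg.Agent.Lib.Helper25 Cfsg.Agent.Lib.Helper12

open scoped ComplexConjugate

section pq

variable {G : Type*} [Group G] [Finite G] {p : ℕ} {M : Ideal AlgInt}

/-- for a normal subgroup `N` of order prime to `p`, characters of `G/N` whose inflations lie
in the same block of `G` lie in the same block of `G/N` -/
theorem sameBlock_of_inflate [Fact p.Prime] (hM : IsPModular p M) (N : Subgroup G) [N.Normal]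
    (hN : ¬ p ∣ Nat.card N) (ψ ψ' : IrrCharacter (G ⧸ N))
    (h : SameBlock M (fun g : G => (ψ : G ⧸ N → ℂ) (g : G ⧸ N))
      (fun g : G => (ψ' : G ⧸ N → ℂ) (g : G ⧸ N))) :
    SameBlock M (ψ : G ⧸ N → ℂ) (ψ' : G ⧸ N → ℂ) := by
  classical
  have : Fintype G := Fintype.ofFinite G
  have : Fintype (G ⧸ N) := Fintype.ofFinite _
  have hpr := isPrime_of_isPModular hM
  have hne : (Nat.card N : ℂ) ≠ 0 := by exact_mod_cast (Nat.card_pos (α := N)).ne'
  intro xbar
  have key : ∀ θ : IrrCharacter (G ⧸ N),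
      omegaFun (fun g : G => (θ : G ⧸ N → ℂ) (g : G ⧸ N))
        (fun g : G => if IsConj xbar (g : G ⧸ N) then (1 : ℂ) else 0)
      = (Nat.card N : ℂ) * centralChar (θ : G ⧸ N → ℂ) xbar := by
    intro θ
    rw [← omegaFun_indicator_isConj θ xbar]
    unfold omegaFun
    rw [sum_comp_mk N (fun q => (if IsConj xbar q then (1 : ℂ) else 0) * (θ : G ⧸ N → ℂ) q)]
    beta_reduce
    rw [QuotientGroup.mk_one, mul_div_assoc]
  have hcf : IsClassFunction G (fun g : G => if IsConj xbar (g : G ⧸ N) then (1 : ℂ) else 0) := by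
    intro g t
    have h1 : IsConj xbar ((t * g * t⁻¹ : G) : G ⧸ N) ↔ IsConj xbar (g : G ⧸ N) := by
      have h2 : IsConj (g : G ⧸ N) ((t * g * t⁻¹ : G) : G ⧸ N) :=
        isConj_iff.mpr ⟨(t : G ⧸ N), rfl⟩
      exact ⟨fun h3 => h3.trans h2.symm, fun h3 => h3.trans h2⟩
    simp only [h1]
  have h1 := omegaFun_eq_sum_classes _
    (isClassFunction_of_isIrrCharacter (inflate_irr N ψ.2)) _ hcf
  have h2 := omegaFun_eq_sum_classes _
    (isClassFunction_of_isIrrCharacter (inflate_irr N ψ'.2)) _ hcf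
  have h3 : MemLocalIdeal M ((Nat.card N : ℂ) *
      (centralChar (ψ : G ⧸ N → ℂ) xbar - centralChar (ψ' : G ⧸ N → ℂ) xbar)) := by
    rw [mul_sub, ← key ψ, ← key ψ', h1, h2, ← Finset.sum_sub_distrib]
    apply memLocalIdeal_sum
    intro c _
    rw [← mul_sub]
    apply MemLocalIdeal.mul_left M _ (h c.out)
    split_ifs
    · exact memLocalRing_one M
    · exact memLocalRing_zero M
  have h4 := MemLocalIdeal.mul_left M (memLocalRing_inv_natCast hM hN) h3
  rwa [← mul_assoc, inv_mul_cancel₀ hne, one_mul] at h4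

omit [Finite G] in
theorem centralizer_pow_coprime (g : G) (m : ℕ) (hm : m.Coprime (orderOf g)) :
    Subgroup.centralizer ({g ^ m} : Set G) = Subgroup.centralizer ({g} : Set G) := by
  ext c
  rw [Subgroup.mem_centralizer_singleton_iff, Subgroup.mem_centralizer_singleton_iff]
  constructor
  · intro h
    obtain ⟨j, hj⟩ := exists_pow_eq_self_of_coprime hm
    have h1 : Commute c (g ^ m) := h
    have h2 := h1.pow_right j
    rw [hj] at h2
    exact h2
  · intro h
    have h1 : Commute c g := h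
    exact h1.pow_right m

/-- the Galois twist of an irreducible character -/
noncomputable def twistIrr (m : ℕ) (hm : m.Coprime (Nat.card G)) (χ : IrrCharacter G) :
    IrrCharacter G :=
  ⟨fun g => (χ : G → ℂ) (g ^ m), isIrrCharacter_pow_coprime m hm χ.2⟩

theorem twistIrr_apply (m : ℕ) (hm : m.Coprime (Nat.card G)) (χ : IrrCharacter G) (g : G) :
    (twistIrr m hm χ : G → ℂ) g = (χ : G → ℂ) (g ^ m) := rfl

theorem twistIrr_injective (m : ℕ) (hm : m.Coprime (Nat.card G)) :
    Function.Injective (twistIrr (G := G) m hm) := by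
  intro χ χ' h
  apply Subtype.ext
  funext g
  obtain ⟨k, rfl⟩ := (powCoprime hm.symm).surjective g
  have := congrArg (fun θ : IrrCharacter G => (θ : G → ℂ) k) h
  exact this

theorem centralChar_twist (m : ℕ) (hm : m.Coprime (Nat.card G)) (χ : G → ℂ) (g : G) :
    centralChar (fun k => χ (k ^ m)) g = centralChar χ (g ^ m) := by
  unfold centralChar
  rw [centralizer_pow_coprime g m (Nat.Coprime.coprime_dvd_right (orderOf_dvd_natCard g) hm)]
  beta_reduce
  rw [one_pow]

theorem twistIrr_mem_principal (m : ℕ) (hm : m.Coprime (Nat.card G)) (χ : IrrCharacter G)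
    (hχ : χ ∈ principalBlock M G) : twistIrr m hm χ ∈ principalBlock M G := by
  intro g
  have h := hχ (g ^ m)
  have h1 : centralChar (fun _ : G => (1 : ℂ)) g = centralChar (fun _ : G => (1 : ℂ)) (g ^ m) :=
    centralChar_twist m hm (fun _ : G => (1 : ℂ)) g
  have h2 : centralChar ((twistIrr m hm χ : IrrCharacter G) : G → ℂ) g
      = centralChar (χ : G → ℂ) (g ^ m) := centralChar_twist m hm (χ : G → ℂ) g
  rw [h1, h2]
  exact h

/-- the sum of `χ(x) χ(x⁻¹)` over the principal block is a rational integer -/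
theorem principal_sum_int [Fintype (IrrCharacter G)] (M : Ideal AlgInt)
    [DecidablePred fun χ : IrrCharacter G => χ ∈ principalBlock M G] (x : G) :
    ∃ z : ℤ, ∑ χ : IrrCharacter G, (if χ ∈ principalBlock M G then (1 : ℂ) else 0)
      * ((χ : G → ℂ) x * (χ : G → ℂ) x⁻¹) = (z : ℂ) := by
  have : Fintype G := Fintype.ofFinite G
  have hnz : NeZero (Nat.card G) := ⟨Nat.card_pos.ne'⟩
  have hlift : ∀ (χ : IrrCharacter G) (k : G), ∃ X : CycK (Nat.card G),
      cycEmb (Nat.card G) X = (χ : G → ℂ) k ∧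
      ∀ (σ : CycK (Nat.card G) ≃ₐ[ℚ] CycK (Nat.card G)) (m : ℕ),
        σ (cycZeta (Nat.card G)) = cycZeta (Nat.card G) ^ m →
        cycEmb (Nat.card G) (σ X) = (χ : G → ℂ) (k ^ m) := by
    intro χ k
    obtain ⟨d, ρ, hρ⟩ := isCharacter_of_isIrrCharacter χ.2
    rw [← hρ]
    exact char_lift_self (Nat.card G) ρ k (orderOf_dvd_natCard k)
  choose X hX1 hX2 using hlift
  set Y : CycK (Nat.card G) := ∑ χ : IrrCharacter G,
    (if χ ∈ principalBlock M G then (1 : CycK (Nat.card G)) else 0) * (X χ x * X χ x⁻¹) with hY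
  set S : ℂ := ∑ χ : IrrCharacter G, (if χ ∈ principalBlock M G then (1 : ℂ) else 0)
      * ((χ : G → ℂ) x * (χ : G → ℂ) x⁻¹) with hS
  have key : ∀ (σ : CycK (Nat.card G) ≃ₐ[ℚ] CycK (Nat.card G)) (m : ℕ),
      σ (cycZeta (Nat.card G)) = cycZeta (Nat.card G) ^ m →
      cycEmb (Nat.card G) (σ Y) = ∑ χ : IrrCharacter G,
        (if χ ∈ principalBlock M G then (1 : ℂ) else 0)
          * ((χ : G → ℂ) (x ^ m) * (χ : G → ℂ) (x⁻¹ ^ m)) := by
    intro σ m hσ
    rw [hY, map_sum, map_sum]
    apply Finset.sum_congr rfl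
    intro χ _
    rw [map_mul, map_mul, map_mul, map_mul, hX2 χ x σ m hσ, hX2 χ x⁻¹ σ m hσ]
    split_ifs <;> simp
  have hYS : cycEmb (Nat.card G) Y = S := by
    have h1 := key AlgEquiv.refl 1 (by simp)
    rw [show (AlgEquiv.refl : CycK (Nat.card G) ≃ₐ[ℚ] CycK (Nat.card G)) Y = Y from rfl] at h1
    simp only [pow_one] at h1
    exact h1
  have hfix : ∀ σ : CycK (Nat.card G) ≃ₐ[ℚ] CycK (Nat.card G), σ Y = Y := by
    intro σ
    obtain ⟨m, hm, hσ⟩ := aut_zeta (Nat.card G) σ
    apply cycEmb_injective (Nat.card G)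
    rw [key σ m hσ, hYS, hS]
    -- reindex along the twist
    have h1 : ∀ f : IrrCharacter G → ℂ,
        ∑ χ : IrrCharacter G, (if χ ∈ principalBlock M G then (1 : ℂ) else 0) * f χ
          = ∑ χ ∈ Finset.univ.filter (fun χ : IrrCharacter G => χ ∈ principalBlock M G), f χ := by
      intro f
      rw [Finset.sum_filter]
      apply Finset.sum_congr rfl
      intro χ _
      split_ifs <;> simp
    rw [h1 (fun χ => (χ : G → ℂ) (x ^ m) * (χ : G → ℂ) (x⁻¹ ^ m)),
      h1 (fun χ => (χ : G → ℂ) x * (χ : G → ℂ) x⁻¹)]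
    have himg : (Finset.univ.filter (fun χ : IrrCharacter G => χ ∈ principalBlock M G)).image
        (twistIrr m hm)
        = Finset.univ.filter (fun χ : IrrCharacter G => χ ∈ principalBlock M G) := by
      apply Finset.eq_of_subset_of_card_le
      · intro θ hθ
        obtain ⟨χ, hχ, rfl⟩ := Finset.mem_image.mp hθ
        rw [Finset.mem_filter] at hχ ⊢
        exact ⟨Finset.mem_univ _, twistIrr_mem_principal m hm χ hχ.2⟩
      · rw [Finset.card_image_of_injective _ (twistIrr_injective m hm)]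
    conv_rhs => rw [← himg]
    rw [Finset.sum_image (fun a _ b _ hab => twistIrr_injective m hm hab)]
    rfl
  obtain ⟨c, hc⟩ := (IsGalois.mem_range_algebraMap_iff_fixed Y).mpr hfix
  have hSc : S = (c : ℂ) := by
    rw [← hYS, ← hc]
    have := (cycEmb (Nat.card G)).commutes c
    simpa using this
  have hint : IsIntegral ℤ S := by
    rw [hS]
    apply IsIntegral.sum
    intro χ _
    split_ifs
    · rw [one_mul]
      exact (irr_isIntegral χ x).mul (irr_isIntegral χ x⁻¹)
    · rw [zero_mul]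
      exact isIntegral_zero
  have hcint : IsIntegral ℤ c := by
    have e1 : S = algebraMap ℚ ℂ c := by rw [hSc]; simp
    rw [e1] at hint
    exact (isIntegral_algebraMap_iff (algebraMap ℚ ℂ).injective).mp hint
  obtain ⟨z, hz⟩ := IsIntegrallyClosed.isIntegral_iff.mp hcint
  refine ⟨z, ?_⟩
  rw [hSc, ← hz]
  simp

end pq

end Cfsg.Agent.Lib.Helper8
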