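import Mathlib
import Cfsg.Prelude.Def_Blocks
import Cfsg.Agent.Lib.Helper8.PrincipalQuot
import Cfsg.Agent.Lib.Helper8.BlockHom
import Cfsg.Agent.Lib.Helper25.CharTools
import Cfsg.Agent.Lib.Helper25.Defect0
import Cfsg.Agent.Lib.Helper2.CharLinear

set_option autoImplicit false

/-!
The principal block of `G` and of `G/N` for a normal subgroup `N` of order prime to `p` in the
kernel of the principal block; sums of squares over sets of irreducible characters.
-/

namespace Cfsg.Agent.Lib.Helper8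

open Cfsg Cfsg.Agent.Lib.Helper2 Cfsg.Agent.Lib.Helper25 Cfsg.Agent.Lib.Helper12

open scoped ComplexConjugate

section pq2

variable {G : Type*} [Group G] [Finite G] {p : ℕ} {M : Ideal AlgInt}

theorem principal_bijOn [Fact p.Prime] (hM : IsPModular p M) (N : Subgroup G) [N.Normal]
    (hN : ¬ p ∣ Nat.card N)
    (hker : ∀ χ ∈ principalBlock M G, ∀ n ∈ N, (χ : G → ℂ) n = (χ : G → ℂ) 1) :
    Set.BijOn (fun ψ : IrrCharacter (G ⧸ N) => (irrQuotEquiv N ψ).1)
      (principalBlock M (G ⧸ N)) (principalBlock M G) := by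
  refine ⟨?_, ?_, ?_⟩
  · intro ψ hψ
    exact sameBlock_inflate_of_sameBlock hM N (fun _ => 1) (ψ : G ⧸ N → ℂ) hψ
  · intro ψ _ ψ' _ h
    exact (irrQuotEquiv N).injective (Subtype.ext h)
  · intro χ hχ
    have e : (irrQuotEquiv N ((irrQuotEquiv N).symm ⟨χ, hker χ hχ⟩)).1 = χ := by
      rw [Equiv.apply_symm_apply]
    refine ⟨(irrQuotEquiv N).symm ⟨χ, hker χ hχ⟩, ?_, e⟩
    have h2 : SameBlock M (fun _ : G => (1 : ℂ))
        (((irrQuotEquiv N ((irrQuotEquiv N).symm ⟨χ, hker χ hχ⟩)).1 : IrrCharacter G)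
          : G → ℂ) := by
      rw [e]; exact hχ
    exact sameBlock_of_inflate hM N hN ⟨fun _ => 1, isIrrCharacter_one⟩ _ h2

theorem principal_normSq_sum_eq [Fact p.Prime] (hM : IsPModular p M) (N : Subgroup G)
    [N.Normal] (hN : ¬ p ∣ Nat.card N)
    (hker : ∀ χ ∈ principalBlock M G, ∀ n ∈ N, (χ : G → ℂ) n = (χ : G → ℂ) 1) (x : G) :
    ∑ᶠ χ ∈ principalBlock M G, Complex.normSq ((χ : G → ℂ) x)
      = ∑ᶠ ψ ∈ principalBlock M (G ⧸ N), Complex.normSq ((ψ : G ⧸ N → ℂ) (x : G ⧸ N)) :=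
  (finsum_mem_eq_of_bijOn _ (principal_bijOn hM N hN hker) (fun ψ _ => rfl)).symm

theorem principal_degree_sum_eq [Fact p.Prime] (hM : IsPModular p M) (N : Subgroup G)
    [N.Normal] (hN : ¬ p ∣ Nat.card N)
    (hker : ∀ χ ∈ principalBlock M G, ∀ n ∈ N, (χ : G → ℂ) n = (χ : G → ℂ) 1) :
    ∑ᶠ χ ∈ principalBlock M G, charDegree (χ : G → ℂ) ^ 2
      = ∑ᶠ ψ ∈ principalBlock M (G ⧸ N), charDegree (ψ : G ⧸ N → ℂ) ^ 2 :=
  (finsum_mem_eq_of_bijOn _ (principal_bijOn hM N hN hker) (fun ψ _ => rfl)).symm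

theorem normSq_eq_mul_inv (χ : IrrCharacter G) (y : G) :
    ((Complex.normSq ((χ : G → ℂ) y) : ℝ) : ℂ) = (χ : G → ℂ) y * (χ : G → ℂ) y⁻¹ := by
  have : Fintype G := Fintype.ofFinite G
  rw [← irr_conj_eq_inv, Complex.mul_conj]

theorem sum_normSq_le_centralizer (B : Set (IrrCharacter G)) (y : G) :
    ∑ᶠ ψ ∈ B, Complex.normSq ((ψ : G → ℂ) y)
      ≤ (Nat.card (Subgroup.centralizer ({y} : Set G)) : ℝ) := by
  classical
  have : Fintype G := Fintype.ofFinite G
  have : Fintype (IrrCharacter G) := Fintype.ofFinite _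
  have h1 : ∑ ψ : IrrCharacter G, Complex.normSq ((ψ : G → ℂ) y)
      = (Nat.card (Subgroup.centralizer ({y} : Set G)) : ℝ) := by
    apply Complex.ofReal_injective
    push_cast
    rw [← sum_irr_normSq y]
    apply Finset.sum_congr rfl
    intro ψ _
    rw [Complex.mul_conj]
  rw [← h1, finsum_mem_eq_sum_indicator]
  apply Finset.sum_le_sum
  intro ψ _
  rw [Set.indicator_apply]
  split_ifs
  · exact le_refl _
  · exact Complex.normSq_nonneg _

theorem sum_degree_sq_eq_card :
    ∑ᶠ ψ : IrrCharacter G, charDegree (ψ : G → ℂ) ^ 2 = Nat.card G := by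
  classical
  have : Fintype G := Fintype.ofFinite G
  have : Fintype (IrrCharacter G) := Fintype.ofFinite _
  rw [finsum_eq_sum_of_fintype]
  have h1 := sum_irr_normSq (1 : G)
  have h2 : Subgroup.centralizer ({(1 : G)} : Set G) = ⊤ := by
    ext c
    simp [Subgroup.mem_centralizer_singleton_iff]
  rw [h2, Subgroup.card_top] at h1
  have h3 : ∀ ψ : IrrCharacter G, (ψ : G → ℂ) 1 * conj ((ψ : G → ℂ) 1)
      = ((charDegree (ψ : G → ℂ) ^ 2 : ℕ) : ℂ) := by
    intro ψ
    obtain ⟨d, hd1, -, -, hd2⟩ := irr_degree ψ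
    rw [hd2, hd1, Complex.conj_natCast]
    push_cast
    ring
  rw [Finset.sum_congr rfl (fun ψ _ => h3 ψ), ← Nat.cast_sum] at h1
  exact_mod_cast h1

theorem sum_degree_sq_eq_card_iff (B : Set (IrrCharacter G)) :
    (∑ᶠ ψ ∈ B, charDegree (ψ : G → ℂ) ^ 2) = Nat.card G ↔ B = Set.univ := by
  classical
  have : Fintype G := Fintype.ofFinite G
  have : Fintype (IrrCharacter G) := Fintype.ofFinite _
  constructor
  · intro h
    by_contra hne
    obtain ⟨ψ₀, hψ₀⟩ : ∃ ψ₀ : IrrCharacter G, ψ₀ ∉ B := by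
      by_contra hall
      push Not at hall
      exact hne (Set.eq_univ_of_forall hall)
    have htot := sum_degree_sq_eq_card (G := G)
    rw [finsum_eq_sum_of_fintype] at htot
    rw [finsum_mem_eq_sum_indicator, ← htot] at h
    have hlt : ∑ ψ : IrrCharacter G,
        B.indicator (fun ψ : IrrCharacter G => charDegree (ψ : G → ℂ) ^ 2) ψ
        < ∑ ψ : IrrCharacter G, charDegree (ψ : G → ℂ) ^ 2 := by
      apply Finset.sum_lt_sum
      · intro ψ _
        rw [Set.indicator_apply]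
        split_ifs
        · exact le_refl _
        · exact Nat.zero_le _
      · refine ⟨ψ₀, Finset.mem_univ _, ?_⟩
        rw [Set.indicator_apply, if_neg hψ₀]
        obtain ⟨d, -, hd, -, hd2⟩ := irr_degree ψ₀
        rw [hd2]
        positivity
    exact absurd h hlt.ne
  · rintro rfl
    rw [← sum_degree_sq_eq_card (G := G)]
    simp

theorem all_blocks_principal_iff [Fact p.Prime] (hM : IsPModular p M) :
    (∀ B : Set (IrrCharacter G), IsPBlock M B → B = principalBlock M G)
      ↔ principalBlock M G = Set.univ := by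
  have : Fintype G := Fintype.ofFinite G
  have hpr := isPrime_of_isPModular hM
  constructor
  · intro h
    apply Set.eq_univ_of_forall
    intro ψ
    rw [← h (blockOf M (ψ : G → ℂ)) ⟨ψ, rfl⟩]
    exact sameBlock_refl M _
  · rintro h B ⟨θ, rfl⟩
    have h1 : θ ∈ blockOf M (((⟨fun _ => 1, isIrrCharacter_one⟩ : IrrCharacter G)) : G → ℂ) := by
      have : θ ∈ principalBlock M G := by rw [h]; exact Set.mem_univ θ
      exact this
    exact (blockOf_eq_of_mem hM h1).symm

theorem principal_normSq_nat [Fact p.Prime] (hM : IsPModular p M) (x : G) :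
    ∃ n : ℕ, 0 < n ∧ ∑ᶠ χ ∈ principalBlock M G, Complex.normSq ((χ : G → ℂ) x) = n := by
  classical
  have : Fintype G := Fintype.ofFinite G
  have : Fintype (IrrCharacter G) := Fintype.ofFinite _
  have hpr := isPrime_of_isPModular hM
  obtain ⟨z, hz⟩ := principal_sum_int M x
  have h1 : ((∑ᶠ χ ∈ principalBlock M G, Complex.normSq ((χ : G → ℂ) x) : ℝ) : ℂ) = (z : ℂ) := by
    rw [← hz, finsum_mem_eq_sum_indicator]
    push_cast
    apply Finset.sum_congr rfl
    intro χ _
    rw [Set.indicator_apply]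
    split_ifs
    · rw [one_mul, normSq_eq_mul_inv]
    · simp
  have h2 : (∑ᶠ χ ∈ principalBlock M G, Complex.normSq ((χ : G → ℂ) x) : ℝ) = (z : ℝ) := by
    apply Complex.ofReal_injective
    rw [h1]
    simp
  have h3 : (1 : ℝ) ≤ ∑ᶠ χ ∈ principalBlock M G, Complex.normSq ((χ : G → ℂ) x) := by
    rw [finsum_mem_eq_sum_indicator]
    have hmem : (⟨fun _ => 1, isIrrCharacter_one⟩ : IrrCharacter G) ∈ principalBlock M G :=
      sameBlock_refl M _
    have h4 := Finset.single_le_sum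
      (f := (principalBlock M G).indicator
        (fun χ : IrrCharacter G => Complex.normSq ((χ : G → ℂ) x)))
      (fun χ _ => by
        rw [Set.indicator_apply]
        split_ifs
        · exact Complex.normSq_nonneg _
        · exact le_refl _)
      (Finset.mem_univ (⟨fun _ => 1, isIrrCharacter_one⟩ : IrrCharacter G))
    rw [Set.indicator_apply, if_pos hmem] at h4
    simpa using h4
  have h5 : (1 : ℤ) ≤ z := by
    rw [h2] at h3
    exact_mod_cast h3
  refine ⟨z.toNat, by omega, ?_⟩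
  rw [h2]
  have h6 : ((z.toNat : ℕ) : ℤ) = z := Int.toNat_of_nonneg (by omega)
  exact_mod_cast h6.symm

end pq2

end Cfsg.Agent.Lib.Helper8
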