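import Mathlib
import Cfsg.Prelude.Def_Blocks
import Cfsg.Agent.Lib.Helper8.SecondMain2
import Cfsg.Agent.Lib.Helper8.DefectNum
import Cfsg.Agent.Lib.Helper2.CharCenter
import Cfsg.Agent.S0914

set_option autoImplicit false

/-!
Irreducible characters whose degree has the same `p`-part as the index of a central
`p`-subgroup: not all their values lie in the maximal ideal.
-/

namespace Cfsg.Agent.Lib.Helper8

open Cfsg Cfsg.Agent.Lib.Helper2 Cfsg.Agent.Lib.Helper25

open scoped ComplexConjugate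

section central

variable {G : Type*} [Group G] [Fintype G] {p : ℕ} {M : Ideal AlgInt}

/-- a central element multiplies the values of an irreducible character by a scalar -/
theorem irr_central_mul (χ : IrrCharacter G) (z : G) (hz : z ∈ Subgroup.center G) (y : G) :
    (χ : G → ℂ) (z * y) * (χ : G → ℂ) 1 = (χ : G → ℂ) z * (χ : G → ℂ) y := by
  classical
  have hχ1 := irr_one_ne_zero χ.2
  have hzc := Subgroup.mem_center_iff.mp hz
  let e : G → ℂ := fun k => if k = z then 1 else 0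
  have he : IsClassFunction G e := by
    intro g h
    have hiff : h * g * h⁻¹ = z ↔ g = z := by
      constructor
      · intro h1
        have h2 : g = h⁻¹ * z * h := by rw [← h1]; group
        rw [h2, hzc h⁻¹, mul_assoc, inv_mul_cancel, mul_one]
      · intro h1
        rw [h1, hzc h, mul_inv_cancel_right]
    change (if h * g * h⁻¹ = z then (1 : ℂ) else 0) = if g = z then 1 else 0
    rw [if_congr hiff rfl rfl]
  have h1 := sum_classFun_mul_translate e he χ y
  have h2 : ∑ k : G, e k * (χ : G → ℂ) (k * y) = (χ : G → ℂ) (z * y) := by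
    rw [Finset.sum_eq_single z]
    · simp [e]
    · intro k _ hk
      simp [e, hk]
    · intro h; exact absurd (Finset.mem_univ z) h
  have h3 : omegaFun (χ : G → ℂ) e = (χ : G → ℂ) z / (χ : G → ℂ) 1 := by
    unfold omegaFun
    congr 1
    rw [Finset.sum_eq_single z]
    · simp [e]
    · intro k _ hk
      simp [e, hk]
    · intro h; exact absurd (Finset.mem_univ z) h
  rw [h2, h3] at h1
  rw [h1]
  field_simp

/-- the sum of `χ h⁻¹ * χ (g * h)` over the group -/
theorem sum_irr_inv_mul (χ : IrrCharacter G) (g : G) :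
    ∑ h : G, (χ : G → ℂ) h⁻¹ * (χ : G → ℂ) (g * h)
      = (Nat.card G : ℂ) / (χ : G → ℂ) 1 * (χ : G → ℂ) g := by
  classical
  have hχ1 := irr_one_ne_zero χ.2
  have hne := card_ne_zero_complex G
  have hcf := isClassFunction_of_isIrrCharacter χ.2
  let e : G → ℂ := fun k => (χ : G → ℂ) k⁻¹
  have he : IsClassFunction G e := by
    intro k h
    change (χ : G → ℂ) (h * k * h⁻¹)⁻¹ = (χ : G → ℂ) k⁻¹
    have : (h * k * h⁻¹)⁻¹ = h * k⁻¹ * h⁻¹ := by group
    rw [this]; exact hcf k⁻¹ h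
  have h1 := sum_classFun_mul_translate e he χ g
  have h2 : ∑ k : G, e k * (χ : G → ℂ) (k * g)
      = ∑ h : G, (χ : G → ℂ) h⁻¹ * (χ : G → ℂ) (g * h) := by
    apply Finset.sum_congr rfl
    intro k _
    have : (χ : G → ℂ) (k * g) = (χ : G → ℂ) (g * k) := by
      have h3 := hcf (g * k) g⁻¹
      have h4 : g⁻¹ * (g * k) * g⁻¹⁻¹ = k * g := by group
      rw [h4] at h3; exact h3
    rw [this]
  have h3 : omegaFun (χ : G → ℂ) e = (Nat.card G : ℂ) / (χ : G → ℂ) 1 := by
    unfold omegaFun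
    congr 1
    have h4 := classInner_irr_self χ.2
    rw [classInner_def] at h4
    have h5 : ∑ k : G, e k * (χ : G → ℂ) k
        = ∑ k : G, (χ : G → ℂ) k * conj ((χ : G → ℂ) k) := by
      apply Finset.sum_congr rfl
      intro k _
      change (χ : G → ℂ) k⁻¹ * (χ : G → ℂ) k = _
      rw [← irr_conj_eq_inv, mul_comm]
    rw [h5]
    field_simp at h4
    rw [h4]
  rw [← h2, h1, h3]

/-- not all the values of `χ` lie in the local ideal when the `p`-part of its degree is the
`p`-part of the index of a central subgroup -/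
theorem exists_value_not_mem [Fact p.Prime] (hM : IsPModular p M) (D : Subgroup G)
    (hDZ : D ≤ Subgroup.center G) (χ : IrrCharacter G)
    (hdeg : (charDegree (χ : G → ℂ)).factorization p = D.index.factorization p) :
    ∃ h : G, ¬ MemLocalIdeal M ((χ : G → ℂ) h) := by
  classical
  have hpr := isPrime_of_isPModular hM
  have hp : p.Prime := Fact.out
  by_contra hall
  push Not at hall
  obtain ⟨d, hd, hdeg', hdpos, -, -⟩ := Cfsg.Agent.S0914.irr_degree_data χ
  rw [hdeg'] at hdeg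
  have hχ1 := irr_one_ne_zero χ.2
  have hcent : ∀ z ∈ D, ∀ y : G,
      (χ : G → ℂ) (z * y) * (χ : G → ℂ) 1 = (χ : G → ℂ) z * (χ : G → ℂ) y :=
    fun z hz y => irr_central_mul χ z (hDZ hz) y
  have hzz : ∀ z ∈ D, (χ : G → ℂ) z * (χ : G → ℂ) z⁻¹ = (χ : G → ℂ) 1 * (χ : G → ℂ) 1 := by
    intro z hz
    have := hcent z hz z⁻¹
    rw [mul_inv_cancel] at this
    exact this.symm
  -- invariance under right translation by `D`
  have hF : ∀ g h : G, ∀ z ∈ D, (χ : G → ℂ) (h * z)⁻¹ * (χ : G → ℂ) (g * (h * z))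
      = (χ : G → ℂ) h⁻¹ * (χ : G → ℂ) (g * h) := by
    intro g h z hz
    have hzc := Subgroup.mem_center_iff.mp (hDZ hz)
    have e1 : (h * z)⁻¹ = z⁻¹ * h⁻¹ := by group
    have e2 : g * (h * z) = z * (g * h) := by
      rw [← mul_assoc, hzc (g * h)]
    have h1 := hcent z⁻¹ (D.inv_mem hz) h⁻¹
    have h2 := hcent z hz (g * h)
    have h3 := hzz z hz
    rw [e1, e2]
    have hsq : (χ : G → ℂ) 1 * (χ : G → ℂ) 1 ≠ 0 := mul_ne_zero hχ1 hχ1
    apply mul_right_cancel₀ hsq
    calc (χ : G → ℂ) (z⁻¹ * h⁻¹) * (χ : G → ℂ) (z * (g * h))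
          * ((χ : G → ℂ) 1 * (χ : G → ℂ) 1)
        = ((χ : G → ℂ) (z⁻¹ * h⁻¹) * (χ : G → ℂ) 1)
          * ((χ : G → ℂ) (z * (g * h)) * (χ : G → ℂ) 1) := by ring
      _ = ((χ : G → ℂ) z⁻¹ * (χ : G → ℂ) h⁻¹) * ((χ : G → ℂ) z * (χ : G → ℂ) (g * h)) := by
          rw [h1, h2]
      _ = ((χ : G → ℂ) z * (χ : G → ℂ) z⁻¹) * ((χ : G → ℂ) h⁻¹ * (χ : G → ℂ) (g * h)) := by ring
      _ = (χ : G → ℂ) h⁻¹ * (χ : G → ℂ) (g * h) * ((χ : G → ℂ) 1 * (χ : G → ℂ) 1) := by
          rw [h3]; ring
  have hDne : (Nat.card D : ℂ) ≠ 0 := card_ne_zero_complex D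
  have hquot : ∀ g : G, ∑ h : G, (χ : G → ℂ) h⁻¹ * (χ : G → ℂ) (g * h)
      = (Nat.card D : ℂ) * ∑ q : G ⧸ D,
          (χ : G → ℂ) (Quotient.out q)⁻¹ * (χ : G → ℂ) (g * Quotient.out q) := by
    intro g
    rw [← (Helper2.quotProdEquiv D).sum_comp, Fintype.sum_prod_type, Finset.mul_sum]
    apply Finset.sum_congr rfl
    intro q _
    have : ∀ z : D, (χ : G → ℂ) (Helper2.quotProdEquiv D (q, z))⁻¹
          * (χ : G → ℂ) (g * Helper2.quotProdEquiv D (q, z))
        = (χ : G → ℂ) (Quotient.out q)⁻¹ * (χ : G → ℂ) (g * Quotient.out q) := by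
      intro z
      rw [Helper2.quotProdEquiv_apply]
      exact hF g _ z z.2
    simp only [this]
    rw [Finset.sum_const, Finset.card_univ, ← Nat.card_eq_fintype_card, nsmul_eq_mul]
  -- the `p`-parts
  have hidx0 : D.index ≠ 0 := by
    intro h0
    have := Subgroup.card_mul_index D
    rw [h0, mul_zero] at this
    exact Nat.card_pos.ne' this.symm
  set m := d / p ^ d.factorization p with hm
  set m' := D.index / p ^ D.index.factorization p with hm'
  have hdm : p ^ d.factorization p * m = d := Nat.ordProj_mul_ordCompl_eq_self d p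
  have him : p ^ d.factorization p * m' = D.index := by
    rw [hdeg]; exact Nat.ordProj_mul_ordCompl_eq_self D.index p
  have hm'dvd : ¬ p ∣ m' := Nat.not_dvd_ordCompl hp hidx0
  have hppos : (p ^ d.factorization p : ℂ) ≠ 0 := by
    have : 0 < p ^ d.factorization p := pow_pos hp.pos _
    exact_mod_cast this.ne'
  have hkey : ∀ g : G, (m : ℂ) * ∑ q : G ⧸ D,
      (χ : G → ℂ) (Quotient.out q)⁻¹ * (χ : G → ℂ) (g * Quotient.out q)
      = (m' : ℂ) * (χ : G → ℂ) g := by
    intro g
    have h1 := hquot g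
    rw [sum_irr_inv_mul χ g] at h1
    have hcard : (Nat.card G : ℂ) = (Nat.card D : ℂ) * (D.index : ℂ) := by
      have := Subgroup.card_mul_index D
      exact_mod_cast this.symm
    have hdC : (d : ℂ) = (p ^ d.factorization p : ℂ) * (m : ℂ) := by exact_mod_cast hdm.symm
    have hiC : (D.index : ℂ) = (p ^ d.factorization p : ℂ) * (m' : ℂ) := by
      exact_mod_cast him.symm
    have hmne : (m : ℂ) ≠ 0 := by
      intro h0
      rw [h0, mul_zero] at hdC
      have : (d : ℂ) ≠ 0 := by exact_mod_cast hdpos.ne'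
      exact this hdC
    rw [hd, hcard, hdC, hiC] at h1
    have h2 : (Nat.card D : ℂ) * ((m : ℂ) * ∑ q : G ⧸ D,
        (χ : G → ℂ) (Quotient.out q)⁻¹ * (χ : G → ℂ) (g * Quotient.out q))
        = (Nat.card D : ℂ) * ((m' : ℂ) * (χ : G → ℂ) g) := by
      calc (Nat.card D : ℂ) * ((m : ℂ) * ∑ q : G ⧸ D,
            (χ : G → ℂ) (Quotient.out q)⁻¹ * (χ : G → ℂ) (g * Quotient.out q))
          = (m : ℂ) * ((Nat.card D : ℂ) * ∑ q : G ⧸ D,
            (χ : G → ℂ) (Quotient.out q)⁻¹ * (χ : G → ℂ) (g * Quotient.out q)) := by ring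
        _ = (m : ℂ) * ((Nat.card D : ℂ) * ((p ^ d.factorization p : ℂ) * (m' : ℂ))
              / ((p ^ d.factorization p : ℂ) * (m : ℂ)) * (χ : G → ℂ) g) := by rw [← h1]
        _ = (Nat.card D : ℂ) * ((m' : ℂ) * (χ : G → ℂ) g) := by
            field_simp
    exact mul_left_cancel₀ hDne h2
  -- the matrix
  let a : G ⧸ D → AlgInt := fun q => ⟨(χ : G → ℂ) (Quotient.out q)⁻¹, irr_isIntegral χ _⟩
  have ha : ∀ q, a q ∈ M := fun q => (memLocalIdeal_algInt_iff M (a q)).mp (hall _)
  let A : Matrix G G AlgInt := fun g h =>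
    (m : AlgInt) * ∑ q : G ⧸ D, if g * Quotient.out q = h then a q else 0
  have hA : ∀ g h, A g h ∈ M := by
    intro g h
    apply M.mul_mem_left
    apply M.sum_mem
    intro q _
    split_ifs
    · exact ha q
    · exact M.zero_mem
  have hAv : ∀ g : G, ∑ h : G, ((A g h : AlgInt) : ℂ) * (χ : G → ℂ) h
      = (m' : ℂ) * (χ : G → ℂ) g := by
    intro g
    rw [← hkey g]
    have e1 : ∀ h : G, ((A g h : AlgInt) : ℂ) * (χ : G → ℂ) h
        = (m : ℂ) * ∑ q : G ⧸ D, if g * Quotient.out q = h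
            then (χ : G → ℂ) (Quotient.out q)⁻¹ * (χ : G → ℂ) h else 0 := by
      intro h
      change (((m : AlgInt) * ∑ q : G ⧸ D, if g * Quotient.out q = h then a q else 0 : AlgInt) : ℂ)
        * (χ : G → ℂ) h = _
      push_cast
      rw [mul_assoc, Finset.sum_mul]
      congr 1
      apply Finset.sum_congr rfl
      intro q _
      split_ifs
      · rfl
      · simp
    simp only [e1]
    rw [← Finset.mul_sum, Finset.sum_comm]
    congr 1
    apply Finset.sum_congr rfl
    intro q _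
    rw [Finset.sum_ite_eq]
    simp
  let N₀ : Matrix G G AlgInt := (m' : AlgInt) • (1 : Matrix G G AlgInt) - A
  have hNv : ((algebraMap AlgInt ℂ).mapMatrix N₀).mulVec (χ : G → ℂ) = 0 := by
    funext g
    change ∑ h : G, ((algebraMap AlgInt ℂ).mapMatrix N₀) g h * (χ : G → ℂ) h = 0
    have e2 : ∀ h : G, ((algebraMap AlgInt ℂ).mapMatrix N₀) g h * (χ : G → ℂ) h
        = (if g = h then (m' : ℂ) * (χ : G → ℂ) h else 0)
          - ((A g h : AlgInt) : ℂ) * (χ : G → ℂ) h := by
      intro h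
      change ((((m' : AlgInt) • (1 : Matrix G G AlgInt) - A) g h : AlgInt) : ℂ)
        * (χ : G → ℂ) h = _
      rw [Matrix.sub_apply, Matrix.smul_apply, Matrix.one_apply]
      split_ifs <;> push_cast <;> simp <;> ring
    simp only [e2]
    rw [Finset.sum_sub_distrib, Finset.sum_ite_eq, hAv g]
    simp
  have hvne : (χ : G → ℂ) ≠ 0 := by
    intro h0
    apply hχ1
    rw [h0]; rfl
  have hdet : ((algebraMap AlgInt ℂ).mapMatrix N₀).det = 0 :=
    Matrix.exists_mulVec_eq_zero_iff.mp ⟨_, hvne, hNv⟩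
  rw [← RingHom.map_det] at hdet
  have hdet0 : N₀.det = 0 := by
    have : ((N₀.det : AlgInt) : ℂ) = 0 := hdet
    exact_mod_cast this
  have hπ := congrArg (Ideal.Quotient.mk M) hdet0
  rw [RingHom.map_det, map_zero] at hπ
  have hmap : (Ideal.Quotient.mk M).mapMatrix N₀
      = (Ideal.Quotient.mk M (m' : AlgInt)) • (1 : Matrix G G (AlgInt ⧸ M)) := by
    ext g h
    change Ideal.Quotient.mk M (((m' : AlgInt) • (1 : Matrix G G AlgInt) - A) g h) = _
    rw [Matrix.sub_apply, Matrix.smul_apply, Matrix.one_apply, map_sub,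
      Ideal.Quotient.eq_zero_iff_mem.mpr (hA g h), sub_zero, Matrix.smul_apply,
      Matrix.one_apply]
    split_ifs <;> simp
  rw [hmap, Matrix.det_smul, Matrix.det_one, mul_one] at hπ
  have hπ0 : Ideal.Quotient.mk M (m' : AlgInt) = 0 := by
    have := pow_eq_zero_iff (n := Fintype.card G) (Fintype.card_ne_zero) |>.mp hπ
    exact this
  have hmem : (m' : AlgInt) ∈ M := Ideal.Quotient.eq_zero_iff_mem.mp hπ0
  exact hm'dvd ((natCast_mem_iff hM m').mp hmem)

end central

end Cfsg.Agent.Lib.Helper8
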