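import Mathlib

set_option autoImplicit false
open scoped Pointwise

namespace Cfsg.Agent.Lib.Helper8

theorem dvd_card_of_dvd_index_stabilizer {Z X : Type*} [Group Z] [MulAction Z X] [Finite X]
    (d : ℕ) (h : ∀ a : X, d ∣ (MulAction.stabilizer Z a).index) : d ∣ Nat.card X := by
  classical
  letI : Fintype (MulAction.orbitRel.Quotient Z X) := Fintype.ofFinite _
  have hX : Nat.card X = ∑ ω : MulAction.orbitRel.Quotient Z X, Nat.card ω.orbit := by
    rw [Nat.card_congr (MulAction.selfEquivSigmaOrbits' Z X), Nat.card_sigma]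
  rw [hX]
  apply Finset.dvd_sum
  intro ω _
  induction ω using Quotient.inductionOn' with
  | h x =>
    rw [MulAction.orbitRel.Quotient.orbit_mk]
    have hidx : Nat.card (MulAction.orbit Z x) = (MulAction.stabilizer Z x).index := by
      rw [MulAction.index_stabilizer, Nat.card_coe_set_eq]
    rw [hidx]
    exact h x

theorem card_dvd_of_free_action {Z X : Type*} [Group Z] [MulAction Z X] [Finite X]
    (hfree : ∀ (z : Z) (a : X), z • a = a → z = 1) : Nat.card Z ∣ Nat.card X := by
  apply dvd_card_of_dvd_index_stabilizer (Z := Z)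
  intro a
  have : MulAction.stabilizer Z a = ⊥ := by
    rw [eq_bot_iff]
    intro z hz
    exact Subgroup.mem_bot.2 (hfree z a (MulAction.mem_stabilizer_iff.1 hz))
  rw [this, Subgroup.index_bot]

theorem sum_ite_mem_subgroup {G : Type*} [Group G] [Fintype G] (N : Subgroup G) (c : ℂ)
    [DecidablePred (· ∈ N)] :
    ∑ y : G, (if y ∈ N then c else 0) = (Nat.card N : ℂ) * c := by
  classical
  rw [← Finset.sum_filter, Finset.sum_const, nsmul_eq_mul]
  congr 2
  rw [Nat.card_eq_fintype_card, Fintype.card_subtype]

end Cfsg.Agent.Lib.Helper8
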