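import Mathlib
import Cfsg.Prelude.Def_Blocks
import Cfsg.Agent.S0174
import Cfsg.Agent.S0908
import Cfsg.Agent.S0924
import Cfsg.Agent.S0925
import Cfsg.Agent.S0943
import Cfsg.Agent.Lib.Helper8.DefectConj
import Cfsg.Agent.Lib.Helper8.DefectCentral
import Cfsg.Agent.Lib.Helper8.BlockQuot
import Cfsg.Agent.Lib.Helper8.SecondMain4
import Cfsg.Agent.Lib.Helper25.Defect0
import Cfsg.Agent.Lib.Helper25.Quot
import Cfsg.Agent.Lib.Helper25.BlockDefect

set_option autoImplicit false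

/-!
Blocks whose defect group `P` satisfies `G = P C_G(P)`: the characters of the block are the
products of an irreducible character of `P` with the canonical character.
-/

namespace Cfsg.Agent.Lib.Helper8

open Cfsg Cfsg.Agent.Lib.Helper2 Cfsg.Agent.Lib.Helper25

open scoped ComplexConjugate

section centralprod

variable {G : Type*} [Group G] {p : ℕ} {M : Ideal AlgInt}

theorem cp_normal (P : Subgroup G) (hG : P ⊔ Subgroup.centralizer (P : Set G) = ⊤) :
    P.Normal := by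
  have h := sup_centralizer_le_normalizer P
  rw [hG] at h
  exact Subgroup.normalizer_eq_top_iff.mp (top_le_iff.mp h)

theorem cp_decomp (P : Subgroup G) (hG : P ⊔ Subgroup.centralizer (P : Set G) = ⊤) (g : G) :
    ∃ a ∈ P, ∃ b ∈ Subgroup.centralizer (P : Set G), g = a * b := by
  have hn := cp_normal P hG
  have h1 : g ∈ P ⊔ Subgroup.centralizer (P : Set G) := by rw [hG]; exact Subgroup.mem_top g
  rw [← SetLike.mem_coe, Subgroup.normal_mul] at h1
  obtain ⟨a, ha, b, hb, rfl⟩ := Set.mem_mul.mp h1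
  exact ⟨a, ha, b, hb, rfl⟩

theorem cp_index [Finite G] [Fact p.Prime] (P : Subgroup G) (hP : IsPGroup p P)
    (hG : P ⊔ Subgroup.centralizer (P : Set G) = ⊤) :
    ∃ k : ℕ, (Subgroup.centralizer (P : Set G)).index = p ^ k := by
  have hn := cp_normal P hG
  have hq : IsPGroup p (G ⧸ Subgroup.centralizer (P : Set G)) := by
    intro q
    obtain ⟨g, rfl⟩ := QuotientGroup.mk_surjective q
    obtain ⟨a, ha, b, hb, rfl⟩ := cp_decomp P hG g
    obtain ⟨k, hk⟩ := hP ⟨a, ha⟩
    refine ⟨k, ?_⟩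
    have h1 : ((a * b : G) : G ⧸ Subgroup.centralizer (P : Set G)) = (a : G ⧸ _) := by
      rw [QuotientGroup.mk_mul, (QuotientGroup.eq_one_iff b).mpr hb, mul_one]
    rw [h1, ← QuotientGroup.mk_pow]
    have h2 : a ^ p ^ k = 1 := by
      have := congrArg Subtype.val hk
      simpa using this
    rw [h2]; rfl
  obtain ⟨n, hn⟩ := IsPGroup.iff_card.mp hq
  exact ⟨n, by rw [Subgroup.index_eq_card, hn]⟩

theorem cp_regular_mem [Finite G] [Fact p.Prime] (P : Subgroup G) (hP : IsPGroup p P)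
    (hG : P ⊔ Subgroup.centralizer (P : Set G) = ⊤) (g : G) (hg : ¬ p ∣ orderOf g) :
    g ∈ Subgroup.centralizer (P : Set G) := by
  have hn := cp_normal P hG
  exact mem_centralizer_of_regular P (cp_index P hP hG) g hg

/-- the product formula: `χ(x) χ(c) = χ(1) χ(x c)` for `x ∈ P`, `c ∈ C(P)` -/
theorem cp_mul [Finite G] (P : Subgroup G) (hG : P ⊔ Subgroup.centralizer (P : Set G) = ⊤)
    (χ : IrrCharacter G) (x c : G) (hx : x ∈ P) (hc : c ∈ Subgroup.centralizer (P : Set G)) :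
    (χ : G → ℂ) x * (χ : G → ℂ) c = (χ : G → ℂ) 1 * (χ : G → ℂ) (x * c) := by
  have hn := cp_normal P hG
  have hCn : (Subgroup.centralizer (P : Set G)).Normal := inferInstance
  apply Cfsg.Agent.S0943.result χ x c
  intro x' y' hx' hy'
  obtain ⟨g, rfl⟩ := isConj_iff.mp hx'
  obtain ⟨h, rfl⟩ := isConj_iff.mp hy'
  obtain ⟨a, ha, b, hb, rfl⟩ := cp_decomp P hG g
  obtain ⟨a', ha', b', hb', rfl⟩ := cp_decomp P hG h
  have hcf := isClassFunction_of_isIrrCharacter χ.2
  have e1 : a * b * x * (a * b)⁻¹ = a * x * a⁻¹ := by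
    have := Subgroup.mem_centralizer_iff.mp hb x hx
    rw [mul_inv_rev, mul_assoc a b x, ← this]; group
  have hbc : b' * c * b'⁻¹ ∈ Subgroup.centralizer (P : Set G) :=
    Subgroup.mul_mem _ (Subgroup.mul_mem _ hb' hc) (Subgroup.inv_mem _ hb')
  have e2 : a' * b' * c * (a' * b')⁻¹ = b' * c * b'⁻¹ := by
    have := Subgroup.mem_centralizer_iff.mp hbc a' ha'
    calc a' * b' * c * (a' * b')⁻¹ = a' * (b' * c * b'⁻¹) * a'⁻¹ := by group
      _ = (b' * c * b'⁻¹) * a' * a'⁻¹ := by rw [this]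
      _ = b' * c * b'⁻¹ := by group
  have e3 : b' * c * b'⁻¹ = a * (b' * c * b'⁻¹) * a⁻¹ := by
    have := Subgroup.mem_centralizer_iff.mp hbc a ha
    rw [this]; group
  have e4 : a * x * a⁻¹ = (a * b') * x * (a * b')⁻¹ := by
    have := Subgroup.mem_centralizer_iff.mp hb' x hx
    rw [mul_inv_rev, mul_assoc a b' x, ← this]; group
  rw [e1, e2, e3, e4]
  have e5 : a * b' * x * (a * b')⁻¹ * (a * (b' * c * b'⁻¹) * a⁻¹)
      = (a * b') * (x * c) * (a * b')⁻¹ := by group
  rw [e5, hcf]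

/-- Clifford for the central product: the restriction to `P` is a multiple of one irreducible
character of `P` -/
theorem cp_clifford [Finite G] (P : Subgroup G)
    (hG : P ⊔ Subgroup.centralizer (P : Set G) = ⊤) (χ : IrrCharacter G) :
    ∃ α : IrrCharacter P, ∃ f : ℕ, 0 < f ∧
      ∀ x : P, (χ : G → ℂ) x = f * (α : P → ℂ) x := by
  classical
  have : Fintype G := Fintype.ofFinite G
  have : Fintype P := Fintype.ofFinite P
  have hn := cp_normal P hG
  obtain ⟨α, hα, he⟩ := exists_irr_constituent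
      (IsCharacter.restrict (isCharacter_of_isIrrCharacter χ.2) P)
      (fun h0 => irr_one_ne_zero χ.2 (congrFun h0 1))
  have hcl := Cfsg.Agent.S0174.result P hn (χ : G → ℂ) χ.2 α hα he
  obtain ⟨k, hk⟩ := classInner_isCharacter_nat
    (IsCharacter.restrict (isCharacter_of_isIrrCharacter χ.2) P) (isCharacter_of_isIrrCharacter hα)
  have hS : {ψ : P → ℂ | ∃ g : G, ψ = fun n : P => α ⟨g * n * g⁻¹, hn.conj_mem n n.2 g⟩}
      = {α} := by
    ext ψ
    simp only [Set.mem_ofPred_eq, Set.mem_singleton_iff]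
    constructor
    · rintro ⟨g, rfl⟩
      funext n
      obtain ⟨a, ha, b, hb, rfl⟩ := cp_decomp P hG g
      have e1 : (⟨a * b * n * (a * b)⁻¹, hn.conj_mem n n.2 (a * b)⟩ : P)
          = ⟨a, ha⟩ * n * ⟨a, ha⟩⁻¹ := by
        apply Subtype.ext
        change a * b * (n : G) * (a * b)⁻¹ = a * (n : G) * a⁻¹
        have := Subgroup.mem_centralizer_iff.mp hb n n.2
        rw [mul_inv_rev, mul_assoc a b (n : G), ← this]; group
      rw [e1]
      exact isClassFunction_of_isIrrCharacter hα n ⟨a, ha⟩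
    · rintro rfl
      refine ⟨1, ?_⟩
      funext n
      congr 1
      apply Subtype.ext
      simp
  rw [hS, finsum_mem_singleton, hk] at hcl
  refine ⟨⟨α, hα⟩, k, ?_, fun x => ?_⟩
  · rcases Nat.eq_zero_or_pos k with h0 | h0
    · exfalso; apply he; rw [hk, h0]; simp
    · exact h0
  · have := congrFun hcl x
    simpa using this

/-- the irreducible character of `P` under `χ` -/
noncomputable def cpAlpha [Finite G] (P : Subgroup G)
    (hG : P ⊔ Subgroup.centralizer (P : Set G) = ⊤) (χ : IrrCharacter G) : IrrCharacter P :=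
  Classical.choose (cp_clifford P hG χ)

/-- its multiplicity -/
noncomputable def cpMult [Finite G] (P : Subgroup G)
    (hG : P ⊔ Subgroup.centralizer (P : Set G) = ⊤) (χ : IrrCharacter G) : ℕ :=
  Classical.choose (Classical.choose_spec (cp_clifford P hG χ))

theorem cpMult_pos [Finite G] (P : Subgroup G)
    (hG : P ⊔ Subgroup.centralizer (P : Set G) = ⊤) (χ : IrrCharacter G) :
    0 < cpMult P hG χ :=
  (Classical.choose_spec (Classical.choose_spec (cp_clifford P hG χ))).1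

theorem cp_restrict [Finite G] (P : Subgroup G)
    (hG : P ⊔ Subgroup.centralizer (P : Set G) = ⊤) (χ : IrrCharacter G) (x : P) :
    (χ : G → ℂ) x = cpMult P hG χ * (cpAlpha P hG χ : P → ℂ) x :=
  (Classical.choose_spec (Classical.choose_spec (cp_clifford P hG χ))).2 x

/-- a function vanishing off the elements with `p`-part in `P` is summed over `P × G_{p'}` -/
theorem cp_sum_sections [Fintype G] [Fact p.Prime] (P : Subgroup G) [Fintype P]
    (hP : IsPGroup p P) (hG : P ⊔ Subgroup.centralizer (P : Set G) = ⊤) (F : G → ℂ)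
    (hF : ∀ g : G, (∀ y : G, IsPPart p g y → y ∉ P) → F g = 0) :
    ∑ g : G, F g = ∑ x : P, ∑ y : G, if ¬ p ∣ orderOf y then F ((x : G) * y) else 0 := by
  classical
  obtain ⟨e, he⟩ := exists_pPart_exponent (G := G) p
  set s : Finset (P × G) := Finset.univ.filter (fun q : P × G => ¬ p ∣ orderOf q.2) with hs
  set φ : P × G → G := fun q => (q.1 : G) * q.2 with hφ
  have hpart : ∀ q ∈ s, IsPPart p (φ q) (q.1 : G) := by
    intro q hq
    have hq2 : ¬ p ∣ orderOf q.2 := (Finset.mem_filter.mp hq).2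
    have hc := cp_regular_mem P hP hG q.2 hq2
    refine ⟨q.2, rfl, ?_, ?_, hq2⟩
    · exact (Subgroup.mem_centralizer_iff.mp hc q.1 q.1.2)
    · obtain ⟨k, hk⟩ := (IsPGroup.iff_orderOf.mp hP) q.1
      exact ⟨k, by rw [← hk, Subgroup.orderOf_coe]⟩
  have hinj : Set.InjOn φ s := by
    intro q hq q' hq' h
    have h1 := he _ _ (hpart q hq)
    have h2 := he _ _ (hpart q' hq')
    have h3 : (q.1 : G) = q'.1 := by rw [h1, h2, h]
    have h4 : q.2 = q'.2 := by
      have : (q.1 : G) * q.2 = (q'.1 : G) * q'.2 := h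
      rw [h3] at this
      exact mul_left_cancel this
    exact Prod.ext (Subtype.ext h3) h4
  have h1 : ∑ g : G, F g = ∑ g ∈ s.image φ, F g := by
    symm
    apply Finset.sum_subset (Finset.subset_univ _)
    intro g _ hg
    apply hF
    intro y hy hyP
    apply hg
    obtain ⟨z, hz, hcomm, hord, hreg⟩ := hy
    exact Finset.mem_image.mpr
      ⟨(⟨y, hyP⟩, z), Finset.mem_filter.mpr ⟨Finset.mem_univ _, hreg⟩, hz⟩
  rw [h1, Finset.sum_image hinj, hs, Finset.sum_filter, Fintype.sum_prod_type]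

/-- characters of the block vanish off the elements with `p`-part in `P` -/
theorem cp_vanish [Finite G] [Fact p.Prime] (hM : IsPModular p M) (P : Subgroup G)
    (hG : P ⊔ Subgroup.centralizer (P : Set G) = ⊤) (B : Set (IrrCharacter G))
    (hB : IsPBlock M B) (hD : IsDefectGroup p M B P) (χ : IrrCharacter G) (hχ : χ ∈ B) (g : G)
    (hg : ∀ y : G, IsPPart p g y → y ∉ P) : (χ : G → ℂ) g = 0 := by
  have hn := cp_normal P hG
  obtain ⟨x, hx⟩ := exists_isPPart p g
  have hBeq : blockOf M (χ : G → ℂ) = B := by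
    obtain ⟨θ, rfl⟩ := hB
    exact (blockOf_eq_of_mem hM hχ).symm
  apply Cfsg.Agent.S0924.result p M hM χ g x hx
  intro D' hD' hxD'
  rw [hBeq] at hD'
  obtain ⟨c, hc⟩ := defectGroup_conj hM hB hD hD'
  apply hg x hx
  have h1 := hn.conj_mem _ (hc x hxD') c⁻¹
  have h2 : c⁻¹ * (c * x * c⁻¹) * c⁻¹⁻¹ = x := by group
  rw [h2] at h1
  exact h1

theorem cp_sum_P [Finite G] (P : Subgroup G) [Fintype P]
    (hG : P ⊔ Subgroup.centralizer (P : Set G) = ⊤) (χ χ' : IrrCharacter G) :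
    ∑ x : P, (χ : G → ℂ) x * conj ((χ' : G → ℂ) x)
      = if cpAlpha P hG χ = cpAlpha P hG χ' then
          (cpMult P hG χ : ℂ) * cpMult P hG χ' * Nat.card P else 0 := by
  have h1 : ∀ x : P, (χ : G → ℂ) x * conj ((χ' : G → ℂ) x)
      = (cpMult P hG χ : ℂ) * cpMult P hG χ' *
        ((cpAlpha P hG χ : P → ℂ) x * conj ((cpAlpha P hG χ' : P → ℂ) x)) := by
    intro x
    rw [cp_restrict P hG χ x, cp_restrict P hG χ' x, map_mul, Complex.conj_natCast]
    ring
  rw [Finset.sum_congr rfl (fun x _ => h1 x), ← Finset.mul_sum]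
  have h2 := classInner_irr (cpAlpha P hG χ).2 (cpAlpha P hG χ').2
  rw [classInner_def] at h2
  have hc : (Nat.card P : ℂ) ≠ 0 := by
    exact_mod_cast (Nat.card_pos (α := P)).ne'
  have h3 : ∑ x : P, (cpAlpha P hG χ : P → ℂ) x * conj ((cpAlpha P hG χ' : P → ℂ) x)
      = (Nat.card P : ℂ) * (if (cpAlpha P hG χ : P → ℂ) = (cpAlpha P hG χ' : P → ℂ)
          then 1 else 0) := by
    rw [← h2, ← mul_assoc, mul_inv_cancel₀ hc, one_mul]
  rw [h3]
  by_cases h : cpAlpha P hG χ = cpAlpha P hG χ'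
  · rw [if_pos h, if_pos (congrArg Subtype.val h), mul_one]
  · rw [if_neg h, if_neg (fun h' => h (Subtype.ext h')), mul_zero, mul_zero]


/-- the orthogonality relation split along `P × G_{p'}` -/
theorem cp_sum_regular [Fintype G] [Fact p.Prime] (hM : IsPModular p M) (P : Subgroup G)
    [Fintype P] (hP : IsPGroup p P) (hG : P ⊔ Subgroup.centralizer (P : Set G) = ⊤)
    (B : Set (IrrCharacter G)) (hB : IsPBlock M B) (hD : IsDefectGroup p M B P)
    (χ χ' : IrrCharacter G) (hχ : χ ∈ B) :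
    (∑ x : P, (χ : G → ℂ) x * conj ((χ' : G → ℂ) x)) *
      (∑ y : G, if ¬ p ∣ orderOf y then (χ : G → ℂ) y * conj ((χ' : G → ℂ) y) else 0)
      = (χ : G → ℂ) 1 * (χ' : G → ℂ) 1 * (if χ = χ' then (Nat.card G : ℂ) else 0) := by
  have h0 : ∑ g : G, (χ : G → ℂ) g * conj ((χ' : G → ℂ) g)
      = if χ = χ' then (Nat.card G : ℂ) else 0 := by
    have h2 := classInner_irr χ.2 χ'.2
    rw [classInner_def] at h2
    have hc : (Nat.card G : ℂ) ≠ 0 := by
      exact_mod_cast (Nat.card_pos (α := G)).ne'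
    have h3 : ∑ g : G, (χ : G → ℂ) g * conj ((χ' : G → ℂ) g)
        = (Nat.card G : ℂ) * (if (χ : G → ℂ) = (χ' : G → ℂ) then 1 else 0) := by
      rw [← h2, ← mul_assoc, mul_inv_cancel₀ hc, one_mul]
    rw [h3]
    by_cases h : χ = χ'
    · rw [if_pos h, if_pos (congrArg Subtype.val h), mul_one]
    · rw [if_neg h, if_neg (fun h' => h (Subtype.ext h')), mul_zero]
  have h1 := cp_sum_sections P hP hG (fun g => (χ : G → ℂ) g * conj ((χ' : G → ℂ) g))
    (fun g hg => by
      rw [cp_vanish hM P hG B hB hD χ hχ g hg, zero_mul])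
  rw [← h0, h1, Finset.sum_mul_sum, Finset.mul_sum]
  apply Finset.sum_congr rfl
  intro x _
  rw [Finset.mul_sum]
  apply Finset.sum_congr rfl
  intro y _
  by_cases hy : ¬ p ∣ orderOf y
  · rw [if_pos hy, if_pos hy]
    have hc := cp_regular_mem P hP hG y hy
    have e1 := cp_mul P hG χ x y x.2 hc
    have e2 := cp_mul P hG χ' x y x.2 hc
    have e3 : conj ((χ' : G → ℂ) x) * conj ((χ' : G → ℂ) y)
        = (χ' : G → ℂ) 1 * conj ((χ' : G → ℂ) (x * y)) := by
      rw [← map_mul, e2, map_mul, irr_one_conj]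
    change (χ : G → ℂ) x * conj ((χ' : G → ℂ) x) * ((χ : G → ℂ) y * conj ((χ' : G → ℂ) y))
      = (χ : G → ℂ) 1 * (χ' : G → ℂ) 1 *
        ((χ : G → ℂ) (x * y) * conj ((χ' : G → ℂ) (x * y)))
    linear_combination (conj ((χ' : G → ℂ) x) * conj ((χ' : G → ℂ) y)) * e1
      + ((χ : G → ℂ) 1 * (χ : G → ℂ) (x * y)) * e3
  · rw [if_neg hy, if_neg hy, mul_zero, mul_zero]

/-- block orthogonality between the section of `x ∈ P`, `x ≠ 1`, and the `p`-regular elements -/
theorem cp_orth [Finite G] [Fact p.Prime] (hM : IsPModular p M) (P : Subgroup G)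
    (hP : IsPGroup p P) (hG : P ⊔ Subgroup.centralizer (P : Set G) = ⊤)
    (B : Set (IrrCharacter G)) (hB : IsPBlock M B) (x : G) (hx : x ∈ P) (hx1 : x ≠ 1)
    (y y' : G) (hy : ¬ p ∣ orderOf y) (hy' : ¬ p ∣ orderOf y') :
    ∑ χ ∈ (Set.toFinite B).toFinset, (χ : G → ℂ) (x * y) * conj ((χ : G → ℂ) y') = 0 := by
  have : Fintype G := Fintype.ofFinite G
  have hc := cp_regular_mem P hP hG y hy
  have h1 : IsPPart p (x * y) x := by
    refine ⟨y, rfl, Subgroup.mem_centralizer_iff.mp hc x hx, ?_, hy⟩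
    obtain ⟨k, hk⟩ := (IsPGroup.iff_orderOf.mp hP) ⟨x, hx⟩
    exact ⟨k, by rw [← hk, ← Subgroup.orderOf_coe]⟩
  have h2 : IsPPart p y' 1 :=
    ⟨y', one_mul y', Commute.one_left y', ⟨0, by rw [orderOf_one, pow_zero]⟩, hy'⟩
  have h3 : ¬ IsConj x 1 := fun h => hx1 (isConj_one_left.mp h)
  have h4 := (Cfsg.Agent.S0925.result p M hM).2 (x * y) y' x 1 h1 h2 h3 B hB
  rw [finsum_mem_eq_finite_toFinset_sum _ (Set.toFinite B)] at h4
  rw [← h4]
  apply Finset.sum_congr rfl
  intro χ _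
  rw [irr_conj_eq_inv]

open Classical in
/-- the sum over the members of the block above `ψ ∈ Irr(P)` -/
theorem cp_W [Fintype G] [Fact p.Prime] (hM : IsPModular p M) (P : Subgroup G)
    [Fintype P] (hP : IsPGroup p P) (hG : P ⊔ Subgroup.centralizer (P : Set G) = ⊤)
    (B : Set (IrrCharacter G)) (hB : IsPBlock M B) (ψ : IrrCharacter P)
    (y y' : G) (hy : ¬ p ∣ orderOf y) (hy' : ¬ p ∣ orderOf y') :
    (Nat.card P : ℂ) * ∑ χ ∈ (Set.toFinite B).toFinset.filter (fun χ => cpAlpha P hG χ = ψ),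
        (χ : G → ℂ) y * conj ((χ : G → ℂ) y')
      = (ψ : P → ℂ) 1 ^ 2 *
        ∑ χ ∈ (Set.toFinite B).toFinset, (χ : G → ℂ) y * conj ((χ : G → ℂ) y') := by
  set BF := (Set.toFinite B).toFinset with hBF
  have hc := cp_regular_mem P hP hG y hy
  -- the auxiliary class function on `P`
  have hΦ : ∀ x : P, ∑ χ ∈ BF, (χ : G → ℂ) ((x : G) * y) * conj ((χ : G → ℂ) y')
      = ∑ χ ∈ BF, (cpAlpha P hG χ : P → ℂ) x *
          ((χ : G → ℂ) y * conj ((χ : G → ℂ) y') / (cpAlpha P hG χ : P → ℂ) 1) := by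
    intro x
    apply Finset.sum_congr rfl
    intro χ _
    have e1 := cp_mul P hG χ x y x.2 hc
    have e2 := cp_restrict P hG χ x
    have e3 := cp_restrict P hG χ 1
    rw [Subgroup.coe_one] at e3
    have hf : (cpMult P hG χ : ℂ) ≠ 0 := by
      exact_mod_cast (cpMult_pos P hG χ).ne'
    have ha : (cpAlpha P hG χ : P → ℂ) 1 ≠ 0 := irr_one_ne_zero (cpAlpha P hG χ).2
    rw [e2, e3] at e1
    have e4 : (χ : G → ℂ) ((x : G) * y)
        = (cpAlpha P hG χ : P → ℂ) x * (χ : G → ℂ) y / (cpAlpha P hG χ : P → ℂ) 1 := by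
      rw [eq_div_iff ha]
      apply mul_left_cancel₀ hf
      linear_combination -e1
    rw [e4]
    ring
  have hzero : ∀ x : P, x ≠ 1 →
      ∑ χ ∈ BF, (χ : G → ℂ) ((x : G) * y) * conj ((χ : G → ℂ) y') = 0 := by
    intro x hx
    exact cp_orth hM P hP hG B hB x x.2 (fun h => hx (Subtype.ext h)) y y' hy hy'
  -- pair with `ψ`
  have hpair1 : ∑ x : P, (∑ χ ∈ BF, (χ : G → ℂ) ((x : G) * y) * conj ((χ : G → ℂ) y')) *
      conj ((ψ : P → ℂ) x)
      = (∑ χ ∈ BF, (χ : G → ℂ) y * conj ((χ : G → ℂ) y')) * (ψ : P → ℂ) 1 := by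
    rw [Finset.sum_eq_single (1 : P)]
    · rw [Subgroup.coe_one, irr_one_conj]
      simp only [one_mul]
    · intro x _ hx
      rw [hzero x hx, zero_mul]
    · intro h; exact absurd (Finset.mem_univ _) h
  have hpair2 : ∑ x : P, (∑ χ ∈ BF, (χ : G → ℂ) ((x : G) * y) * conj ((χ : G → ℂ) y')) *
      conj ((ψ : P → ℂ) x)
      = (Nat.card P : ℂ) * (∑ χ ∈ BF.filter (fun χ => cpAlpha P hG χ = ψ),
          (χ : G → ℂ) y * conj ((χ : G → ℂ) y')) / (ψ : P → ℂ) 1 := by
    have hcP : (Nat.card P : ℂ) ≠ 0 := by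
      exact_mod_cast (Nat.card_pos (α := P)).ne'
    have hin : ∀ χ : IrrCharacter G,
        ∑ x : P, (cpAlpha P hG χ : P → ℂ) x * conj ((ψ : P → ℂ) x)
          = if cpAlpha P hG χ = ψ then (Nat.card P : ℂ) else 0 := by
      intro χ
      have h2 := classInner_irr (cpAlpha P hG χ).2 ψ.2
      rw [classInner_def] at h2
      have h3 : ∑ x : P, (cpAlpha P hG χ : P → ℂ) x * conj ((ψ : P → ℂ) x)
          = (Nat.card P : ℂ) * (if (cpAlpha P hG χ : P → ℂ) = (ψ : P → ℂ) then 1 else 0) := by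
        rw [← h2, ← mul_assoc, mul_inv_cancel₀ hcP, one_mul]
      rw [h3]
      by_cases h : cpAlpha P hG χ = ψ
      · rw [if_pos h, if_pos (congrArg Subtype.val h), mul_one]
      · rw [if_neg h, if_neg (fun h' => h (Subtype.ext h')), mul_zero]
    calc ∑ x : P, (∑ χ ∈ BF, (χ : G → ℂ) ((x : G) * y) * conj ((χ : G → ℂ) y')) *
          conj ((ψ : P → ℂ) x)
        = ∑ x : P, ∑ χ ∈ BF, ((χ : G → ℂ) y * conj ((χ : G → ℂ) y')
            / (cpAlpha P hG χ : P → ℂ) 1) *
            ((cpAlpha P hG χ : P → ℂ) x * conj ((ψ : P → ℂ) x)) := by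
          apply Finset.sum_congr rfl
          intro x _
          rw [hΦ x, Finset.sum_mul]
          apply Finset.sum_congr rfl
          intro χ _
          ring
      _ = ∑ χ ∈ BF, ((χ : G → ℂ) y * conj ((χ : G → ℂ) y')
            / (cpAlpha P hG χ : P → ℂ) 1) *
            (if cpAlpha P hG χ = ψ then (Nat.card P : ℂ) else 0) := by
          rw [Finset.sum_comm]
          apply Finset.sum_congr rfl
          intro χ _
          rw [← Finset.mul_sum, hin χ]
      _ = (Nat.card P : ℂ) * (∑ χ ∈ BF.filter (fun χ => cpAlpha P hG χ = ψ),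
          (χ : G → ℂ) y * conj ((χ : G → ℂ) y')) / (ψ : P → ℂ) 1 := by
          rw [Finset.sum_filter, Finset.mul_sum, Finset.sum_div]
          apply Finset.sum_congr rfl
          intro χ _
          by_cases h : cpAlpha P hG χ = ψ
          · rw [if_pos h, if_pos h, h]
            ring
          · rw [if_neg h, if_neg h, mul_zero, mul_zero, zero_div]
  have hψ : (ψ : P → ℂ) 1 ≠ 0 := irr_one_ne_zero ψ.2
  rw [hpair1] at hpair2
  rw [eq_div_iff hψ] at hpair2
  rw [← hpair2]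
  ring


theorem cp_alpha_triv_iff [Finite G] (P : Subgroup G)
    (hG : P ⊔ Subgroup.centralizer (P : Set G) = ⊤) (χ : IrrCharacter G) :
    cpAlpha P hG χ = Cfsg.Agent.Lib.Helper25.trivIrr P ↔ ∀ x ∈ P, (χ : G → ℂ) x = (χ : G → ℂ) 1 := by
  classical
  have : Fintype P := Fintype.ofFinite P
  have hf : (cpMult P hG χ : ℂ) ≠ 0 := by
    exact_mod_cast (cpMult_pos P hG χ).ne'
  have e3 := cp_restrict P hG χ 1
  rw [Subgroup.coe_one] at e3
  constructor
  · intro h x hx
    have e2 := cp_restrict P hG χ ⟨x, hx⟩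
    change (χ : G → ℂ) x = _ at e2
    rw [e2, e3, h]
    rfl
  · intro h
    have hconst : ∀ x : P, (cpAlpha P hG χ : P → ℂ) x = (cpAlpha P hG χ : P → ℂ) 1 := by
      intro x
      have e2 := cp_restrict P hG χ x
      rw [h x x.2, e3] at e2
      exact (mul_left_cancel₀ hf e2).symm
    have h2 := classInner_irr (cpAlpha P hG χ).2 (Cfsg.Agent.Lib.Helper25.trivIrr P).2
    rw [classInner_def] at h2
    have hcP : (Nat.card P : ℂ) ≠ 0 := by
      exact_mod_cast (Nat.card_pos (α := P)).ne'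
    have h4 : ∀ x : P, (cpAlpha P hG χ : P → ℂ) x *
        conj ((Cfsg.Agent.Lib.Helper25.trivIrr P : P → ℂ) x) = (cpAlpha P hG χ : P → ℂ) 1 := by
      intro x
      rw [hconst x]
      change (cpAlpha P hG χ : P → ℂ) 1 * conj (1 : ℂ) = (cpAlpha P hG χ : P → ℂ) 1
      rw [map_one, mul_one]
    have h3 : ∑ x : P, (cpAlpha P hG χ : P → ℂ) x *
        conj ((Cfsg.Agent.Lib.Helper25.trivIrr P : P → ℂ) x)
        = (Nat.card P : ℂ) * (cpAlpha P hG χ : P → ℂ) 1 := by
      rw [Finset.sum_congr rfl (fun x _ => h4 x), Finset.sum_const, Finset.card_univ,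
        nsmul_eq_mul, Nat.card_eq_fintype_card]
    rw [h3, ← mul_assoc, inv_mul_cancel₀ hcP, one_mul] at h2
    by_contra hne
    rw [if_neg (fun h' => hne (Subtype.ext h'))] at h2
    exact irr_one_ne_zero (cpAlpha P hG χ).2 h2

/-- the canonical character: existence, degree and uniqueness -/
theorem cp_canonical [Finite G] [Fact p.Prime] (hM : IsPModular p M) (P : Subgroup G)
    (hP : IsPGroup p P) (hG : P ⊔ Subgroup.centralizer (P : Set G) = ⊤)
    (B : Set (IrrCharacter G)) (hB : IsPBlock M B) (hD : IsDefectGroup p M B P) :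
    (∃ θ ∈ B, ∀ x ∈ P, (θ : G → ℂ) x = (θ : G → ℂ) 1) ∧
    (∀ θ ∈ B, (∀ x ∈ P, (θ : G → ℂ) x = (θ : G → ℂ) 1) →
      (charDegree (θ : G → ℂ)).factorization p = P.index.factorization p) ∧
    (∀ θ ∈ B, ∀ θ' ∈ B, (∀ x ∈ P, (θ : G → ℂ) x = (θ : G → ℂ) 1) →
      (∀ x ∈ P, (θ' : G → ℂ) x = (θ' : G → ℂ) 1) → θ' = θ) := by
  classical
  have hp : p.Prime := Fact.out
  have hn := cp_normal P hG
  have hC := cp_index P hP hG
  have hdeg : ∀ θ ∈ B, (∀ x ∈ P, (θ : G → ℂ) x = (θ : G → ℂ) 1) →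
      (charDegree (θ : G → ℂ)).factorization p = P.index.factorization p := by
    intro θ hθ hker
    obtain ⟨ψ, hψ, hψθ⟩ := deflate_irr P θ.2 hker
    obtain ⟨d, hd1, hdpos, hddvd, hdeg⟩ := irr_degree (⟨ψ, hψ⟩ : IrrCharacter (G ⧸ P))
    obtain ⟨d', hd1', hdpos', hddvd', hdeg'⟩ := irr_degree θ
    have hdd : d = d' := by
      have h1 : (ψ : G ⧸ P → ℂ) 1 = (θ : G → ℂ) 1 := hψθ 1
      change ψ 1 = (d : ℂ) at hd1
      rw [hd1, hd1'] at h1
      exact_mod_cast h1
    rw [hdeg', ← hdd]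
    have hidx : Nat.card (G ⧸ P) = P.index := (Subgroup.index_eq_card P).symm
    rw [hidx] at hddvd
    have hidx0 : P.index ≠ 0 := Subgroup.index_ne_zero_of_finite
    apply le_antisymm
    · exact (Nat.factorization_le_iff_dvd hdpos.ne' hidx0).mpr hddvd p
    · have hcard := Cfsg.Agent.S0908.result p M hM B hB P hD
      have h1 : sInf ((fun χ : IrrCharacter G => (charDegree (χ : G → ℂ)).factorization p) '' B)
          ≤ (charDegree (θ : G → ℂ)).factorization p :=
        Nat.sInf_le ⟨θ, hθ, rfl⟩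
      have h2 : blockDefect p B = (Nat.card G).factorization p -
          sInf ((fun χ : IrrCharacter G => (charDegree (χ : G → ℂ)).factorization p) '' B) := rfl
      have h3 : (Nat.card P).factorization p = blockDefect p B := by
        rw [hcard, Nat.Prime.factorization_pow hp, Finsupp.single_eq_same]
      have h4 : (Nat.card G).factorization p
          = P.index.factorization p + (Nat.card P).factorization p := by
        rw [← Subgroup.index_mul_card P, Nat.factorization_mul hidx0 Nat.card_pos.ne',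
          Finsupp.add_apply]
      rw [hdeg', ← hdd] at h1
      omega
  refine ⟨?_, hdeg, ?_⟩
  · obtain ⟨ψ, θ, hθ, hθψ⟩ := exists_inflation_mem hM P hP hC B hB
    refine ⟨θ, hθ, fun x hx => ?_⟩
    rw [hθψ]
    change (ψ : G ⧸ P → ℂ) ((x : G) : G ⧸ P) = (ψ : G ⧸ P → ℂ) ((1 : G) : G ⧸ P)
    rw [(QuotientGroup.eq_one_iff x).mpr hx, QuotientGroup.mk_one]
  · intro θ hθ θ' hθ' hker hker'
    obtain ⟨ψ, hψ, hψθ⟩ := deflate_irr P θ.2 hker
    obtain ⟨ψ', hψ', hψθ'⟩ := deflate_irr P θ'.2 hker'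
    have hsame : SameBlock M (θ : G → ℂ) (θ' : G → ℂ) := isPBlock_sameBlock' hM hB hθ hθ'
    have e1 : (ψ ∘ QuotientGroup.mk : G → ℂ) = (θ : G → ℂ) := funext hψθ
    have e2 : (ψ' ∘ QuotientGroup.mk : G → ℂ) = (θ' : G → ℂ) := funext hψθ'
    have hsame' : SameBlock M ψ ψ' := by
      apply (sameBlock_inflate_iff hM P hP hC (⟨ψ, hψ⟩ : IrrCharacter (G ⧸ P))
        (⟨ψ', hψ'⟩ : IrrCharacter (G ⧸ P))).mpr
      change SameBlock M (ψ ∘ QuotientGroup.mk) (ψ' ∘ QuotientGroup.mk)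
      rw [e1, e2]
      exact hsame
    obtain ⟨d, hd1, hdpos, hddvd, hdeg1⟩ := irr_degree (⟨ψ, hψ⟩ : IrrCharacter (G ⧸ P))
    obtain ⟨d', hd1', hdpos', hddvd', hdeg'⟩ := irr_degree θ
    have hdd : d = d' := by
      have h1 : (ψ : G ⧸ P → ℂ) 1 = (θ : G → ℂ) 1 := hψθ 1
      change ψ 1 = (d : ℂ) at hd1
      rw [hd1, hd1'] at h1
      exact_mod_cast h1
    have hfac := hdeg θ hθ hker
    rw [hdeg', ← hdd] at hfac
    have hidx : Nat.card (G ⧸ P) = P.index := (Subgroup.index_eq_card P).symm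
    have hnd : ¬ p ∣ Nat.card (G ⧸ P) / d :=
      not_dvd_div_of_factorization_le Nat.card_pos hddvd (by rw [hidx, hfac])
    have : Fintype (G ⧸ P) := Fintype.ofFinite _
    have heq := eq_of_sameBlock_of_defect_zero hM (⟨ψ, hψ⟩ : IrrCharacter (G ⧸ P))
      (⟨ψ', hψ'⟩ : IrrCharacter (G ⧸ P)) hsame' d hd1 hddvd hnd
    apply Subtype.ext
    funext g
    rw [← hψθ g, ← hψθ' g]
    exact congrFun (congrArg Subtype.val heq) (g : G ⧸ P)


open Classical in
/-- exactly one member of the block lies over each irreducible character of `P` -/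
theorem cp_fiber_card [Fintype G] [Fact p.Prime] (hM : IsPModular p M) (P : Subgroup G)
    [Fintype P] (hP : IsPGroup p P) (hG : P ⊔ Subgroup.centralizer (P : Set G) = ⊤)
    (B : Set (IrrCharacter G)) (hB : IsPBlock M B) (hD : IsDefectGroup p M B P)
    (ψ : IrrCharacter P) :
    ((Set.toFinite B).toFinset.filter (fun χ => cpAlpha P hG χ = ψ)).card = 1 := by
  set BF := (Set.toFinite B).toFinset with hBF
  have hmem : ∀ χ, χ ∈ BF ↔ χ ∈ B := fun χ => Set.Finite.mem_toFinset _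
  have hcP : (Nat.card P : ℂ) ≠ 0 := by
    exact_mod_cast (Nat.card_pos (α := P)).ne'
  have hcG : (Nat.card G : ℂ) ≠ 0 := by
    exact_mod_cast (Nat.card_pos (α := G)).ne'
  have hS : ∀ χ ∈ B, (Nat.card P : ℂ) * (∑ y : G, if ¬ p ∣ orderOf y then
      (χ : G → ℂ) y * conj ((χ : G → ℂ) y) else 0)
      = (cpAlpha P hG χ : P → ℂ) 1 ^ 2 * Nat.card G := by
    intro χ hχ
    have h1 := cp_sum_regular hM P hP hG B hB hD χ χ hχ
    rw [cp_sum_P P hG χ χ, if_pos rfl, if_pos rfl] at h1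
    have e3 := cp_restrict P hG χ 1
    rw [Subgroup.coe_one] at e3
    have hf : (cpMult P hG χ : ℂ) ≠ 0 := by
      exact_mod_cast (cpMult_pos P hG χ).ne'
    rw [e3] at h1
    apply mul_left_cancel₀ (mul_ne_zero hf hf)
    linear_combination h1
  set T : ℂ := ∑ y : G, if ¬ p ∣ orderOf y then
    ∑ χ ∈ BF, (χ : G → ℂ) y * conj ((χ : G → ℂ) y) else 0 with hT
  have hcount : ∀ ψ : IrrCharacter P,
      ((BF.filter (fun χ => cpAlpha P hG χ = ψ)).card : ℂ) * Nat.card G = T := by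
    intro ψ
    have hψ : (ψ : P → ℂ) 1 ≠ 0 := irr_one_ne_zero ψ.2
    have h1 : ∑ y : G, (if ¬ p ∣ orderOf y then (Nat.card P : ℂ) *
        ∑ χ ∈ BF.filter (fun χ => cpAlpha P hG χ = ψ),
          (χ : G → ℂ) y * conj ((χ : G → ℂ) y) else 0) = (ψ : P → ℂ) 1 ^ 2 * T := by
      rw [hT, Finset.mul_sum]
      apply Finset.sum_congr rfl
      intro y _
      by_cases hy : ¬ p ∣ orderOf y
      · rw [if_pos hy, if_pos hy]
        exact cp_W hM P hP hG B hB ψ y y hy hy
      · rw [if_neg hy, if_neg hy, mul_zero]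
    have h2 : ∑ y : G, (if ¬ p ∣ orderOf y then (Nat.card P : ℂ) *
        ∑ χ ∈ BF.filter (fun χ => cpAlpha P hG χ = ψ),
          (χ : G → ℂ) y * conj ((χ : G → ℂ) y) else 0)
        = ∑ χ ∈ BF.filter (fun χ => cpAlpha P hG χ = ψ), (Nat.card P : ℂ) *
          ∑ y : G, (if ¬ p ∣ orderOf y then (χ : G → ℂ) y * conj ((χ : G → ℂ) y) else 0) := by
      have h5 : ∀ y : G, (if ¬ p ∣ orderOf y then (Nat.card P : ℂ) *
          ∑ χ ∈ BF.filter (fun χ => cpAlpha P hG χ = ψ),
            (χ : G → ℂ) y * conj ((χ : G → ℂ) y) else 0)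
          = ∑ χ ∈ BF.filter (fun χ => cpAlpha P hG χ = ψ), (Nat.card P : ℂ) *
            (if ¬ p ∣ orderOf y then (χ : G → ℂ) y * conj ((χ : G → ℂ) y) else 0) := by
        intro y
        by_cases hy : ¬ p ∣ orderOf y
        · simp only [if_pos hy]
          rw [Finset.mul_sum]
        · simp only [if_neg hy, mul_zero, Finset.sum_const_zero]
      rw [Finset.sum_congr rfl (fun y _ => h5 y), Finset.sum_comm]
      apply Finset.sum_congr rfl
      intro χ _
      rw [Finset.mul_sum]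
    have h6 : ∀ χ ∈ BF.filter (fun χ => cpAlpha P hG χ = ψ), (Nat.card P : ℂ) *
          ∑ y : G, (if ¬ p ∣ orderOf y then (χ : G → ℂ) y * conj ((χ : G → ℂ) y) else 0)
        = (ψ : P → ℂ) 1 ^ 2 * Nat.card G := by
      intro χ hχ
      have hχ' := Finset.mem_filter.mp hχ
      rw [hS χ ((hmem χ).mp hχ'.1), hχ'.2]
    have h3 : ∑ χ ∈ BF.filter (fun χ => cpAlpha P hG χ = ψ), (Nat.card P : ℂ) *
          ∑ y : G, (if ¬ p ∣ orderOf y then (χ : G → ℂ) y * conj ((χ : G → ℂ) y) else 0)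
        = ((BF.filter (fun χ => cpAlpha P hG χ = ψ)).card : ℂ) *
          ((ψ : P → ℂ) 1 ^ 2 * Nat.card G) := by
      rw [Finset.sum_congr rfl h6, Finset.sum_const, nsmul_eq_mul]
    rw [h2, h3] at h1
    apply mul_left_cancel₀ (pow_ne_zero 2 hψ)
    linear_combination h1
  obtain ⟨⟨θ, hθ, hθker⟩, -, huniq⟩ := cp_canonical hM P hP hG B hB hD
  have hone : (BF.filter (fun χ => cpAlpha P hG χ
      = Cfsg.Agent.Lib.Helper25.trivIrr P)).card = 1 := by
    rw [Finset.card_eq_one]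
    refine ⟨θ, ?_⟩
    ext χ
    rw [Finset.mem_filter, Finset.mem_singleton, hmem, cp_alpha_triv_iff]
    constructor
    · rintro ⟨h1, h2⟩
      exact huniq θ hθ χ h1 hθker h2
    · rintro rfl
      exact ⟨hθ, hθker⟩
  have h1 := hcount ψ
  have h2 := hcount (Cfsg.Agent.Lib.Helper25.trivIrr P)
  rw [hone, ← h1] at h2
  have h3 := mul_right_cancel₀ hcG h2
  exact_mod_cast h3.symm

/-- a member of the block over each irreducible character of `P` -/
theorem cp_exists [Finite G] [Fact p.Prime] (hM : IsPModular p M) (P : Subgroup G)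
    (hP : IsPGroup p P) (hG : P ⊔ Subgroup.centralizer (P : Set G) = ⊤)
    (B : Set (IrrCharacter G)) (hB : IsPBlock M B) (hD : IsDefectGroup p M B P)
    (ψ : IrrCharacter P) : ∃ χ ∈ B, cpAlpha P hG χ = ψ := by
  classical
  have : Fintype G := Fintype.ofFinite G
  have : Fintype P := Fintype.ofFinite P
  have hc := cp_fiber_card hM P hP hG B hB hD ψ
  obtain ⟨a, ha⟩ := Finset.card_eq_one.mp hc
  have h1 : a ∈ (Set.toFinite B).toFinset.filter (fun χ => cpAlpha P hG χ = ψ) := by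
    rw [ha]; exact Finset.mem_singleton_self a
  have h2 := Finset.mem_filter.mp h1
  exact ⟨a, (Set.Finite.mem_toFinset _).mp h2.1, h2.2⟩

/-- the member of the block over an irreducible character of `P` is unique -/
theorem cp_alpha_inj [Finite G] [Fact p.Prime] (hM : IsPModular p M) (P : Subgroup G)
    (hP : IsPGroup p P) (hG : P ⊔ Subgroup.centralizer (P : Set G) = ⊤)
    (B : Set (IrrCharacter G)) (hB : IsPBlock M B) (hD : IsDefectGroup p M B P)
    (χ χ' : IrrCharacter G) (hχ : χ ∈ B) (hχ' : χ' ∈ B)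
    (h : cpAlpha P hG χ = cpAlpha P hG χ') : χ = χ' := by
  classical
  have : Fintype G := Fintype.ofFinite G
  have : Fintype P := Fintype.ofFinite P
  have hc := cp_fiber_card hM P hP hG B hB hD (cpAlpha P hG χ')
  obtain ⟨a, ha⟩ := Finset.card_eq_one.mp hc
  have h1 : χ ∈ (Set.toFinite B).toFinset.filter
      (fun χ => cpAlpha P hG χ = cpAlpha P hG χ') :=
    Finset.mem_filter.mpr ⟨(Set.Finite.mem_toFinset _).mpr hχ, h⟩
  have h2 : χ' ∈ (Set.toFinite B).toFinset.filter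
      (fun χ => cpAlpha P hG χ = cpAlpha P hG χ') :=
    Finset.mem_filter.mpr ⟨(Set.Finite.mem_toFinset _).mpr hχ', rfl⟩
  rw [ha] at h1 h2
  rw [Finset.mem_singleton.mp h1, Finset.mem_singleton.mp h2]

/-- values on `p`-regular elements: `χ = α_χ(1) θ` for the canonical character `θ` -/
theorem cp_values [Finite G] [Fact p.Prime] (hM : IsPModular p M) (P : Subgroup G)
    (hP : IsPGroup p P) (hG : P ⊔ Subgroup.centralizer (P : Set G) = ⊤)
    (B : Set (IrrCharacter G)) (hB : IsPBlock M B) (hD : IsDefectGroup p M B P)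
    (θ : IrrCharacter G) (hθ : θ ∈ B) (hθker : ∀ x ∈ P, (θ : G → ℂ) x = (θ : G → ℂ) 1)
    (χ : IrrCharacter G) (hχ : χ ∈ B) (y : G) (hy : ¬ p ∣ orderOf y) :
    (χ : G → ℂ) y = (cpAlpha P hG χ : P → ℂ) 1 * (θ : G → ℂ) y := by
  classical
  have hp : p.Prime := Fact.out
  have : Fintype G := Fintype.ofFinite G
  have : Fintype P := Fintype.ofFinite P
  set BF := (Set.toFinite B).toFinset with hBF
  have hmem : ∀ χ, χ ∈ BF ↔ χ ∈ B := fun χ => Set.Finite.mem_toFinset _
  have hcP : (Nat.card P : ℂ) ≠ 0 := by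
    exact_mod_cast (Nat.card_pos (α := P)).ne'
  have hfib : BF.filter (fun χ' => cpAlpha P hG χ' = cpAlpha P hG χ) = {χ} := by
    have hc := cp_fiber_card hM P hP hG B hB hD (cpAlpha P hG χ)
    obtain ⟨a, ha⟩ := Finset.card_eq_one.mp hc
    have h1 : χ ∈ BF.filter (fun χ' => cpAlpha P hG χ' = cpAlpha P hG χ) :=
      Finset.mem_filter.mpr ⟨(hmem χ).mpr hχ, rfl⟩
    rw [ha] at h1 ⊢
    rw [Finset.mem_singleton.mp h1]
  have hfib1 : BF.filter (fun χ' => cpAlpha P hG χ' = Cfsg.Agent.Lib.Helper25.trivIrr P)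
      = {θ} := by
    have hc := cp_fiber_card hM P hP hG B hB hD (Cfsg.Agent.Lib.Helper25.trivIrr P)
    obtain ⟨a, ha⟩ := Finset.card_eq_one.mp hc
    have h1 : θ ∈ BF.filter (fun χ' => cpAlpha P hG χ' = Cfsg.Agent.Lib.Helper25.trivIrr P) :=
      Finset.mem_filter.mpr ⟨(hmem θ).mpr hθ, (cp_alpha_triv_iff P hG θ).mpr hθker⟩
    rw [ha] at h1 ⊢
    rw [Finset.mem_singleton.mp h1]
  have key : ∀ y y' : G, ¬ p ∣ orderOf y → ¬ p ∣ orderOf y' →
      (χ : G → ℂ) y * conj ((χ : G → ℂ) y')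
        = (cpAlpha P hG χ : P → ℂ) 1 ^ 2 * ((θ : G → ℂ) y * conj ((θ : G → ℂ) y')) := by
    intro y y' hy hy'
    have h1 := cp_W hM P hP hG B hB (cpAlpha P hG χ) y y' hy hy'
    have h2 := cp_W hM P hP hG B hB (Cfsg.Agent.Lib.Helper25.trivIrr P) y y' hy hy'
    rw [hfib, Finset.sum_singleton] at h1
    rw [hfib1, Finset.sum_singleton] at h2
    have h3 : (Cfsg.Agent.Lib.Helper25.trivIrr P : P → ℂ) 1 = 1 := rfl
    rw [h3, one_pow, one_mul] at h2
    rw [← h2] at h1
    apply mul_left_cancel₀ hcP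
    linear_combination h1
  have h1 : ¬ p ∣ orderOf (1 : G) := by
    rw [orderOf_one]
    exact fun h => hp.one_lt.ne' (Nat.dvd_one.mp h)
  have k11 := key 1 1 h1 h1
  have ky1 := key y 1 hy h1
  rw [irr_one_conj, irr_one_conj] at k11 ky1
  obtain ⟨n, hn, hχ1⟩ := irr_apply_one χ.2
  obtain ⟨m, hm, hψ1⟩ := irr_apply_one (cpAlpha P hG χ).2
  obtain ⟨t, ht, hθ1⟩ := irr_apply_one θ.2
  rw [hχ1, hψ1, hθ1] at k11
  have hnat : n = m * t := by
    have h5 : ((n * n : ℕ) : ℂ) = ((m * t * (m * t) : ℕ) : ℂ) := by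
      push_cast
      linear_combination k11
    exact Nat.mul_self_inj.mp (by exact_mod_cast h5)
  rw [hχ1, hψ1, hθ1, hnat] at ky1
  rw [hψ1]
  have hm0 : (m : ℂ) ≠ 0 := by exact_mod_cast hm.ne'
  have ht0 : (t : ℂ) ≠ 0 := by exact_mod_cast ht.ne'
  apply mul_right_cancel₀ (mul_ne_zero hm0 ht0)
  push_cast at ky1
  linear_combination ky1

/-- the product formula for the members of the block -/
theorem cp_formula [Finite G] [Fact p.Prime] (hM : IsPModular p M) (P : Subgroup G)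
    (hP : IsPGroup p P) (hG : P ⊔ Subgroup.centralizer (P : Set G) = ⊤)
    (B : Set (IrrCharacter G)) (hB : IsPBlock M B) (hD : IsDefectGroup p M B P)
    (θ : IrrCharacter G) (hθ : θ ∈ B) (hθker : ∀ x ∈ P, (θ : G → ℂ) x = (θ : G → ℂ) 1)
    (χ : IrrCharacter G) (hχ : χ ∈ B) (x : P) (y : G) (hy : ¬ p ∣ orderOf y) :
    (χ : G → ℂ) ((x : G) * y) = (cpAlpha P hG χ : P → ℂ) x * (θ : G → ℂ) y := by
  have hc := cp_regular_mem P hP hG y hy
  have e1 := cp_mul P hG χ x y x.2 hc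
  have e2 := cp_restrict P hG χ x
  have e3 := cp_restrict P hG χ 1
  rw [Subgroup.coe_one] at e3
  have e4 := cp_values hM P hP hG B hB hD θ hθ hθker χ hχ y hy
  have hf : (cpMult P hG χ : ℂ) ≠ 0 := by
    exact_mod_cast (cpMult_pos P hG χ).ne'
  have ha : (cpAlpha P hG χ : P → ℂ) 1 ≠ 0 := irr_one_ne_zero (cpAlpha P hG χ).2
  rw [e2, e3, e4] at e1
  apply mul_left_cancel₀ (mul_ne_zero hf ha)
  linear_combination -e1


end centralprod

end Cfsg.Agent.Lib.Helper8
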