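import Mathlib
import Cfsg.Prelude.Def_Blocks
import Cfsg.Agent.Lib.Helper8.CentralProd
import Cfsg.Agent.Lib.Helper8.BlockReg
import Cfsg.Agent.Lib.Helper8.QuotDefect2

set_option autoImplicit false

/-!
Central products `G = U₁ U₂` of two elementwise commuting subgroups: class sizes, restriction
of irreducible characters, central characters.
-/

namespace Cfsg.Agent.Lib.Helper8

open Cfsg Cfsg.Agent.Lib.Helper2 Cfsg.Agent.Lib.Helper25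

open scoped ComplexConjugate

section cpp

variable {G : Type*} [Group G] {p : ℕ} {M : Ideal AlgInt}

theorem cpp_le_centralizer (U₁ U₂ : Subgroup G)
    (hcomm : ∀ u ∈ U₁, ∀ v ∈ U₂, u * v = v * u) :
    U₂ ≤ Subgroup.centralizer (U₁ : Set G) := by
  intro v hv
  rw [Subgroup.mem_centralizer_iff]
  intro u hu
  exact hcomm u hu v hv

theorem cpp_sup_centralizer (U₁ U₂ : Subgroup G)
    (hcomm : ∀ u ∈ U₁, ∀ v ∈ U₂, u * v = v * u) (hgen : U₁ ⊔ U₂ = ⊤) :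
    U₁ ⊔ Subgroup.centralizer (U₁ : Set G) = ⊤ := by
  apply top_le_iff.mp
  rw [← hgen]
  exact sup_le_sup_left (cpp_le_centralizer U₁ U₂ hcomm) U₁

theorem cpp_decomp (U₁ U₂ : Subgroup G)
    (hcomm : ∀ u ∈ U₁, ∀ v ∈ U₂, u * v = v * u) (hgen : U₁ ⊔ U₂ = ⊤) (g : G) :
    ∃ a ∈ U₁, ∃ b ∈ U₂, g = a * b := by
  have hn := cp_normal U₁ (cpp_sup_centralizer U₁ U₂ hcomm hgen)
  have h1 : g ∈ U₁ ⊔ U₂ := by rw [hgen]; exact Subgroup.mem_top g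
  rw [← SetLike.mem_coe, Subgroup.normal_mul] at h1
  obtain ⟨a, ha, b, hb, rfl⟩ := Set.mem_mul.mp h1
  exact ⟨a, ha, b, hb, rfl⟩

theorem cpp_conj_left (U₁ U₂ : Subgroup G)
    (hcomm : ∀ u ∈ U₁, ∀ v ∈ U₂, u * v = v * u) (s a b : G) (hs : s ∈ U₁) (hb : b ∈ U₂) :
    (a * b) * s * (a * b)⁻¹ = a * s * a⁻¹ := by
  have := hcomm s hs b hb
  rw [mul_inv_rev, mul_assoc a b s, ← this]; group

theorem cpp_conj_right (U₁ U₂ : Subgroup G)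
    (hcomm : ∀ u ∈ U₁, ∀ v ∈ U₂, u * v = v * u) (s a b : G) (hs : s ∈ U₂) (ha : a ∈ U₁)
    (hb : b ∈ U₂) :
    (a * b) * s * (a * b)⁻¹ = b * s * b⁻¹ := by
  have ht : b * s * b⁻¹ ∈ U₂ := U₂.mul_mem (U₂.mul_mem hb hs) (U₂.inv_mem hb)
  have := hcomm a ha _ ht
  calc (a * b) * s * (a * b)⁻¹ = a * (b * s * b⁻¹) * a⁻¹ := by group
    _ = (b * s * b⁻¹) * a * a⁻¹ := by rw [this]
    _ = b * s * b⁻¹ := by group

/-- the class of an element of `U₁` is the same in `U₁` and in `G` -/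
theorem cpp_index (U₁ U₂ : Subgroup G)
    (hcomm : ∀ u ∈ U₁, ∀ v ∈ U₂, u * v = v * u) (hgen : U₁ ⊔ U₂ = ⊤) (u : U₁) :
    (Subgroup.centralizer ({(u : G)} : Set G)).index
      = (Subgroup.centralizer ({u} : Set U₁)).index := by
  rw [index_centralizer_eq_card_class, index_centralizer_eq_card_class]
  symm
  apply Nat.card_congr
  refine Equiv.ofBijective (fun y : {y : U₁ // IsConj u y} =>
    (⟨((y : U₁) : G), by
      obtain ⟨c, hc⟩ := isConj_iff.mp y.2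
      exact isConj_iff.mpr ⟨(c : G), by rw [← hc]; rfl⟩⟩ :
      {y : G // IsConj (u : G) y})) ⟨?_, ?_⟩
  · rintro ⟨y, hy⟩ ⟨y', hy'⟩ h
    have h1 : (y : G) = (y' : G) :=
      congrArg (fun z : {y : G // IsConj (u : G) y} => (z : G)) h
    exact Subtype.ext (Subtype.ext h1)
  · rintro ⟨q, hq⟩
    obtain ⟨g, rfl⟩ := isConj_iff.mp hq
    obtain ⟨a, ha, b, hb, rfl⟩ := cpp_decomp U₁ U₂ hcomm hgen g
    refine ⟨⟨⟨a, ha⟩ * u * ⟨a, ha⟩⁻¹, isConj_iff.mpr ⟨_, rfl⟩⟩, Subtype.ext ?_⟩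
    change a * (u : G) * a⁻¹ = a * b * (u : G) * (a * b)⁻¹
    exact (cpp_conj_left U₁ U₂ hcomm (u : G) a b u.2 hb).symm

/-- Clifford: the restriction to `U₁` is a multiple of the given constituent -/
theorem cpp_restrict [Fintype G] (U₁ : Subgroup G) [Fintype U₁]
    (hG : U₁ ⊔ Subgroup.centralizer (U₁ : Set G) = ⊤) (χ : IrrCharacter G)
    (ψ : IrrCharacter U₁)
    (h : classInner (fun u : U₁ => (χ : G → ℂ) u) (ψ : U₁ → ℂ) ≠ 0) :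
    ∃ f : ℕ, 0 < f ∧ ∀ x : U₁, (χ : G → ℂ) x = f * (ψ : U₁ → ℂ) x := by
  obtain ⟨α, f, hf, hα⟩ := cp_clifford U₁ hG χ
  refine ⟨f, hf, ?_⟩
  have h1 : classInner (fun u : U₁ => (χ : G → ℂ) u) (ψ : U₁ → ℂ)
      = f * classInner (α : U₁ → ℂ) (ψ : U₁ → ℂ) := by
    rw [classInner_def, classInner_def]
    rw [Finset.sum_congr rfl (fun x _ => by rw [hα x, mul_assoc]), ← Finset.mul_sum]
    ring
  rw [h1, classInner_irr α.2 ψ.2] at h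
  by_cases hαψ : (α : U₁ → ℂ) = (ψ : U₁ → ℂ)
  · intro x
    rw [hα x, hαψ]
  · rw [if_neg hαψ, mul_zero] at h
    exact absurd rfl h

theorem cpp_centralChar [Fintype G] (U₁ U₂ : Subgroup G) [Fintype U₁]
    (hcomm : ∀ u ∈ U₁, ∀ v ∈ U₂, u * v = v * u) (hgen : U₁ ⊔ U₂ = ⊤) (χ : IrrCharacter G)
    (ψ : IrrCharacter U₁)
    (h : classInner (fun u : U₁ => (χ : G → ℂ) u) (ψ : U₁ → ℂ) ≠ 0) (u : U₁) :
    centralChar (χ : G → ℂ) (u : G) = centralChar (ψ : U₁ → ℂ) u := by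
  obtain ⟨f, hf, hα⟩ := cpp_restrict U₁ (cpp_sup_centralizer U₁ U₂ hcomm hgen) χ ψ h
  unfold centralChar
  rw [cpp_index U₁ U₂ hcomm hgen u, hα u]
  have h1 : (χ : G → ℂ) 1 = f * (ψ : U₁ → ℂ) 1 := by
    have := hα 1
    simpa using this
  rw [h1]
  have hf' : (f : ℂ) ≠ 0 := by exact_mod_cast hf.ne'
  have hψ1 : (ψ : U₁ → ℂ) 1 ≠ 0 := irr_one_ne_zero ψ.2
  field_simp

theorem cpp_centralChar_one (U₁ U₂ : Subgroup G)
    (hcomm : ∀ u ∈ U₁, ∀ v ∈ U₂, u * v = v * u) (hgen : U₁ ⊔ U₂ = ⊤) (u : U₁) :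
    centralChar (fun _ : G => (1 : ℂ)) (u : G) = centralChar (fun _ : U₁ => (1 : ℂ)) u := by
  unfold centralChar
  rw [cpp_index U₁ U₂ hcomm hgen u]

/-- a `p`-regular element is a product of `p`-regular elements of the factors -/
theorem cpp_regular_decomp [Finite G] [Fact p.Prime] (U₁ U₂ : Subgroup G)
    (hcomm : ∀ u ∈ U₁, ∀ v ∈ U₂, u * v = v * u) (hgen : U₁ ⊔ U₂ = ⊤) (g : G)
    (hg : ¬ p ∣ orderOf g) :
    ∃ a ∈ U₁, ∃ b ∈ U₂, g = a * b ∧ ¬ p ∣ orderOf a ∧ ¬ p ∣ orderOf b := by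
  have hp : p.Prime := Fact.out
  obtain ⟨a, ha, b, hb, rfl⟩ := cpp_decomp U₁ U₂ hcomm hgen g
  obtain ⟨e, m, hm, hN⟩ := Nat.exists_eq_pow_mul_and_not_dvd (Nat.card_pos (α := G)).ne' p
    hp.ne_one
  have hcop : (p ^ e).Coprime (orderOf (a * b)) :=
    Nat.Coprime.pow_left e ((Nat.Prime.coprime_iff_not_dvd hp).mpr hg)
  obtain ⟨j, hj⟩ := exists_pow_eq_self_of_coprime hcop
  have hab : Commute a b := hcomm a ha b hb
  have hreg : ∀ x : G, ¬ p ∣ orderOf ((x ^ p ^ e) ^ j) := by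
    intro x hx
    have h1 : orderOf ((x ^ p ^ e) ^ j) ∣ m := by
      apply orderOf_dvd_of_pow_eq_one
      rw [← pow_mul, ← pow_mul]
      have h2 : p ^ e * (j * m) = (p ^ e * m) * j := by ring
      rw [h2, ← hN, pow_mul, pow_card_eq_one', one_pow]
    exact hm (dvd_trans hx h1)
  refine ⟨(a ^ p ^ e) ^ j, U₁.pow_mem (U₁.pow_mem ha _) _, (b ^ p ^ e) ^ j,
    U₂.pow_mem (U₂.pow_mem hb _) _, ?_, hreg a, hreg b⟩
  rw [← ((hab.pow_pow (p ^ e) (p ^ e)).mul_pow j), ← hab.mul_pow, hj]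

/-- class sizes multiply on products of `p`-regular elements of the factors -/
theorem cpp_index_mul [Finite G] [Fact p.Prime] (U₁ U₂ : Subgroup G)
    (hcomm : ∀ u ∈ U₁, ∀ v ∈ U₂, u * v = v * u) (hgen : U₁ ⊔ U₂ = ⊤)
    (hZ : IsPGroup p ↥(U₁ ⊓ U₂)) (s₁ s₂ : G) (hs₁ : s₁ ∈ U₁) (hs₂ : s₂ ∈ U₂)
    (hr₁ : ¬ p ∣ orderOf s₁) :
    (Subgroup.centralizer ({s₁ * s₂} : Set G)).index
      = (Subgroup.centralizer ({s₁} : Set G)).index
        * (Subgroup.centralizer ({s₂} : Set G)).index := by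
  rw [index_centralizer_eq_card_class, index_centralizer_eq_card_class,
    index_centralizer_eq_card_class, ← Nat.card_prod]
  symm
  have hord : ∀ s y : G, IsConj s y → orderOf y = orderOf s := by
    intro s y hy
    obtain ⟨c, rfl⟩ := isConj_iff.mp hy
    exact orderOf_injective (MulAut.conj c).toMonoidHom (MulAut.conj c).injective s
  have hmem₁ : ∀ y : G, IsConj s₁ y → y ∈ U₁ := by
    intro y hy
    obtain ⟨c, rfl⟩ := isConj_iff.mp hy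
    obtain ⟨a, ha, b, hb, rfl⟩ := cpp_decomp U₁ U₂ hcomm hgen c
    rw [cpp_conj_left U₁ U₂ hcomm s₁ a b hs₁ hb]
    exact U₁.mul_mem (U₁.mul_mem ha hs₁) (U₁.inv_mem ha)
  have hmem₂ : ∀ y : G, IsConj s₂ y → y ∈ U₂ := by
    intro y hy
    obtain ⟨c, rfl⟩ := isConj_iff.mp hy
    obtain ⟨a, ha, b, hb, rfl⟩ := cpp_decomp U₁ U₂ hcomm hgen c
    rw [cpp_conj_right U₁ U₂ hcomm s₂ a b hs₂ ha hb]
    exact U₂.mul_mem (U₂.mul_mem hb hs₂) (U₂.inv_mem hb)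
  apply Nat.card_congr
  refine Equiv.ofBijective (fun q : {y : G // IsConj s₁ y} × {y : G // IsConj s₂ y} =>
    (⟨(q.1 : G) * (q.2 : G), by
      obtain ⟨c, hc⟩ := isConj_iff.mp q.1.2
      obtain ⟨d, hd⟩ := isConj_iff.mp q.2.2
      obtain ⟨a, ha, b, hb, rfl⟩ := cpp_decomp U₁ U₂ hcomm hgen c
      obtain ⟨a', ha', b', hb', rfl⟩ := cpp_decomp U₁ U₂ hcomm hgen d
      rw [cpp_conj_left U₁ U₂ hcomm s₁ a b hs₁ hb] at hc
      rw [cpp_conj_right U₁ U₂ hcomm s₂ a' b' hs₂ ha' hb'] at hd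
      refine isConj_iff.mpr ⟨a * b', ?_⟩
      rw [← hc, ← hd, ← cpp_conj_left U₁ U₂ hcomm s₁ a b' hs₁ hb',
        ← cpp_conj_right U₁ U₂ hcomm s₂ a b' hs₂ ha hb']
      group⟩ : {z : G // IsConj (s₁ * s₂) z})) ⟨?_, ?_⟩
  · rintro ⟨⟨x, hx⟩, ⟨y, hy⟩⟩ ⟨⟨x', hx'⟩, ⟨y', hy'⟩⟩ h
    have h1 : x * y = x' * y' := congrArg Subtype.val h
    have hu : x'⁻¹ * x = y' * y⁻¹ := by
      rw [inv_mul_eq_iff_eq_mul, ← mul_assoc, ← h1, mul_inv_cancel_right]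
    have hu1 : x'⁻¹ * x ∈ U₁ := U₁.mul_mem (U₁.inv_mem (hmem₁ x' hx')) (hmem₁ x hx)
    have hu2 : x'⁻¹ * x ∈ U₂ := by
      rw [hu]; exact U₂.mul_mem (hmem₂ y' hy') (U₂.inv_mem (hmem₂ y hy))
    have h2 : x'⁻¹ * x = 1 := by
      apply eq_one_of_regular_commute (N := U₁ ⊓ U₂) (p := p) ?_ x' ?_ (x'⁻¹ * x) ⟨hu1, hu2⟩
        (hcomm x' (hmem₁ x' hx') _ hu2) ?_
      · intro z
        obtain ⟨k, hk⟩ := hZ z
        exact ⟨k, hk⟩
      · rw [hord s₁ x' hx']; exact hr₁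
      · rw [mul_inv_cancel_left, hord s₁ x hx]; exact hr₁
    have h3 : x = x' := by
      rw [inv_mul_eq_one] at h2
      exact h2.symm
    subst h3
    have h4 : y = y' := mul_left_cancel h1
    subst h4
    rfl
  · rintro ⟨z, hz⟩
    obtain ⟨c, rfl⟩ := isConj_iff.mp hz
    refine ⟨(⟨c * s₁ * c⁻¹, isConj_iff.mpr ⟨c, rfl⟩⟩, ⟨c * s₂ * c⁻¹, isConj_iff.mpr ⟨c, rfl⟩⟩),
      Subtype.ext ?_⟩
    change c * s₁ * c⁻¹ * (c * s₂ * c⁻¹) = c * (s₁ * s₂) * c⁻¹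
    group

/-- central characters multiply on products of `p`-regular elements of the factors -/
theorem cpp_centralChar_mul [Finite G] [Fact p.Prime] (U₁ U₂ : Subgroup G)
    (hcomm : ∀ u ∈ U₁, ∀ v ∈ U₂, u * v = v * u) (hgen : U₁ ⊔ U₂ = ⊤)
    (hZ : IsPGroup p ↥(U₁ ⊓ U₂)) (χ : IrrCharacter G) (s₁ s₂ : G) (hs₁ : s₁ ∈ U₁)
    (hs₂ : s₂ ∈ U₂) (hr₁ : ¬ p ∣ orderOf s₁) :
    centralChar (χ : G → ℂ) (s₁ * s₂)
      = centralChar (χ : G → ℂ) s₁ * centralChar (χ : G → ℂ) s₂ := by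
  have hmul := cp_mul U₁ (cpp_sup_centralizer U₁ U₂ hcomm hgen) χ s₁ s₂ hs₁
    (cpp_le_centralizer U₁ U₂ hcomm hs₂)
  have hχ1 : (χ : G → ℂ) 1 ≠ 0 := irr_one_ne_zero χ.2
  unfold centralChar
  rw [cpp_index_mul U₁ U₂ hcomm hgen hZ s₁ s₂ hs₁ hs₂ hr₁, Nat.cast_mul]
  field_simp
  linear_combination
    ((Subgroup.centralizer ({s₁} : Set G)).index : ℂ)
      * ((Subgroup.centralizer ({s₂} : Set G)).index : ℂ) * (-hmul)

end cpp

end Cfsg.Agent.Lib.Helper8
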