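import Mathlib
import Cfsg.Prelude.Def_Characters
import Cfsg.Agent.Lib.Helper8.FT1
import Cfsg.Agent.Lib.Helper8.FT2
import Cfsg.Agent.Lib.Helper8.FT3
import Cfsg.Agent.Lib.Helper25.Quot
import Cfsg.Agent.S0185
import Cfsg.Agent.S0898

/-!
# The Feit--Thompson style Sylow normality theorem: minimal counterexample analysis
-/

set_option autoImplicit false

namespace Cfsg.Agent.Lib.Helper8

open Cfsg Cfsg.Agent.Lib.Helper2 Cfsg.Agent.Lib.Helper25 Module
open scoped ComplexConjugate Pointwise

universe u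

section ft4a

variable {X : Type*} [Group X]

theorem mem_smul_sylow_iff {p : ℕ} (g : X) (P : Sylow p X) (x : X) :
    x ∈ ((g • P : Sylow p X) : Subgroup X) ↔ g⁻¹ * x * g ∈ (P : Subgroup X) := by
  rw [Sylow.coe_subgroup_smul, Subgroup.mem_pointwise_smul_iff_inv_smul_mem]
  simp [MulAut.smul_def]

theorem uniqSyl_top_of_normal [Finite X] {p : ℕ} [Fact p.Prime] (P : Sylow p X)
    (h : (P : Subgroup X).Normal) : UniqSyl p (⊤ : Subgroup X) := by
  have key : ∀ A : Subgroup X, IsPGroup p A → A ≤ P := by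
    intro A hA
    obtain ⟨Q, hQ⟩ := hA.exists_le_sylow
    obtain ⟨g, hg⟩ := MulAction.exists_smul_eq X P Q
    rw [Sylow.smul_eq_of_normal] at hg
    rw [hg]
    exact hQ
  intro A B _ _ hpA hpB
  exact P.isPGroup'.to_le (sup_le (key A hpA) (key B hpB))

theorem card_map_mk [Finite X] (P R : Subgroup X) [R.Normal] (hRP : R ≤ P) :
    Nat.card (P.map (QuotientGroup.mk' R)) * Nat.card R = Nat.card P := by
  have h1 : (P.map (QuotientGroup.mk' R)).comap (QuotientGroup.mk' R) = P := by
    rw [Subgroup.comap_map_eq, QuotientGroup.ker_mk', sup_eq_left.mpr hRP]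
  have h2 : (P.map (QuotientGroup.mk' R)).index = P.index := by
    conv_rhs => rw [← h1]
    rw [Subgroup.index_comap_of_surjective _ (QuotientGroup.mk'_surjective R)]
  have h3 := Subgroup.card_mul_index P
  have h4 := Subgroup.card_mul_index (P.map (QuotientGroup.mk' R))
  have h5 := Subgroup.card_eq_card_quotient_mul_card_subgroup R
  have h6 : P.index ≠ 0 := Subgroup.index_ne_zero_of_finite
  rw [h2] at h4
  have h7 : Nat.card (P.map (QuotientGroup.mk' R)) * Nat.card R * P.index
      = Nat.card P * P.index := by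
    rw [h3, h5, ← h4]
    ring
  exact Nat.eq_of_mul_eq_mul_right (Nat.pos_of_ne_zero h6) h7

theorem normal_of_commutator_le (M : Subgroup X) (h : commutator X ≤ M) : M.Normal := by
  constructor
  intro m hm g
  have h1 : g * m * g⁻¹ * m⁻¹ ∈ M := h (by
    rw [commutator_def]
    exact Subgroup.commutator_mem_commutator (Subgroup.mem_top g) (Subgroup.mem_top m))
  have h2 := M.mul_mem h1 hm
  rwa [inv_mul_cancel_right] at h2

theorem commute_of_conj_mul [Finite X] {p : ℕ} [hp : Fact p.Prime] (K : Subgroup X)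
    (hpK : ¬ p ∣ Nat.card K) {a c c' j : X} (ha : ∃ k : ℕ, a ^ (p ^ k) = 1) (hc : c ∈ K)
    (hc' : c' ∈ K) (hac : a * c = c * a) (hac' : a * c' = c' * a)
    (hj : j * (a * c) * j⁻¹ = a * c') : j * a = a * j := by
  obtain ⟨m, hm⟩ : ∃ m : ℕ, m = Nat.card K := ⟨_, rfl⟩
  have hcm : ∀ c ∈ K, c ^ m = 1 := by
    intro c hc
    have h1 : orderOf c ∣ m := by
      have := orderOf_dvd_natCard (⟨c, hc⟩ : K)
      rwa [Subgroup.orderOf_mk, ← hm] at this
    obtain ⟨t, ht⟩ := h1
    rw [ht, pow_mul, pow_orderOf_eq_one, one_pow]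
  have h1 : (a * c) ^ m = a ^ m := by
    rw [(show Commute a c from hac).mul_pow, hcm c hc, mul_one]
  have h2 : (a * c') ^ m = a ^ m := by
    rw [(show Commute a c' from hac').mul_pow, hcm c' hc', mul_one]
  have h3 : j * a ^ m * j⁻¹ = a ^ m := by
    calc j * a ^ m * j⁻¹ = j * (a * c) ^ m * j⁻¹ := by rw [h1]
      _ = (j * (a * c) * j⁻¹) ^ m := (conj_pow).symm
      _ = (a * c') ^ m := by rw [hj]
      _ = a ^ m := h2
  obtain ⟨k, hk⟩ := ha
  have hord : orderOf a ∣ p ^ k := orderOf_dvd_of_pow_eq_one hk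
  have hcop : m.Coprime (orderOf a) := by
    have h4 : Nat.Coprime m (p ^ k) := by
      apply Nat.Coprime.pow_right
      rw [hm]
      exact ((Nat.Prime.coprime_iff_not_dvd hp.out).mpr hpK).symm
    exact Nat.Coprime.coprime_dvd_right hord h4
  obtain ⟨t, ht⟩ := exists_pow_eq_self_of_coprime hcop
  have h5 : j * a * j⁻¹ = a := by
    conv_lhs => rw [← ht]
    rw [← conj_pow, h3, ht]
  calc j * a = (j * a * j⁻¹) * j := by group
    _ = a * j := by rw [h5]

theorem map_conj_mk (R : Subgroup X) [R.Normal] {p : ℕ} (P : Sylow p X) (a : X) :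
    ((P : Subgroup X).map (QuotientGroup.mk' R)).map
        (MulAut.conj (QuotientGroup.mk' R a)).toMonoidHom
      = (((a • P : Sylow p X) : Subgroup X)).map (QuotientGroup.mk' R) := by
  ext z
  constructor
  · rintro ⟨_, ⟨y, hy, rfl⟩, rfl⟩
    refine ⟨a * y * a⁻¹, ?_, ?_⟩
    · rw [SetLike.mem_coe, mem_smul_sylow_iff]
      have e : a⁻¹ * (a * y * a⁻¹) * a = y := by group
      rw [e]
      exact hy
    · simp [MulAut.conj_apply]
  · rintro ⟨u, hu, rfl⟩
    rw [SetLike.mem_coe, mem_smul_sylow_iff] at hu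
    refine ⟨QuotientGroup.mk' R (a⁻¹ * u * a), ⟨_, hu, rfl⟩, ?_⟩
    simp [MulAut.conj_apply, mul_assoc]

theorem irr_central_comm_trivial [Finite X] {χ : X → ℂ} (hχ : IsIrrCharacter X χ)
    {r : X} (hrZ : r ∈ Subgroup.center X) (hrK : r ∈ commutator X) (d : ℕ) (hd : χ 1 = d)
    (hcop : Nat.Coprime d (orderOf r)) : χ r = χ 1 := by
  obtain ⟨d', ρ, hirr, rfl⟩ := hχ
  have hd' : d' = d := by
    rw [Representation.char_one] at hd
    simpa using hd
  subst hd'
  have := hirr
  have hnt : Nontrivial (Fin d' → ℂ) := irr_nontrivial ρ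
  let lam : X →* ℂˣ :=
    (Units.map (LinearMap.det : Module.End ℂ (Fin d' → ℂ) →* ℂ)).comp ρ.asGroupHom
  have hlam : ∀ g, ((lam g : ℂˣ) : ℂ) = LinearMap.det (ρ g) := fun g => rfl
  obtain ⟨ω, hω⟩ := central_scalar ρ hirr r hrZ
  have h1 : ω ^ orderOf r = 1 := scalar_pow_orderOf ρ hω
  have h2 : ω ^ d' = 1 := by
    have h3 : lam r = 1 := by
      have : r ∈ lam.ker := Abelianization.commutator_subset_ker lam hrK
      exact MonoidHom.mem_ker.mp this
    have h4 := hlam r
    rw [h3, hω, LinearMap.det_smul, map_one, mul_one] at h4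
    simp only [Units.val_one, Module.finrank_fin_fun] at h4
    exact h4.symm
  have h5 : ω ^ (Nat.gcd d' (orderOf r)) = 1 := pow_gcd_eq_one.mpr ⟨h2, h1⟩
  rw [Nat.Coprime.gcd_eq_one hcop, pow_one] at h5
  have h6 := char_scalar_mul ρ hω 1
  rw [mul_one, h5, one_mul] at h6
  exact h6

end ft4a

section ft4b

theorem ft_core {X : Type u} [Group X] [Finite X] (n p : ℕ) [hp : Fact p.Prime]
    (σ : Representation ℂ X (Fin n → ℂ)) (hσ : Function.Injective σ)
    (h : (n + 1) ^ 2 ≤ p ∨
      (n + 1 < p ∧ ∀ K : Subgroup X, ¬ p ^ 2 ∣ Nat.card K → UniqSyl p K))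
    (hprop : ∀ L : Subgroup X, L ≠ ⊤ → UniqSyl p L) (P : Sylow p X) :
    (P : Subgroup X).Normal := by
  classical
  by_contra hPn
  have hFX : Fintype X := Fintype.ofFinite X
  have hnp : n < p := by
    rcases h with h | h
    · nlinarith
    · omega
  -- (C2)
  have hC2 : ∀ M : Subgroup X, M.Normal → (P : Subgroup X) ≤ M → M = ⊤ := by
    intro M hM hPM
    by_contra hne
    have hU := hprop M hne
    apply hPn
    rw [← Subgroup.normalizer_eq_top_iff, Subgroup.eq_top_iff']
    intro g
    apply Sylow.smul_eq_iff_mem_normalizer.mp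
    apply hU.sylow_eq (g • P) P _ hPM
    intro x hx
    rw [mem_smul_sylow_iff] at hx
    have h1 := hM.conj_mem _ (hPM hx) g
    have e : g * (g⁻¹ * x * g) * g⁻¹ = x := by group
    rwa [e] at h1
  -- (C3)
  have hab : ∀ Q : Sylow p X, ∀ a ∈ (Q : Subgroup X), ∀ b ∈ (Q : Subgroup X),
      a * b = b * a := by
    intro Q a ha b hb
    have hinj : Function.Injective (σ.comp (Q : Subgroup X).subtype) := by
      intro x y hxy
      exact Subtype.ext (hσ hxy)
    have h1 := Cfsg.Agent.S0185.result (σ.comp (Q : Subgroup X).subtype) hinj (by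
      intro q hq hdvd
      rw [Module.finrank_fin_fun]
      obtain ⟨k, hk⟩ := IsPGroup.iff_card.mp Q.isPGroup'
      rw [hk] at hdvd
      have h2 := (Nat.prime_dvd_prime_iff_eq hq hp.out).mp (hq.dvd_of_dvd_pow hdvd)
      rw [h2]
      exact hnp) ⟨a, ha⟩ ⟨b, hb⟩
    exact congrArg Subtype.val h1
  -- (C4)
  obtain ⟨R, hRdef⟩ : ∃ R : Subgroup X, R = (P : Subgroup X).normalCore := ⟨_, rfl⟩
  have hRn : R.Normal := by
    rw [hRdef]
    exact Subgroup.normalCore_normal _
  have hRP : R ≤ P := by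
    rw [hRdef]
    exact Subgroup.normalCore_le _
  have hRp : IsPGroup p R := P.isPGroup'.to_le hRP
  have hRQ : ∀ Q : Sylow p X, R ≤ Q := by
    intro Q
    have h1 := le_normalCore_of_normal_pgroup Q R hRp
    exact h1.trans (Subgroup.normalCore_le _)
  have hRmax : ∀ S : Subgroup X, S.Normal → IsPGroup p S → S ≤ R := by
    intro S hS hpS
    rw [hRdef]
    exact le_normalCore_of_normal_pgroup P S hpS
  have hRmem : ∀ x : X, (∀ g : X, g * x * g⁻¹ ∈ (P : Subgroup X)) → x ∈ R := by
    intro x hx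
    rw [hRdef]
    exact hx
  -- (C5)
  have hRZ : R ≤ Subgroup.center X := by
    have h1 : Subgroup.centralizer (R : Set X) = ⊤ := by
      apply hC2 _ inferInstance
      intro x hx
      rw [Subgroup.mem_centralizer_iff]
      intro r hr
      exact hab P r (hRP hr) x hx
    intro r hr
    rw [Subgroup.mem_center_iff]
    intro g
    have hg : g ∈ Subgroup.centralizer (R : Set X) := by
      rw [h1]
      exact Subgroup.mem_top g
    exact ((Subgroup.mem_centralizer_iff.mp hg) r hr).symm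
  -- (C6)
  have hC6 : ∀ Q₁ Q₂ : Sylow p X, ∀ u : X, u ∈ (Q₁ : Subgroup X) → u ∈ (Q₂ : Subgroup X) →
      u ∉ R → Q₁ = Q₂ := by
    intro Q₁ Q₂ u hu1 hu2 huR
    by_cases hL : Subgroup.centralizer ({u} : Set X) = ⊤
    · exfalso
      apply huR
      have hcen : ∀ g : X, g * u = u * g := by
        intro g
        have hg : g ∈ Subgroup.centralizer ({u} : Set X) := by
          rw [hL]
          exact Subgroup.mem_top g
        exact ((Subgroup.mem_centralizer_iff.mp hg) u rfl).symm
      have hN : (Subgroup.zpowers u).Normal := by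
        constructor
        intro x hx g
        have e : g * x * g⁻¹ = x := by
          obtain ⟨k, rfl⟩ := Subgroup.mem_zpowers_iff.mp hx
          have hc : Commute g (u ^ k) := (show Commute g u from hcen g).zpow_right k
          rw [hc.eq, mul_inv_cancel_right]
        rw [e]
        exact hx
      have hpz : IsPGroup p (Subgroup.zpowers u) :=
        Q₁.isPGroup'.to_le (by rw [Subgroup.zpowers_le]; exact hu1)
      exact hRmax _ hN hpz (Subgroup.mem_zpowers u)
    · apply (hprop _ hL).sylow_eq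
      · intro x hx
        rw [Subgroup.mem_centralizer_iff]
        intro y hy
        rw [Set.mem_singleton_iff] at hy
        subst hy
        exact hab Q₁ y hu1 x hx
      · intro x hx
        rw [Subgroup.mem_centralizer_iff]
        intro y hy
        rw [Set.mem_singleton_iff] at hy
        subst hy
        exact hab Q₂ y hu2 x hx
  -- (C7)
  have hC7 : ∃ x ∈ (P : Subgroup X), x ∉ R := by
    by_contra hcon
    push Not at hcon
    have e : R = P := le_antisymm hRP hcon
    apply hPn
    rw [← e]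
    exact hRn
  have hnonab : ∃ a b : X, a * b ≠ b * a := by
    by_contra hcon
    push Not at hcon
    apply hPn
    constructor
    intro x hx g
    rw [hcon g x, mul_inv_cancel_right]
    exact hx
  -- a nonlinear constituent
  have hσchar : IsCharacter X σ.character := ⟨n, σ, rfl⟩
  have hσ1 : σ.character 1 = (n : ℂ) := by
    rw [Representation.char_one]
    simp
  obtain ⟨ξ, hξ, hξne, hξ1⟩ : ∃ ξ : X → ℂ, IsIrrCharacter X ξ ∧
      classInner σ.character ξ ≠ 0 ∧ ξ 1 ≠ 1 := by
    by_contra hcon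
    push Not at hcon
    obtain ⟨a, b, hab'⟩ := hnonab
    apply hab'
    have h1 := faithful_eq_one σ hσ (a * b * a⁻¹ * b⁻¹) (by
      intro τ hτ hne
      have h2 := hcon τ hτ hne
      rw [h2]
      apply linear_commutator hτ h2
      rw [commutator_def]
      exact Subgroup.commutator_mem_commutator (Subgroup.mem_top a) (Subgroup.mem_top b))
    have e : a * b = (a * b * a⁻¹ * b⁻¹) * (b * a) := by group
    rw [e, h1, one_mul]
  obtain ⟨dξ, hdpos, hdξ⟩ := irr_apply_one hξ
  have hdle : dξ ≤ n := constituent_degree_le hσchar hξ hξne hσ1 hdξ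
  have hdne : dξ ≠ 1 := by
    intro h1
    apply hξ1
    rw [hdξ, h1]
    simp
  have hcopR : ∀ d : ℕ, 0 < d → d < p → Nat.Coprime d (Nat.card R) := by
    intro d hd0 hdp
    obtain ⟨k, hk⟩ := IsPGroup.iff_card.mp hRp
    rw [hk]
    apply Nat.Coprime.pow_right
    exact ((Nat.Prime.coprime_iff_not_dvd hp.out).mpr (Nat.not_dvd_of_pos_of_lt hd0 hdp)).symm
  obtain ⟨χ', hχ', hχ'1, hχ'R⟩ :=
    exists_twist_trivial R hRZ hξ dξ hdξ (hcopR dξ hdpos (by omega))
  obtain ⟨ψ, hψ, hψv⟩ := deflate_irr R hχ' hχ'R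
  have hψ1 : ψ 1 = (dξ : ℂ) := by
    have h1 := hψv 1
    rw [hχ'1, hdξ] at h1
    exact h1
  -- the quotient
  have hFQ : Fintype (X ⧸ R) := Fintype.ofFinite _
  obtain ⟨Hb, hHb⟩ : ∃ Hb : Subgroup (X ⧸ R),
      Hb = (P : Subgroup X).map (QuotientGroup.mk' R) := ⟨_, rfl⟩
  have hFH : Fintype Hb := Fintype.ofFinite _
  have hconjmap : ∀ a : X, Hb.map (MulAut.conj (QuotientGroup.mk' R a)).toMonoidHom
      = (((a • P : Sylow p X) : Subgroup X)).map (QuotientGroup.mk' R) := by
    intro a
    rw [hHb]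
    exact map_conj_mk R P a
  have hab' : ∀ a ∈ Hb, ∀ b ∈ Hb, a * b = b * a := by
    intro a ha b hb
    rw [hHb] at ha hb
    obtain ⟨a', ha', rfl⟩ := ha
    obtain ⟨b', hb', rfl⟩ := hb
    rw [← map_mul, ← map_mul, hab P a' ha' b' hb']
  have hZ' : Hb ⊓ Subgroup.center (X ⧸ R) = ⊥ := by
    rw [eq_bot_iff]
    intro z hz
    obtain ⟨hz1, hz2⟩ := Subgroup.mem_inf.mp hz
    rw [hHb] at hz1
    obtain ⟨x, hx, rfl⟩ := hz1
    rw [Subgroup.mem_bot]
    have hxR : x ∈ R := by
      apply hRmem
      intro g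
      have h1 := Subgroup.mem_center_iff.mp hz2 (QuotientGroup.mk' R g)
      have h2 : g * x * g⁻¹ * x⁻¹ ∈ R := by
        rw [← QuotientGroup.eq_one_iff]
        have h3 : (QuotientGroup.mk' R) (g * x * g⁻¹ * x⁻¹) = 1 := by
          simp only [map_mul, map_inv]
          rw [h1]
          group
        exact h3
      have h3 := (P : Subgroup X).mul_mem (hRP h2) hx
      rwa [inv_mul_cancel_right] at h3
    exact (QuotientGroup.eq_one_iff x).mpr hxR
  have hclos : ∀ M : Subgroup (X ⧸ R), M.Normal → Hb ≤ M → M = ⊤ := by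
    intro M hM hle
    have h1 : M.comap (QuotientGroup.mk' R) = ⊤ := by
      apply hC2 _ (hM.comap _)
      intro x hx
      rw [Subgroup.mem_comap]
      apply hle
      rw [hHb]
      exact Subgroup.mem_map_of_mem _ hx
    rw [Subgroup.eq_top_iff']
    intro z
    obtain ⟨x, rfl⟩ := QuotientGroup.mk'_surjective R z
    have h2 : x ∈ M.comap (QuotientGroup.mk' R) := by
      rw [h1]
      exact Subgroup.mem_top x
    exact h2
  have hone : ∀ g : X ⧸ R, g ∉ Subgroup.center (X ⧸ R) → ∀ a b : X ⧸ R,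
      Subgroup.centralizer ({g} : Set (X ⧸ R)) ⊓ Hb.map (MulAut.conj a).toMonoidHom ≠ ⊥ →
      Subgroup.centralizer ({g} : Set (X ⧸ R)) ⊓ Hb.map (MulAut.conj b).toMonoidHom ≠ ⊥ →
      Hb.map (MulAut.conj a).toMonoidHom = Hb.map (MulAut.conj b).toMonoidHom := by
    intro g hg a b ha hb
    obtain ⟨a', rfl⟩ := QuotientGroup.mk'_surjective R a
    obtain ⟨b', rfl⟩ := QuotientGroup.mk'_surjective R b
    rw [hconjmap] at ha hb ⊢
    rw [hconjmap]
    obtain ⟨L, hL⟩ : ∃ L : Subgroup X,
        L = (Subgroup.centralizer ({g} : Set (X ⧸ R))).comap (QuotientGroup.mk' R) := ⟨_, rfl⟩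
    have hLne : L ≠ ⊤ := by
      intro htop
      apply hg
      rw [Subgroup.mem_center_iff]
      intro z
      obtain ⟨x, rfl⟩ := QuotientGroup.mk'_surjective R z
      have hx : x ∈ L := by
        rw [htop]
        exact Subgroup.mem_top x
      rw [hL, Subgroup.mem_comap, Subgroup.mem_centralizer_iff] at hx
      exact (hx g rfl).symm
    have key : ∀ c' : X, Subgroup.centralizer ({g} : Set (X ⧸ R))
        ⊓ (((c' • P : Sylow p X) : Subgroup X)).map (QuotientGroup.mk' R) ≠ ⊥ →
        ∃ u : X, u ∈ ((c' • P : Sylow p X) : Subgroup X) ∧ u ∈ L ∧ u ∉ R := by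
      intro c' hc
      obtain ⟨⟨z, hz⟩, hz1⟩ := (Subgroup.ne_bot_iff_exists_ne_one).mp hc
      obtain ⟨hzc, hzm⟩ := Subgroup.mem_inf.mp hz
      obtain ⟨u, hu, rfl⟩ := hzm
      refine ⟨u, hu, ?_, ?_⟩
      · rw [hL]
        exact hzc
      · intro huR
        apply hz1
        apply Subtype.ext
        exact (QuotientGroup.eq_one_iff u).mpr huR
    obtain ⟨u, hu, huL, huR⟩ := key a' ha
    obtain ⟨v, hv, hvL, hvR⟩ := key b' hb
    have hUL := hprop L hLne
    have hpu : IsPGroup p (Subgroup.zpowers u) :=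
      (a' • P).isPGroup'.to_le (by rw [Subgroup.zpowers_le]; exact hu)
    have hpv : IsPGroup p (Subgroup.zpowers v) :=
      (b' • P).isPGroup'.to_le (by rw [Subgroup.zpowers_le]; exact hv)
    have hpuv := hUL _ _ (by rw [Subgroup.zpowers_le]; exact huL)
      (by rw [Subgroup.zpowers_le]; exact hvL) hpu hpv
    obtain ⟨Q₃, hQ₃⟩ := hpuv.exists_le_sylow
    have e1 : Q₃ = a' • P :=
      hC6 Q₃ (a' • P) u (hQ₃ (Subgroup.mem_sup_left (Subgroup.mem_zpowers u))) hu huR
    have e2 : Q₃ = b' • P :=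
      hC6 Q₃ (b' • P) v (hQ₃ (Subgroup.mem_sup_right (Subgroup.mem_zpowers v))) hv hvR
    rw [← e1, ← e2]
  have hker : ∃ h ∈ Hb, ψ h ≠ ψ 1 := by
    by_contra hcon
    push Not at hcon
    have h1 := Cfsg.Agent.S0898.const_of_not_rel Hb hclos hψ hcon
    apply hdne
    have h2 := congrFun h1 1
    rw [hψ1] at h2
    exact_mod_cast h2
  have hS := (Cfsg.Agent.S0898.result Hb hab' hZ' hone ψ hψ hker).2
    (by rw [hψ1]; exact_mod_cast hdne) hclos
  rw [hψ1] at hS
  have hS' : Nat.card Hb < (1 + dξ) ^ 2 := by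
    have h1 : ((Nat.card Hb : ℕ) : ℝ) < (((1 + dξ) ^ 2 : ℕ) : ℝ) := by
      push_cast
      simpa using hS
    exact_mod_cast h1
  have hHbp : IsPGroup p Hb := by
    rw [hHb]
    exact P.isPGroup'.map _
  obtain ⟨k, hk⟩ := IsPGroup.iff_card.mp hHbp
  obtain ⟨x, hxP, hxR⟩ := hC7
  have hk0 : k ≠ 0 := by
    intro h0
    rw [h0, pow_zero] at hk
    apply hxR
    have hsub : Subsingleton Hb := (Nat.card_eq_one_iff_unique.mp hk).1
    have hx1 : (⟨QuotientGroup.mk' R x, by rw [hHb]; exact Subgroup.mem_map_of_mem _ hxP⟩ : Hb)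
        = 1 := Subsingleton.elim _ _
    have h2 := congrArg Subtype.val hx1
    exact (QuotientGroup.eq_one_iff x).mp h2
  have hple : p ≤ Nat.card Hb := by
    rw [hk]
    exact Nat.le_self_pow hk0 p
  have hdn : (1 + dξ) ^ 2 ≤ (n + 1) ^ 2 := by
    apply Nat.pow_le_pow_left
    omega
  rcases h with hA | ⟨hB1, hB2⟩
  · omega
  · have hk1 : k = 1 := by
      by_contra hne
      have hk2 : 2 ≤ k := by omega
      have h1 : p ^ 2 ≤ p ^ k := Nat.pow_le_pow_right hp.out.pos hk2
      have h2 : (n + 1) ^ 2 < p ^ 2 := Nat.pow_lt_pow_left hB1 (by norm_num)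
      omega
    rw [hk1, pow_one] at hk
    have hcardP : Nat.card (P : Subgroup X) = p * Nat.card R := by
      have h1 := card_map_mk (P : Subgroup X) R hRP
      rw [← hHb, hk] at h1
      exact h1.symm
    obtain ⟨K, hKdef⟩ : ∃ K : Subgroup X, K = commutator X := ⟨_, rfl⟩
    have hKn : K.Normal := by
      rw [hKdef]
      infer_instance
    have hKR : ∀ r : X, r ∈ K → r ∈ R → r = 1 := by
      intro r hrK hrR
      apply faithful_eq_one σ hσ
      intro τ hτ hne
      obtain ⟨dτ, hdτpos, hdτ⟩ := irr_apply_one hτ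
      have hdτle : dτ ≤ n := constituent_degree_le hσchar hτ hne hσ1 hdτ
      apply irr_central_comm_trivial hτ (hRZ hrR) (by rw [← hKdef]; exact hrK) dτ hdτ
      have hdvd : orderOf r ∣ Nat.card R := by
        have h1 := orderOf_dvd_natCard (⟨r, hrR⟩ : R)
        rwa [Subgroup.orderOf_mk] at h1
      exact Nat.Coprime.coprime_dvd_right hdvd (hcopR dτ hdτpos (by omega))
    have hp2 : ¬ p ^ 2 ∣ Nat.card K := by
      intro hdvd
      obtain ⟨A', hA'⟩ := Sylow.exists_subgroup_card_pow_prime p hdvd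
      obtain ⟨A, hA⟩ : ∃ A : Subgroup X, A = A'.map K.subtype := ⟨_, rfl⟩
      have hAcard : Nat.card A = p ^ 2 := by
        rw [hA, Subgroup.card_map_of_injective (Subgroup.subtype_injective K)]
        exact hA'
      have hAK : A ≤ K := by
        rw [hA]
        exact Subgroup.map_subtype_le A'
      have hAp : IsPGroup p A := IsPGroup.of_card hAcard
      obtain ⟨Q₁, hQ₁⟩ := hAp.exists_le_sylow
      have hcardQ : Nat.card (Q₁ : Subgroup X) = Nat.card (P : Subgroup X) := by
        rw [Sylow.card_eq_multiplicity, Sylow.card_eq_multiplicity]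
      have hle : Nat.card A * Nat.card R ≤ Nat.card (Q₁ : Subgroup X) := by
        rw [← Nat.card_prod]
        apply Nat.card_le_card_of_injective (fun x : ↥A × ↥R =>
          (⟨(x.1 : X) * (x.2 : X), (Q₁ : Subgroup X).mul_mem (hQ₁ x.1.2) (hRQ Q₁ x.2.2)⟩ :
            (Q₁ : Subgroup X)))
        intro x y hxy
        have hxy' : (x.1 : X) * (x.2 : X) = (y.1 : X) * (y.2 : X) := congrArg Subtype.val hxy
        have h3 : ((y.1 : X))⁻¹ * (x.1 : X) = (y.2 : X) * ((x.2 : X))⁻¹ := by
          rw [inv_mul_eq_iff_eq_mul, ← mul_assoc, eq_mul_inv_iff_mul_eq]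
          exact hxy'
        have h4 := hKR _ (hAK (A.mul_mem (A.inv_mem y.1.2) x.1.2))
          (by rw [h3]; exact R.mul_mem y.2.2 (R.inv_mem x.2.2))
        have h5 : (x.1 : X) = y.1 := by
          rw [inv_mul_eq_one] at h4
          exact h4.symm
        have h6 : (x.2 : X) = y.2 := by
          rw [h5] at hxy'
          exact mul_left_cancel hxy'
        exact Prod.ext (Subtype.ext h5) (Subtype.ext h6)
      rw [hcardQ, hcardP, hAcard] at hle
      have hRpos : 0 < Nat.card R := Nat.card_pos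
      have hp1 := hp.out.one_lt
      nlinarith
    have hUK := hB2 K hp2
    have hKp : ∀ A : Subgroup X, A ≤ K → IsPGroup p A → A = ⊥ := by
      intro A hA hpA
      have h1 := le_normalCore_of_uniqSyl P K hUK A hA hpA
      rw [← hRdef] at h1
      rw [eq_bot_iff]
      intro a ha
      rw [Subgroup.mem_bot]
      exact hKR a (hA ha) (h1 ha)
    have hpK : ¬ p ∣ Nat.card K := by
      intro hdvd
      obtain ⟨u, hu⟩ := exists_prime_orderOf_dvd_card' p hdvd
      have h1 : IsPGroup p (Subgroup.zpowers (u : X)) := by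
        apply IsPGroup.of_card (n := 1)
        rw [Nat.card_zpowers, Subgroup.orderOf_coe, hu, pow_one]
      have h2 := hKp _ (by rw [Subgroup.zpowers_le]; exact u.2) h1
      have h3 : (u : X) = 1 := by
        have h4 : (u : X) ∈ Subgroup.zpowers (u : X) := Subgroup.mem_zpowers _
        rw [h2, Subgroup.mem_bot] at h4
        exact h4
      have h4 : u = 1 := Subtype.ext h3
      rw [h4, orderOf_one] at hu
      exact hp.out.one_lt.ne hu
    have hKPtop : K ⊔ (P : Subgroup X) = ⊤ := by
      apply hC2 _ (normal_of_commutator_le _ (by rw [← hKdef]; exact le_sup_left)) le_sup_right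
    have hKPmul : ∀ g : X, ∃ u ∈ K, ∃ a ∈ (P : Subgroup X), g = u * a := by
      intro g
      have hg : g ∈ ((K ⊔ (P : Subgroup X) : Subgroup X) : Set X) := by
        rw [hKPtop]
        exact Set.mem_univ g
      rw [Subgroup.normal_mul] at hg
      obtain ⟨u, hu, a, ha, rfl⟩ := Set.mem_mul.mp hg
      exact ⟨u, hu, a, ha, rfl⟩
    have hKPint : ∀ g : X, g ∈ K → g ∈ (P : Subgroup X) → g = 1 := by
      intro g hgK hgP
      have h1 := hKp (Subgroup.zpowers g) (by rw [Subgroup.zpowers_le]; exact hgK)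
        (P.isPGroup'.to_le (by rw [Subgroup.zpowers_le]; exact hgP))
      have h2 : g ∈ Subgroup.zpowers g := Subgroup.mem_zpowers _
      rw [h1, Subgroup.mem_bot] at h2
      exact h2
    have hfib : ∀ a ∈ (P : Subgroup X), a ∉ R → ∀ j ∈ K,
        ∀ c ∈ K ⊓ Subgroup.centralizer ((P : Subgroup X) : Set X),
        ∀ c' ∈ K ⊓ Subgroup.centralizer ((P : Subgroup X) : Set X),
        j * (a * c) * j⁻¹ = a * c' →
        j ∈ Subgroup.centralizer ((P : Subgroup X) : Set X) := by
      intro a haP haR j hjK c hc c' hc' hj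
      obtain ⟨hcK, hcP⟩ := Subgroup.mem_inf.mp hc
      obtain ⟨hcK', hcP'⟩ := Subgroup.mem_inf.mp hc'
      have hapow : ∃ k : ℕ, a ^ (p ^ k) = 1 := by
        obtain ⟨k, hk⟩ := P.isPGroup' ⟨a, haP⟩
        exact ⟨k, by simpa using congrArg Subtype.val hk⟩
      have hja : j * a = a * j := commute_of_conj_mul K hpK hapow hcK hcK'
        ((Subgroup.mem_centralizer_iff.mp hcP) a haP)
        ((Subgroup.mem_centralizer_iff.mp hcP') a haP) hj
      rw [Subgroup.mem_centralizer_iff]
      intro y hy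
      have haH : QuotientGroup.mk' R a ∈ Hb := by
        rw [hHb]
        exact Subgroup.mem_map_of_mem _ haP
      have hyH : QuotientGroup.mk' R y ∈ Hb := by
        rw [hHb]
        exact Subgroup.mem_map_of_mem _ hy
      have hne1 : (⟨QuotientGroup.mk' R a, haH⟩ : Hb) ≠ 1 := by
        intro h1
        apply haR
        exact (QuotientGroup.eq_one_iff a).mp (congrArg Subtype.val h1)
      have htop := zpowers_eq_top_of_prime_card hk hne1
      have hmem : (⟨QuotientGroup.mk' R y, hyH⟩ : Hb)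
          ∈ Subgroup.zpowers (⟨QuotientGroup.mk' R a, haH⟩ : Hb) := by
        rw [htop]
        exact Subgroup.mem_top _
      obtain ⟨i, hi⟩ := Subgroup.mem_zpowers_iff.mp hmem
      have hi' : (QuotientGroup.mk' R a) ^ i = QuotientGroup.mk' R y := by
        have h1 := congrArg Subtype.val hi
        rw [Subgroup.coe_zpow] at h1
        exact h1
      have hr : (a ^ i)⁻¹ * y ∈ R := by
        rw [← QuotientGroup.eq_one_iff]
        have h1 : QuotientGroup.mk' R ((a ^ i)⁻¹ * y) = 1 := by
          rw [map_mul, map_inv, map_zpow, hi', inv_mul_cancel]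
        exact h1
      have hjr := Subgroup.mem_center_iff.mp (hRZ hr) j
      have hjai : j * a ^ i = a ^ i * j := ((show Commute j a from hja).zpow_right i).eq
      have hy' : y = a ^ i * ((a ^ i)⁻¹ * y) := by group
      rw [hy', mul_assoc, ← hjr, ← mul_assoc, ← hjai, mul_assoc]
    have hcentral : ∀ y ∈ (P : Subgroup X), ∀ u : X, y * u * y⁻¹ * u⁻¹ = 1 := by
      intro y hy u
      apply faithful_eq_one σ hσ
      intro τ hτ hne
      obtain ⟨dτ, hdτpos, hdτ⟩ := irr_apply_one hτ
      have hdτle : dτ ≤ n := constituent_degree_le hσchar hτ hne hσ1 hdτ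
      exact ito_sum p K (P : Subgroup X) R hKPmul hKPint (hab P) hRP hRZ (by rw [hcardP])
        hfib τ hτ dτ hdτ (by omega) y hy u
    apply hPn
    constructor
    intro y hy g
    have h1 := hcentral y hy g⁻¹
    have e : g * y * g⁻¹ = y := by
      have e2 : g * y * g⁻¹ = g * (y * g⁻¹ * y⁻¹ * g⁻¹⁻¹) * g⁻¹ * y := by group
      rw [e2, h1]
      group
    rw [e]
    exact hy

theorem ft_uniq (n p : ℕ) [hp : Fact p.Prime] :
    ∀ (N : ℕ) (X : Type u) [Group X] [Finite X], Nat.card X ≤ N →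
      ∀ (σ : Representation ℂ X (Fin n → ℂ)), Function.Injective σ →
      ((n + 1) ^ 2 ≤ p ∨
        (n + 1 < p ∧ ∀ K : Subgroup X, ¬ p ^ 2 ∣ Nat.card K → UniqSyl p K)) →
      UniqSyl p (⊤ : Subgroup X) := by
  intro N
  induction N with
  | zero =>
    intro X _ _ hcard
    have := Nat.card_pos (α := X)
    omega
  | succ N ih =>
    intro X _ _ hcard σ hσ h
    have hprop : ∀ L : Subgroup X, L ≠ ⊤ → UniqSyl p L := by
      intro L hL
      apply UniqSyl.of_top_subgroup
      have hLcard : Nat.card L ≤ N := by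
        have h1 : Nat.card L < Nat.card X := by
          by_contra hge
          push Not at hge
          exact hL (Subgroup.eq_top_of_le_card L hge)
        omega
      apply ih ↥L hLcard (σ.comp L.subtype)
      · intro x y hxy
        exact Subtype.ext (hσ hxy)
      · rcases h with h | ⟨h1, h2⟩
        · left
          exact h
        · right
          refine ⟨h1, fun K' hK' => ?_⟩
          apply UniqSyl.of_map
          apply h2
          rwa [Subgroup.card_map_of_injective (Subgroup.subtype_injective L)]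
    obtain ⟨P⟩ : Nonempty (Sylow p X) := inferInstance
    exact uniqSyl_top_of_normal P (ft_core n p σ hσ h hprop P)

end ft4b

end Cfsg.Agent.Lib.Helper8
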