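import Mathlib
import Cfsg.Agent.Lib.Helper3.GLWreathDL

set_option autoImplicit false

namespace Cfsg.Agent.Lib.Helper8.SpLower

open RegularWreathProduct Matrix Cfsg.Agent.Lib.Helper3

universe u

section form

variable {F : Type*} [Field F]
variable {D Q : Type*} [Group D] [Group Q] [Fintype Q] [DecidableEq Q]
variable {ι : Type*} [Fintype ι] [DecidableEq ι]

/-- the block form: the same form on each of the blocks indexed by `Q` -/
def blockForm (Q : Type*) [DecidableEq Q] (B : Matrix ι ι F) : Matrix (Q × ι) (Q × ι) F :=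
  Matrix.of fun x y => if x.1 = y.1 then B x.2 y.2 else 0

theorem wrMat_mul_apply (ρ : D →* Matrix ι ι F) (a : D ≀ᵣ Q) (N : Matrix (Q × ι) (Q × ι) F)
    (x : Q) (i : ι) (c : Q × ι) :
    (wrMat ρ a * N) (x, i) c = ∑ r, ρ (a.left x) i r * N (a.right⁻¹ * x, r) c := by
  rw [Matrix.mul_apply, Fintype.sum_prod_type]
  rw [Finset.sum_eq_single (a.right⁻¹ * x)]
  · simp [wrMat]
  · intro u _ hu
    have h2 : ¬ x = a.right * u := by
      intro h2; apply hu; rw [h2]; group
    simp [wrMat, h2]
  · intro h; exact absurd (Finset.mem_univ _) h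

theorem mul_wrMat_transpose_apply (ρ : D →* Matrix ι ι F) (a : D ≀ᵣ Q)
    (N : Matrix (Q × ι) (Q × ι) F) (y : Q) (j : ι) (c : Q × ι) :
    (N * (wrMat ρ a)ᵀ) c (y, j) = ∑ w, N c (a.right⁻¹ * y, w) * ρ (a.left y) j w := by
  rw [Matrix.mul_apply, Fintype.sum_prod_type]
  rw [Finset.sum_eq_single (a.right⁻¹ * y)]
  · simp [wrMat]
  · intro u _ hu
    have h2 : ¬ y = a.right * u := by
      intro h2; apply hu; rw [h2]; group
    simp [wrMat, h2]
  · intro h; exact absurd (Finset.mem_univ _) h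

theorem wrMat_form (ρ : D →* Matrix ι ι F) (B : Matrix ι ι F)
    (h : ∀ d, ρ d * B * (ρ d)ᵀ = B) (a : D ≀ᵣ Q) :
    wrMat ρ a * blockForm Q B * (wrMat ρ a)ᵀ = blockForm Q B := by
  ext ⟨x, i⟩ ⟨y, j⟩
  rw [Matrix.mul_assoc, wrMat_mul_apply]
  simp only [mul_wrMat_transpose_apply]
  by_cases hxy : x = y
  · subst hxy
    have h1 := congrFun (congrFun (h (a.left x)) i) j
    rw [Matrix.mul_assoc, Matrix.mul_apply] at h1
    simp only [Matrix.mul_apply, Matrix.transpose_apply] at h1
    simpa [blockForm] using h1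
  · have h2 : ¬ a.right⁻¹ * x = a.right⁻¹ * y := fun h2 => hxy (mul_left_cancel h2)
    simp [blockForm, h2, hxy]

end form

section sp

variable {F : Type*} [Field F]

theorem blockForm_J (Q : Type*) [Fintype Q] [DecidableEq Q] (K : Type*) [Fintype K]
    [DecidableEq K] :
    (blockForm Q (J K F)).submatrix (Equiv.prodSumDistrib Q K K).symm
      (Equiv.prodSumDistrib Q K K).symm = J (Q × K) F := by
  ext (⟨x, i⟩ | ⟨x, i⟩) (⟨y, j⟩ | ⟨y, j⟩) <;>
    simp [blockForm, J, Matrix.one_apply, Matrix.neg_apply, Prod.ext_iff] <;>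
    split_ifs <;> simp_all

variable {D Q : Type*} [Group D] [Group Q] [Fintype Q] [DecidableEq Q]
variable {K : Type*} [Fintype K] [DecidableEq K]

/-- the underlying matrix representation -/
def matHom (K : Type*) [Fintype K] [DecidableEq K] (F : Type*) [Field F] :
    ↥(symplecticGroup K F) →* Matrix (K ⊕ K) (K ⊕ K) F :=
  (symplecticGroup K F).subtype

theorem matHom_injective : Function.Injective (matHom K F) := Subtype.val_injective

theorem matHom_form (g : ↥(symplecticGroup K F)) :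
    matHom K F g * J K F * (matHom K F g)ᵀ = J K F :=
  SymplecticGroup.mem_iff.mp g.2

theorem wrSp_mem (ρ : D →* ↥(symplecticGroup K F)) (a : D ≀ᵣ Q) :
    (subHom (F := F) (Equiv.prodSumDistrib Q K K).symm)
      (wrMat ((matHom K F).comp ρ) a) ∈ symplecticGroup (Q × K) F := by
  rw [SymplecticGroup.mem_iff]
  have h := wrMat_form (Q := Q) ((matHom K F).comp ρ) (J K F)
    (fun d => matHom_form (ρ d)) a
  show (wrMat ((matHom K F).comp ρ) a).submatrix _ _ * J (Q × K) F *
    ((wrMat ((matHom K F).comp ρ) a).submatrix _ _)ᵀ = J (Q × K) F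
  rw [← blockForm_J (F := F) Q K, Matrix.transpose_submatrix, Matrix.submatrix_mul_equiv,
    Matrix.submatrix_mul_equiv, h]

/-- a symplectic representation of `D` induces one of `D ≀ᵣ Q` -/
def wrSp (ρ : D →* ↥(symplecticGroup K F)) : D ≀ᵣ Q →* ↥(symplecticGroup (Q × K) F) :=
  MonoidHom.codRestrict ((subHom (F := F) (Equiv.prodSumDistrib Q K K).symm).comp
    (wrMat ((matHom K F).comp ρ))) (symplecticGroup (Q × K) F) (fun a => wrSp_mem ρ a)

theorem wrSp_injective [Nonempty K] (ρ : D →* ↥(symplecticGroup K F))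
    (hρ : Function.Injective ρ) : Function.Injective (wrSp (Q := Q) ρ) := by
  intro a b hab
  have h1 : (subHom (F := F) (Equiv.prodSumDistrib Q K K).symm)
      (wrMat ((matHom K F).comp ρ) a) = (subHom (F := F) (Equiv.prodSumDistrib Q K K).symm)
      (wrMat ((matHom K F).comp ρ) b) := congrArg Subtype.val hab
  have hinj : Function.Injective ((matHom K F).comp ρ) := fun x y h => hρ (matHom_injective h)
  exact wrMat_injective ((matHom K F).comp ρ) hinj (subHom_injective _ h1)

theorem J_sumComm (K R : Type*) [Fintype K] [DecidableEq K] [Fintype R] [DecidableEq R] :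
    (Matrix.fromBlocks (J K F) 0 0 (J R F)).submatrix (Equiv.sumSumSumComm K R K R)
      (Equiv.sumSumSumComm K R K R) = J (K ⊕ R) F := by
  ext ((a | a) | (a | a)) ((b | b) | (b | b)) <;>
    simp [J, Matrix.one_apply, Matrix.neg_apply]

theorem J_reindex {I I' : Type*} [Fintype I] [DecidableEq I] [Fintype I'] [DecidableEq I']
    (e : I' ≃ I) :
    (J I F).submatrix (Equiv.sumCongr e e) (Equiv.sumCongr e e) = J I' F := by
  ext (a | a) (b | b) <;>
    simp [J, Matrix.one_apply, Matrix.neg_apply]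

theorem pad_mem {R : Type*} [Fintype R] [DecidableEq R] {I' : Type*} [Fintype I']
    [DecidableEq I'] (e : I' ≃ K ⊕ R) (g : ↥(symplecticGroup K F)) :
    (subHom (F := F) ((Equiv.sumCongr e e).trans (Equiv.sumSumSumComm K R K R)))
      (padHom (F := F) (K ⊕ K) (R ⊕ R) (matHom K F g)) ∈ symplecticGroup I' F := by
  rw [SymplecticGroup.mem_iff]
  have h1 : Matrix.fromBlocks (matHom K F g) 0 0 (1 : Matrix (R ⊕ R) (R ⊕ R) F) *
      Matrix.fromBlocks (J K F) 0 0 (J R F) *
      (Matrix.fromBlocks (matHom K F g) 0 0 (1 : Matrix (R ⊕ R) (R ⊕ R) F))ᵀ =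
      Matrix.fromBlocks (J K F) 0 0 (J R F) := by
    rw [Matrix.fromBlocks_transpose, Matrix.fromBlocks_multiply, Matrix.fromBlocks_multiply]
    simp [matHom_form]
  have h2 : J I' F = (Matrix.fromBlocks (J K F) 0 0 (J R F)).submatrix
      ((Equiv.sumCongr e e).trans (Equiv.sumSumSumComm K R K R))
      ((Equiv.sumCongr e e).trans (Equiv.sumSumSumComm K R K R)) := by
    rw [← J_reindex (F := F) e, ← J_sumComm (F := F) K R]
    rfl
  show (Matrix.fromBlocks (matHom K F g) 0 0 (1 : Matrix (R ⊕ R) (R ⊕ R) F)).submatrix _ _ *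
    J I' F * ((Matrix.fromBlocks (matHom K F g) 0 0
      (1 : Matrix (R ⊕ R) (R ⊕ R) F)).submatrix _ _)ᵀ = J I' F
  rw [h2, Matrix.transpose_submatrix, Matrix.submatrix_mul_equiv, Matrix.submatrix_mul_equiv, h1]

/-- padding and reindexing a symplectic representation -/
def padSp {R : Type*} [Fintype R] [DecidableEq R] {I' : Type*} [Fintype I']
    [DecidableEq I'] (e : I' ≃ K ⊕ R) : ↥(symplecticGroup K F) →* ↥(symplecticGroup I' F) :=
  MonoidHom.codRestrict
    ((subHom (F := F) ((Equiv.sumCongr e e).trans (Equiv.sumSumSumComm K R K R))).comp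
      ((padHom (F := F) (K ⊕ K) (R ⊕ R)).comp (matHom K F)))
    (symplecticGroup I' F) (fun g => pad_mem e g)

theorem padSp_injective {R : Type*} [Fintype R] [DecidableEq R] {I' : Type*} [Fintype I']
    [DecidableEq I'] (e : I' ≃ K ⊕ R) : Function.Injective (padSp (F := F) e) := by
  intro a b hab
  have h1 : (subHom (F := F) ((Equiv.sumCongr e e).trans (Equiv.sumSumSumComm K R K R)))
      (padHom (F := F) (K ⊕ K) (R ⊕ R) (matHom K F a)) =
      (subHom (F := F) ((Equiv.sumCongr e e).trans (Equiv.sumSumSumComm K R K R)))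
      (padHom (F := F) (K ⊕ K) (R ⊕ R) (matHom K F b)) := congrArg Subtype.val hab
  exact matHom_injective (padHom_injective _ _ (subHom_injective _ h1))

end sp

section assemble

variable {F : Type u} [Field F] [Fintype F]

theorem card_units_int_two : Nat.card ℤˣ = 2 := by
  rw [Nat.card_eq_fintype_card, Fintype.card_units_int]

/-- iterated wreath products of a nonabelian `2`-subgroup of `Sp_2` with groups of order two,
together with a faithful symplectic representation -/
theorem exists_sp (Q : Subgroup ↥(symplecticGroup (Fin 1) F)) (hQ : IsPGroup 2 ↥Q)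
    (hQ1 : derivedSeries ↥Q 1 ≠ ⊥) :
    ∀ j : ℕ, ∃ (T : Type u) (_ : Group T) (_ : Finite T) (K : Type) (_ : Fintype K)
      (_ : DecidableEq K) (_ : Nonempty K) (ρ : T →* ↥(symplecticGroup K F)),
      Function.Injective ρ ∧ IsPGroup 2 T ∧ derivedSeries T (j + 1) ≠ ⊥ ∧
        Fintype.card K = 2 ^ j
  | 0 => ⟨↥Q, inferInstance, inferInstance, Fin 1, inferInstance, inferInstance, inferInstance,
      Q.subtype, Subtype.val_injective, hQ, hQ1, by simp⟩
  | j + 1 => by
    obtain ⟨T, _, _, K, _, _, _, ρ, hρ, hT, hd, hc⟩ := exists_sp Q hQ hQ1 j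
    refine ⟨T ≀ᵣ ℤˣ, inferInstance, inferInstance, ℤˣ × K, inferInstance, inferInstance,
      inferInstance, wrSp ρ, wrSp_injective ρ hρ, ?_, ?_, ?_⟩
    · obtain ⟨m, hm⟩ := IsPGroup.iff_card.mp hT
      apply IsPGroup.of_card (n := m * 2 + 1)
      rw [RegularWreathProduct.card, hm, card_units_int_two]
      ring
    · exact wreath_step (-1 : ℤˣ) (by decide) (j + 1) hd
    · rw [Fintype.card_prod, hc, Fintype.card_units_int]; ring

/-- the lower bound for the derived length of a Sylow `2`-subgroup of `Sp_{2n}(F)`, given a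
nonabelian `2`-subgroup of `Sp_2(F)` -/
theorem sp_derived_ne_bot (Q : Subgroup ↥(symplecticGroup (Fin 1) F)) (hQ : IsPGroup 2 ↥Q)
    (hQ1 : derivedSeries ↥Q 1 ≠ ⊥) (n : ℕ) (hn : 1 ≤ n)
    (R : Sylow 2 ↥(symplecticGroup (Fin n) F)) :
    derivedSeries ↥(R : Subgroup ↥(symplecticGroup (Fin n) F)) (Nat.log 2 (2 * n)) ≠ ⊥ := by
  classical
  have hlog : Nat.log 2 (2 * n) = Nat.log 2 n + 1 := by
    rw [mul_comm]; exact Nat.log_mul_base (by norm_num) (by omega)
  rw [hlog]
  have hpk : 2 ^ Nat.log 2 n ≤ n := Nat.pow_log_le_self 2 (by omega)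
  generalize Nat.log 2 n = j at hpk ⊢
  obtain ⟨T, _, _, K, _, _, _, ρ, hρ, hT, hd, hc⟩ := exists_sp Q hQ hQ1 j
  have hle : Fintype.card K ≤ n := hc ▸ hpk
  have hcard : Fintype.card (Fin n) = Fintype.card (K ⊕ Fin (n - Fintype.card K)) := by
    rw [Fintype.card_sum, Fintype.card_fin, Fintype.card_fin]; omega
  have hΨ : Function.Injective ((padSp (F := F) (Fintype.equivOfCardEq hcard)).comp ρ) :=
    fun a b h => hρ (padSp_injective _ h)
  have : Fact (Nat.Prime 2) := ⟨Nat.prime_two⟩
  exact derived_ne_bot_of_injective 2 hT _ hΨ R (j + 1) hd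

end assemble

end Cfsg.Agent.Lib.Helper8.SpLower
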