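import Mathlib
import Cfsg.Prelude.Def_Characters
import Cfsg.Agent.Lib.Helper8.Val3
import Cfsg.Agent.Lib.Helper8.FT4
import Cfsg.Agent.Lib.Helper2.CharBasic

set_option autoImplicit false

open Cfsg Cfsg.Agent.Lib.Helper2
open scoped ComplexConjugate Pointwise

namespace Cfsg.Agent.Lib.Helper8

/-- A TI Sylow subgroup: nontrivial elements of `P` are not conjugated into an overgroup `H`
of the normalizer by elements outside `H`. -/
theorem ti_semiregular {G : Type*} [Group G] [Finite G] (p : ℕ) [Fact p.Prime] (P : Sylow p G)
    (hTI : ∀ g : G, g ∉ Subgroup.normalizer ((P : Subgroup G) : Set G) →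
      (P : Subgroup G) ⊓ (MulAut.conj g • (P : Subgroup G)) = ⊥)
    (H : Subgroup G) (hH : Subgroup.normalizer ((P : Subgroup G) : Set G) ≤ H) :
    ∀ u ∈ (P : Subgroup G), u ≠ 1 → ∀ g : G, g ∉ H → g⁻¹ * u * g ∉ H := by
  intro u hu hu1 g hg hmem
  have hPH : (P : Subgroup G) ≤ H := le_trans Subgroup.le_normalizer hH
  set Q₀ : Subgroup ↥H :=
    ((P : Subgroup G).map (MulAut.conj g⁻¹).toMonoidHom).subgroupOf H with hQ₀
  have hQ₀p : IsPGroup p Q₀ := (P.isPGroup'.map _).comap_subtype
  obtain ⟨Q, hQ⟩ := hQ₀p.exists_le_sylow
  let PH : Sylow p ↥H := P.subtype hPH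
  obtain ⟨h, hh⟩ := MulAction.exists_smul_eq ↥H PH Q
  have hx : (⟨g⁻¹ * u * g, hmem⟩ : ↥H) ∈ Q₀ := by
    rw [hQ₀, Subgroup.mem_subgroupOf]
    refine ⟨u, hu, ?_⟩
    simp [MulAut.conj_apply]
  have hxQ : (⟨g⁻¹ * u * g, hmem⟩ : ↥H) ∈ (Q : Subgroup ↥H) := hQ hx
  rw [← hh, mem_smul_sylow_iff] at hxQ
  have hxP : ((h : G))⁻¹ * (g⁻¹ * u * g) * (h : G) ∈ (P : Subgroup G) := hxQ
  have hgh : g * (h : G) ∈ Subgroup.normalizer ((P : Subgroup G) : Set G) := by
    by_contra hn
    have h0 := hTI _ hn
    have hmem2 : u ∈ (P : Subgroup G) ⊓ (MulAut.conj (g * (h : G)) • (P : Subgroup G)) := by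
      refine Subgroup.mem_inf.mpr ⟨hu, ?_⟩
      rw [Subgroup.mem_pointwise_smul_iff_inv_smul_mem]
      have e : (MulAut.conj (g * (h : G)))⁻¹ • u = ((h : G))⁻¹ * (g⁻¹ * u * g) * (h : G) := by
        simp [MulAut.smul_def, mul_assoc]
      rw [e]
      exact hxP
    rw [h0, Subgroup.mem_bot] at hmem2
    exact hu1 hmem2
  have hghH : g * (h : G) ∈ H := hH hgh
  exact hg ((Subgroup.mul_mem_cancel_right H h.2).mp hghH)

/-- Norm restriction for small-degree characters and a TI Sylow subgroup. -/
theorem ti_norm_restrict {G : Type*} [Group G] [Fintype G] (p : ℕ) [Fact p.Prime]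
    (P : Sylow p G)
    (hTI : ∀ g : G, g ∉ Subgroup.normalizer ((P : Subgroup G) : Set G) →
      (P : Subgroup G) ⊓ (MulAut.conj g • (P : Subgroup G)) = ⊥)
    (n : ℕ) (ρ : Representation ℂ G (Fin n → ℂ)) (hdeg : n ^ 2 ≤ Nat.card ↥(P : Subgroup G))
    (H : Subgroup G) [Fintype ↥H]
    (hH : Subgroup.normalizer ((P : Subgroup G) : Set G) ≤ H) :
    classInner ρ.character ρ.character
      = classInner (fun h : ↥H => ρ.character h) (fun h : ↥H => ρ.character h) := by
  classical
  set ρM : Representation ℂ G ((Fin n → ℂ) →ₗ[ℂ] (Fin n → ℂ)) :=
    Representation.linHom ρ ρ with hρM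
  have hchar : ∀ g : G, ρM.character g = ρ.character g * conj (ρ.character g) := by
    intro g
    rw [hρM, Representation.char_linHom, char_inv, mul_comm]
  have : Invertible ((Nat.card G : ℕ) : ℂ) := invertibleOfNonzero (by
    exact_mod_cast (Nat.card_pos (α := G)).ne')
  have : Invertible ((Nat.card ↥H : ℕ) : ℂ) := invertibleOfNonzero (by
    exact_mod_cast (Nat.card_pos (α := ↥H)).ne')
  have h1 : classInner ρ.character ρ.character
      = Module.finrank ℂ (Representation.invariants ρM) := by
    rw [← Representation.card_inv_mul_sum_char_eq_finrank ρM]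
    unfold classInner
    congr 1
    exact Finset.sum_congr rfl (fun g _ => (hchar g).symm)
  have h2 : classInner (fun h : ↥H => ρ.character h) (fun h : ↥H => ρ.character h)
      = Module.finrank ℂ (Representation.invariants (ρM.comp H.subtype)) := by
    rw [← Representation.card_inv_mul_sum_char_eq_finrank (ρM.comp H.subtype)]
    unfold classInner
    congr 1
    exact Finset.sum_congr rfl (fun h _ => (hchar h).symm)
  rw [h1, h2]
  have hPH : (P : Subgroup G) ≤ H := le_trans Subgroup.le_normalizer hH
  have hSR := ti_semiregular p P hTI H hH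
  have hinv : Representation.invariants (ρM.comp H.subtype) = Representation.invariants ρM := by
    apply le_antisymm
    · intro T hT
      rw [Representation.mem_invariants] at hT ⊢
      have hT' : ∀ h ∈ H, ρM h T = T := fun h hh => hT ⟨h, hh⟩
      by_cases hP1 : Nat.card ↥(P : Subgroup G) = 1
      · intro g
        apply hT' g
        apply hH
        have hbot : (P : Subgroup G) = ⊥ := Subgroup.card_eq_one.mp hP1
        rw [hbot, Subgroup.mem_normalizer_iff]
        intro x
        simp
      · set avg : (Fin n → ℂ) →ₗ[ℂ] (Fin n → ℂ) :=
          (Nat.card G : ℂ)⁻¹ • ∑ g : G, ρM g T with havg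
        have havgfix : ∀ x : G, ρM x avg = avg := by
          intro x
          rw [havg, map_smul, map_sum]
          congr 1
          rw [← Fintype.sum_equiv (Equiv.mulLeft x) (fun g => ρM (x * g) T)
            (fun g => ρM g T) (fun g => rfl)]
          apply Finset.sum_congr rfl
          intro g _
          rw [map_mul]
          rfl
        set T' := T - avg with hT'def
        have hT'fix : ∀ h ∈ H, ρM h T' = T' := by
          intro h hh
          rw [hT'def, map_sub, hT' h hh, havgfix]
        have hT'sum : ∑ g : G, ρM g T' = 0 := by
          have hcard : (Nat.card G : ℂ) ≠ 0 := by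
            exact_mod_cast (Nat.card_pos (α := G)).ne'
          simp only [hT'def, map_sub, Finset.sum_sub_distrib, havgfix, Finset.sum_const,
            Finset.card_univ]
          rw [havg, ← Nat.card_eq_fintype_card, ← Nat.cast_smul_eq_nsmul ℂ, smul_smul,
            mul_inv_cancel₀ hcard, one_smul, sub_self]
        by_cases hT0 : T' = 0
        · intro g
          have hTa : T = avg := sub_eq_zero.mp hT0
          rw [hTa]
          exact havgfix g
        · exfalso
          obtain ⟨W, hW⟩ := exists_linearIndependent_of_semiregular ρM p H (P : Subgroup G)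
            hPH P.isPGroup' hSR T' hT0 hT'fix hT'sum
          haveI : Fintype ↥(P : Subgroup G) := Fintype.ofFinite _
          have hle := hW.fintype_card_le_finrank
          have hfr : Module.finrank ℂ ((Fin n → ℂ) →ₗ[ℂ] (Fin n → ℂ)) = n * n := by
            rw [Module.finrank_linearMap, Module.finrank_fin_fun]
          rw [hfr, ← Nat.card_eq_fintype_card] at hle
          have hcardP : Nat.card ↥(P : Subgroup G) = n * n := by
            apply le_antisymm hle
            rw [← sq]
            exact hdeg
          have hcard_eq : Fintype.card ↥(P : Subgroup G)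
              = Module.finrank ℂ ((Fin n → ℂ) →ₗ[ℂ] (Fin n → ℂ)) := by
            rw [hfr, ← Nat.card_eq_fintype_card, hcardP]
          let b := basisOfLinearIndependentOfCardEqFinrank hW hcard_eq
          have hb : ∀ u : ↥(P : Subgroup G), b u = ρM (u : G) W := by
            intro u
            simp only [b, coe_basisOfLinearIndependentOfCardEqFinrank]
          have hvanish : ∀ u₀ : ↥(P : Subgroup G), u₀ ≠ 1 → ρ.character (u₀ : G) = 0 := by
            intro u₀ hu₀
            have htr : ρM.character (u₀ : G) = 0 := by
              unfold Representation.character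
              rw [LinearMap.trace_eq_matrix_trace ℂ b, Matrix.trace]
              apply Finset.sum_eq_zero
              intro i _
              rw [Matrix.diag_apply, LinearMap.toMatrix_apply, hb i]
              have e : ρM (u₀ : G) (ρM (i : G) W) = b (u₀ * i) := by
                rw [hb]
                simp [map_mul]
              rw [e, Module.Basis.repr_self, Finsupp.single_apply, if_neg]
              intro h
              apply hu₀
              exact mul_eq_right.mp h
            rw [hchar] at htr
            rcases mul_eq_zero.mp htr with h | h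
            · exact h
            · simpa using h
          have : Invertible ((Nat.card ↥(P : Subgroup G) : ℕ) : ℂ) := invertibleOfNonzero (by
            exact_mod_cast (Nat.card_pos (α := ↥(P : Subgroup G))).ne')
          set ρP : Representation ℂ ↥(P : Subgroup G) (Fin n → ℂ) :=
            ρ.comp (P : Subgroup G).subtype with hρP
          have hcnt := Representation.card_inv_mul_sum_char_eq_finrank ρP
          have hsum : ∑ u : ↥(P : Subgroup G), ρP.character u = n := by
            rw [Finset.sum_eq_single (1 : ↥(P : Subgroup G))]
            · rw [Representation.char_one]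
              simp
            · intro u _ hu
              exact hvanish u hu
            · intro h
              exact absurd (Finset.mem_univ _) h
          rw [hsum] at hcnt
          set k := Module.finrank ℂ (Representation.invariants ρP) with hk
          have hPne : ((Nat.card ↥(P : Subgroup G) : ℕ) : ℂ) ≠ 0 := by
            exact_mod_cast (Nat.card_pos (α := ↥(P : Subgroup G))).ne'
          have hnk : n = n * n * k := by
            have hc : (n : ℂ) = ((n * n * k : ℕ) : ℂ) := by
              rw [← hcardP]
              push_cast
              rw [← hcnt]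
              field_simp
            exact_mod_cast hc
          have hn0 : n ≠ 0 := by
            rintro rfl
            have := Nat.card_pos (α := ↥(P : Subgroup G))
            omega
          have e1 : n * 1 = n * (n * k) := by
            rw [mul_one, ← mul_assoc]
            exact hnk
          have h1' : 1 = n * k := Nat.eq_of_mul_eq_mul_left (Nat.pos_of_ne_zero hn0) e1
          have hn1 : n = 1 := Nat.eq_one_of_mul_eq_one_right h1'.symm
          apply hP1
          rw [hcardP, hn1]
    · intro T hT
      rw [Representation.mem_invariants] at hT ⊢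
      intro h
      exact hT h
  rw [hinv]

end Cfsg.Agent.Lib.Helper8
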