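import Mathlib
import Cfsg.Prelude.Def_Characters
import Cfsg.Prelude.Def_Local
import Cfsg.Agent.Lib.Helper8.FT1
import Cfsg.Agent.Lib.Helper8.FT2
import Cfsg.Agent.Lib.Helper8.FT3
import Cfsg.Agent.Lib.Helper8.FT4
import Cfsg.Agent.Lib.Helper6.PSolv
import Cfsg.Agent.Lib.Helper6.PSolv3
import Cfsg.Agent.Lib.Helper1.AGFam
import Cfsg.Agent.Lib.Helper11.PConstrained

/-!
# A `p`-solvable group with a TI Sylow `p`-subgroup `P` and a faithful character of degree
at most `sqrt |P|` has `P` normal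
-/

set_option autoImplicit false

namespace Cfsg.Agent.Lib.Helper8

open Cfsg Cfsg.Agent.Lib.Helper2 Cfsg.Agent.Lib.Helper25 Module
open scoped ComplexConjugate Pointwise

universe u

section tisyl

theorem ito_arith_ti (k pp cc N T1 SK M d : ℝ) (hk : 0 < k) (hcc : 0 < cc)
    (h1 : k * (pp * cc * N) ≤ cc * SK + k * (T1 - cc))
    (hA : SK ≤ k * pp) (hE : T1 ≤ d ^ 2 * cc) (hN : M ≤ N) (hM2 : 2 ≤ M)
    (hdp : d ^ 2 ≤ pp) : False := by
  have hpp : 0 ≤ pp := le_trans (sq_nonneg d) hdp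
  have e2 : cc * SK ≤ cc * (k * pp) := mul_le_mul_of_nonneg_left hA hcc.le
  have e3 : k * (T1 - cc) ≤ k * (d ^ 2 * cc - cc) := by
    apply mul_le_mul_of_nonneg_left _ hk.le
    linarith
  have h2 : k * cc * (pp * N) ≤ k * cc * (pp + d ^ 2 - 1) := by linarith
  have h3 : pp * N ≤ pp + d ^ 2 - 1 := le_of_mul_le_mul_left h2 (by positivity)
  have h4 : pp * 2 ≤ pp * N := mul_le_mul_of_nonneg_left (hM2.trans hN) hpp
  linarith

theorem ito_sum_ti {X : Type*} [Group X] [Fintype X] (K P : Subgroup X) [hKn : K.Normal]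
    (hKP : ∀ g : X, ∃ u ∈ K, ∃ a ∈ P, g = u * a)
    (hKP' : ∀ g : X, g ∈ K → g ∈ P → g = 1)
    (hfib : ∀ a ∈ P, a ≠ 1 → ∀ j ∈ K, ∀ c ∈ K ⊓ Subgroup.centralizer (P : Set X),
      ∀ c' ∈ K ⊓ Subgroup.centralizer (P : Set X), j * (a * c) * j⁻¹ = a * c' →
      j ∈ Subgroup.centralizer (P : Set X))
    (χ : X → ℂ) (hχ : IsIrrCharacter X χ) (d : ℕ) (hd : χ 1 = d)
    (hdp : d ^ 2 ≤ Nat.card P) :
    ∀ y ∈ P, (∀ a ∈ P, a * y = y * a) → ∀ u : X, χ (y * u * y⁻¹ * u⁻¹) = χ 1 := by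
  classical
  obtain ⟨C, hC⟩ : ∃ C : Subgroup X, C = K ⊓ Subgroup.centralizer (P : Set X) := ⟨_, rfl⟩
  rw [← hC] at hfib
  have hCK : ∀ c ∈ C, c ∈ K := fun c hc => by
    rw [hC] at hc
    exact (Subgroup.mem_inf.mp hc).1
  have hCcent : ∀ c ∈ C, ∀ a ∈ P, a * c = c * a := fun c hc a ha => by
    rw [hC] at hc
    exact (Subgroup.mem_centralizer_iff.mp (Subgroup.mem_inf.mp hc).2) a ha
  have hCmem : ∀ c, c ∈ K → c ∈ Subgroup.centralizer (P : Set X) → c ∈ C := fun c h1 h2 => by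
    rw [hC]
    exact Subgroup.mem_inf.mpr ⟨h1, h2⟩
  clear hC
  have : Fintype K := Fintype.ofFinite K
  have : Fintype P := Fintype.ofFinite P
  have : Fintype C := Fintype.ofFinite C
  have hFI : Fintype (IrrCharacter (↥P × ↥C)) := Fintype.ofFinite _
  have hχc := isCharacter_of_isIrrCharacter hχ
  have hcf := isClassFunction_of_isCharacter hχc
  have hcomm : ∀ (a : P) (c : C), Commute (P.subtype a) (C.subtype c) := by
    intro a c
    exact hCcent c c.2 a a.2
  let φ : ↥P × ↥C →* X := P.subtype.noncommCoprod C.subtype hcomm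
  have hφ : ∀ (a : P) (c : C), φ (a, c) = (a : X) * (c : X) := fun a c => rfl
  obtain ⟨Ψ, hΨdef⟩ : ∃ Ψ : ↥P × ↥C → ℂ, Ψ = χ ∘ φ := ⟨_, rfl⟩
  have hΨv : ∀ (a : P) (c : C), Ψ (a, c) = χ ((a : X) * (c : X)) := by
    intro a c
    rw [hΨdef, Function.comp_apply, hφ]
  have hΨ : IsCharacter (↥P × ↥C) Ψ := by
    rw [hΨdef]
    exact IsCharacter.comp_hom hχc φ
  obtain ⟨b, hb, hexp, hsum⟩ := char_decomp hΨ
  have hΨ1 : Ψ 1 = d := by
    have := hΨv 1 1
    rw [Subgroup.coe_one, Subgroup.coe_one, mul_one, hd] at this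
    exact this
  have hd0 : d ≠ 0 := by
    obtain ⟨n, hn, hn1⟩ := irr_apply_one hχ
    rw [hd] at hn1
    have : d = n := by exact_mod_cast hn1
    omega
  obtain ⟨hMd, hM1⟩ := char_decomp_one b hexp d hΨ1
  have hM1 := hM1 hd0
  obtain ⟨M, hM⟩ : ∃ M : ℕ, M = ∑ τ : IrrCharacter (↥P × ↥C), b τ := ⟨_, rfl⟩
  rw [← hM] at hMd hM1
  let Tf : X → ℝ := fun a => ∑ c : C, Complex.normSq (χ (a * c))
  let TK : X → ℝ := fun a => ∑ u : K, Complex.normSq (χ (u * a))
  -- Step D
  have hD : ∑ a : P, Tf a = (Fintype.card P : ℝ) * (Fintype.card C : ℝ)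
      * ∑ τ : IrrCharacter (↥P × ↥C), (b τ : ℝ) * (b τ : ℝ) := by
    rw [Fintype.sum_prod_type, Fintype.card_prod] at hsum
    push_cast at hsum
    rw [← hsum]
    apply Finset.sum_congr rfl
    intro a _
    apply Finset.sum_congr rfl
    intro c _
    rw [hΨv]
  -- Step E
  have hbound : ∀ g : X, Complex.normSq (χ g) ≤ (d : ℝ) ^ 2 := by
    intro g
    obtain ⟨d', ρ, hirr, hρ⟩ := hχ
    have h1 := norm_char_le ρ g
    rw [hρ] at h1
    have h2 : (finrank ℂ (Fin d' → ℂ) : ℂ) = d := by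
      rw [← Representation.char_one ρ, hρ]
      exact hd
    have h3 : finrank ℂ (Fin d' → ℂ) = d := by exact_mod_cast h2
    rw [h3] at h1
    rw [Complex.normSq_eq_norm_sq]
    exact pow_le_pow_left₀ (norm_nonneg _) h1 2
  have hE : Tf 1 ≤ (d : ℝ) ^ 2 * (Fintype.card C : ℝ) := by
    calc Tf 1 ≤ ∑ c : C, (d : ℝ) ^ 2 := Finset.sum_le_sum (fun c _ => hbound _)
      _ = (d : ℝ) ^ 2 * (Fintype.card C : ℝ) := by
        rw [Finset.sum_const, Finset.card_univ, nsmul_eq_mul]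
        ring
  -- Step A
  have hA : ∑ a : P, TK (a : X) ≤ (Fintype.card K : ℝ) * (Fintype.card P : ℝ) := by
    have h1 : ∑ a : P, TK (a : X)
        = ∑ x : ↥P × ↥K, Complex.normSq (χ ((x.2 : X) * (x.1 : X))) := by
      rw [Fintype.sum_prod_type]
    rw [h1]
    have h2 := sum_comp_le_card_mul (fun x : ↥P × ↥K => (x.2 : X) * (x.1 : X))
      (fun g => Complex.normSq (χ g)) (fun g => Complex.normSq_nonneg _) 1 (by
      intro d₀
      rw [Finset.card_le_one]
      intro x hx y hy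
      rw [Finset.mem_filter] at hx hy
      have hxy : (x.2 : X) * (x.1 : X) = (y.2 : X) * (y.1 : X) := hx.2.trans hy.2.symm
      have h3 : ((y.2 : X))⁻¹ * (x.2 : X) = (y.1 : X) * ((x.1 : X))⁻¹ := by
        rw [inv_mul_eq_iff_eq_mul, ← mul_assoc, eq_mul_inv_iff_mul_eq]
        exact hxy
      have h4 := hKP' _ (K.mul_mem (K.inv_mem y.2.2) x.2.2)
        (by rw [h3]; exact P.mul_mem y.1.2 (P.inv_mem x.1.2))
      have h5 : (x.2 : X) = y.2 := by
        rw [inv_mul_eq_one] at h4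
        exact h4.symm
      have h6 : (x.1 : X) = y.1 := by
        rw [h5] at hxy
        exact mul_left_cancel hxy
      exact Prod.ext (Subtype.ext h6) (Subtype.ext h5))
    rw [sum_normSq_irr hχ] at h2
    have h7 : (Fintype.card X : ℝ) ≤ (Fintype.card K : ℝ) * (Fintype.card P : ℝ) := by
      have : Fintype.card X ≤ Fintype.card (↥K × ↥P) := by
        apply Fintype.card_le_of_surjective (fun x : ↥K × ↥P => (x.1 : X) * (x.2 : X))
        intro g
        obtain ⟨u, hu, a, ha, rfl⟩ := hKP g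
        exact ⟨(⟨u, hu⟩, ⟨a, ha⟩), rfl⟩
      rw [Fintype.card_prod] at this
      exact_mod_cast this
    push_cast at h2
    linarith
  -- Step B
  have hB1 : (Fintype.card K : ℝ) ≤ TK 1 := by
    have h1 := card_le_sum_normSq (Y := K) (Ψ := fun u : K => χ u) (IsCharacter.restrict hχc K)
      (by
        change χ ((1 : K) : X) ≠ 0
        rw [Subgroup.coe_one, hd]
        exact_mod_cast hd0)
    refine h1.trans (le_of_eq ?_)
    apply Finset.sum_congr rfl
    intro u _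
    rw [mul_one]
  -- Step C
  have hCstep : ∀ a ∈ P, a ≠ 1 →
      (Fintype.card K : ℝ) * Tf a ≤ (Fintype.card C : ℝ) * TK a := by
    intro a haP haR
    have hmemK : ∀ (v : K) (c : C), (v : X) * a * c * (v : X)⁻¹ * a⁻¹ ∈ K := by
      intro v c
      have h1 : a * ((c : X) * (v : X)⁻¹) * a⁻¹ ∈ K :=
        hKn.conj_mem _ (K.mul_mem (hCK c c.2) (K.inv_mem v.2)) a
      have h2 := K.mul_mem v.2 h1
      have e : (v : X) * (a * ((c : X) * (v : X)⁻¹) * a⁻¹)
          = (v : X) * a * c * (v : X)⁻¹ * a⁻¹ := by group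
      rwa [e] at h2
    let g : ↥K × ↥C → ↥K := fun x =>
      ⟨(x.1 : X) * a * x.2 * (x.1 : X)⁻¹ * a⁻¹, hmemK x.1 x.2⟩
    have hg : ∀ x : ↥K × ↥C, ((g x : K) : X) = (x.1 : X) * a * x.2 * (x.1 : X)⁻¹ * a⁻¹ :=
      fun x => rfl
    have h1 : ∑ x : ↥K × ↥C, Complex.normSq (χ (((g x : K) : X) * a))
        = (Fintype.card K : ℝ) * Tf a := by
      rw [Fintype.sum_prod_type]
      have : ∀ v : K, ∑ c : C, Complex.normSq (χ (((g (v, c) : K) : X) * a)) = Tf a := by
        intro v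
        apply Finset.sum_congr rfl
        intro c _
        have e : ((g (v, c) : K) : X) * a = (v : X) * (a * c) * (v : X)⁻¹ := by
          rw [hg]
          group
        rw [e, hcf]
      rw [Finset.sum_congr rfl (fun v _ => this v), Finset.sum_const, Finset.card_univ,
        nsmul_eq_mul]
    rw [← h1]
    have h2 := sum_comp_le_card_mul g (fun u : K => Complex.normSq (χ ((u : X) * a)))
      (fun u => Complex.normSq_nonneg _) (Fintype.card C) (by
      intro d₀
      have hinj : (Finset.univ.filter (fun x : ↥K × ↥C => g x = g d₀)).card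
          ≤ ((Finset.univ : Finset C).image (fun c : C => (c : X))).card := by
        apply Finset.card_le_card_of_injOn (fun x : ↥K × ↥C => ((d₀.1 : X))⁻¹ * (x.1 : X))
        · intro x hx
          rw [Finset.mem_coe, Finset.mem_filter] at hx
          have hx2 := congrArg (Subtype.val) hx.2
          rw [hg, hg] at hx2
          have hj : ((d₀.1 : X))⁻¹ * (x.1 : X) * (a * x.2) * (((d₀.1 : X))⁻¹ * (x.1 : X))⁻¹
              = a * d₀.2 := by
            have h3 := mul_right_cancel hx2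
            calc ((d₀.1 : X))⁻¹ * (x.1 : X) * (a * x.2) * (((d₀.1 : X))⁻¹ * (x.1 : X))⁻¹
                = ((d₀.1 : X))⁻¹ * ((x.1 : X) * a * x.2 * (x.1 : X)⁻¹) * (d₀.1 : X) := by group
              _ = a * d₀.2 := by
                rw [h3]
                group
          have hjK : ((d₀.1 : X))⁻¹ * (x.1 : X) ∈ K := K.mul_mem (K.inv_mem d₀.1.2) x.1.2
          have hjC := hfib a haP haR _ hjK x.2 x.2.2 d₀.2 d₀.2.2 hj
          rw [Finset.mem_coe, Finset.mem_image]
          exact ⟨⟨_, hCmem _ hjK hjC⟩, Finset.mem_univ _, rfl⟩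
        · intro x hx y hy hxy
          rw [Finset.mem_coe, Finset.mem_filter] at hx hy
          have h1 : (x.1 : X) = y.1 := mul_left_cancel hxy
          have hx2 := congrArg (Subtype.val) (hx.2.trans hy.2.symm)
          rw [hg, hg, h1] at hx2
          have h2 : (x.2 : X) = y.2 := by
            have := mul_right_cancel (mul_right_cancel hx2)
            exact mul_left_cancel this
          exact Prod.ext (Subtype.ext h1) (Subtype.ext h2)
      refine hinj.trans ?_
      rw [Finset.card_image_of_injective _ Subtype.val_injective, Finset.card_univ])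
    exact h2
  -- Step G
  have hper : ∀ a : P, (Fintype.card K : ℝ) * Tf (a : X)
      ≤ (Fintype.card C : ℝ) * TK (a : X)
        + (if a = 1 then (Fintype.card K : ℝ) * (Tf 1 - (Fintype.card C : ℝ)) else 0) := by
    intro a
    by_cases ha : a = 1
    · rw [if_pos ha, ha, Subgroup.coe_one]
      have hc0 : (0 : ℝ) ≤ (Fintype.card C : ℝ) := by positivity
      nlinarith [mul_le_mul_of_nonneg_left hB1 hc0]
    · rw [if_neg ha, add_zero]
      exact hCstep a a.2 (fun h => ha (Subtype.ext h))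
  have hsumper := Finset.sum_le_sum (fun a (_ : a ∈ (Finset.univ : Finset P)) => hper a)
  have hind : ∑ a : P, (if a = 1
      then (Fintype.card K : ℝ) * (Tf 1 - (Fintype.card C : ℝ)) else 0)
      = (Fintype.card K : ℝ) * (Tf 1 - (Fintype.card C : ℝ)) := by
    rw [Finset.sum_ite_eq' Finset.univ (1 : P)
      (fun _ => (Fintype.card K : ℝ) * (Tf 1 - (Fintype.card C : ℝ))), if_pos (Finset.mem_univ _)]
  rw [← Finset.mul_sum, Finset.sum_add_distrib, ← Finset.mul_sum, hD, hind] at hsumper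
  have hNM : (M : ℝ) ≤ ∑ τ : IrrCharacter (↥P × ↥C), (b τ : ℝ) * (b τ : ℝ) := by
    rw [hM]
    push_cast
    apply Finset.sum_le_sum
    intro τ _
    have : (b τ : ℝ) = 0 ∨ (1 : ℝ) ≤ (b τ : ℝ) := by
      rcases Nat.eq_zero_or_pos (b τ) with h | h
      · left
        exact_mod_cast h
      · right
        exact_mod_cast h
    rcases this with h | h
    · rw [h]
      simp
    · nlinarith
  have hcard' : (d : ℝ) ^ 2 ≤ (Fintype.card P : ℝ) := by
    rw [Nat.card_eq_fintype_card] at hdp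
    exact_mod_cast hdp
  have hM_eq : M = 1 := by
    by_contra hne
    have hM2 : (2 : ℝ) ≤ (M : ℝ) := by
      have : 2 ≤ M := by omega
      exact_mod_cast this
    exact ito_arith_ti (Fintype.card K) (Fintype.card P) (Fintype.card C)
      (∑ τ : IrrCharacter (↥P × ↥C), (b τ : ℝ) * (b τ : ℝ)) (Tf 1) (∑ a : P, TK (a : X))
      M d (by exact_mod_cast Fintype.card_pos) (by exact_mod_cast Fintype.card_pos)
      hsumper hA hE hNM hM2 hcard'
  -- Step H
  have hN : ∑ τ : IrrCharacter (↥P × ↥C), (b τ : ℝ) * (b τ : ℝ) = 1 := by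
    have hle : ∀ τ, b τ ≤ 1 := by
      intro τ
      rw [← hM_eq, hM]
      exact Finset.single_le_sum (fun _ _ => Nat.zero_le _) (Finset.mem_univ τ)
    have hsq : ∀ τ, (b τ : ℝ) * (b τ : ℝ) = (b τ : ℝ) := by
      intro τ
      have := hle τ
      interval_cases (b τ) <;> simp
    simp only [hsq]
    rw [← Nat.cast_sum, ← hM, hM_eq]
    simp
  have hΨirr : IsIrrCharacter (↥P × ↥C) Ψ := by
    apply isIrrCharacter_of_norm_one hΨ
    have h1 := sum_normSq_eq_classInner Ψ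
    rw [hsum, hN, mul_one] at h1
    have h0 : (Fintype.card (↥P × ↥C) : ℂ) ≠ 0 := by
      exact_mod_cast Fintype.card_ne_zero
    have h2 : (Fintype.card (↥P × ↥C) : ℂ) * classInner Ψ Ψ
        = (Fintype.card (↥P × ↥C) : ℂ) * 1 := by
      rw [← h1, mul_one]
      push_cast
      rfl
    exact mul_left_cancel₀ h0 h2
  intro y hy hyc u
  have hz : ((⟨y, hy⟩ : P), (1 : C)) ∈ Subgroup.center (↥P × ↥C) := by
    rw [Subgroup.mem_center_iff]
    rintro ⟨a', c'⟩
    ext
    · exact hyc a' a'.2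
    · simp
  obtain ⟨ω, hω, hmul⟩ := central_mul_char hΨirr hz
  have h1 := hmul 1
  rw [mul_one] at h1
  have h2 : Ψ ((⟨y, hy⟩ : P), (1 : C)) = χ y := by
    rw [hΨv, Subgroup.coe_one, mul_one]
  rw [h2, hΨ1] at h1
  have hωn : ‖ω‖ = 1 := by
    have : ‖ω‖ ^ 2 = 1 := by
      rw [← Complex.normSq_eq_norm_sq]
      exact hω
    exact (pow_eq_one_iff_of_nonneg (norm_nonneg ω) two_ne_zero).mp this
  obtain ⟨d', ρ, hirr, rfl⟩ := hχ
  have hd' : (finrank ℂ (Fin d' → ℂ) : ℂ) = d := by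
    rw [← Representation.char_one ρ]
    exact hd
  have hd'' : finrank ℂ (Fin d' → ℂ) = d := by exact_mod_cast hd'
  have hnorm : ‖ρ.character y‖ = (finrank ℂ (Fin d' → ℂ) : ℝ) := by
    rw [h1, norm_mul, hωn, one_mul, hd'', Complex.norm_natCast]
  obtain ⟨ω', hω'⟩ := (norm_char_eq_iff ρ y).mp hnorm
  have hcommρ : ρ (y * u) = ρ (u * y) := by
    rw [map_mul, map_mul, hω']
    ext v
    simp
  have hfin : ρ (y * u * y⁻¹ * u⁻¹) = ρ 1 := by
    have e : y * u * y⁻¹ * u⁻¹ = (y * u) * (y⁻¹ * u⁻¹) := by group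
    rw [e, map_mul, hcommρ, ← map_mul]
    congr 1
    group
  unfold Representation.character
  rw [hfin]


theorem ti_core {X : Type u} [Group X] [Finite X] (p : ℕ) [hp : Fact p.Prime]
    (K P : Subgroup X) [hKn : K.Normal]
    (hpK : ¬ p ∣ Nat.card K) (hP : IsPGroup p P)
    (hKP : ∀ g : X, ∃ u ∈ K, ∃ a ∈ P, g = u * a)
    (hTI : ∀ k ∈ K, ∀ u ∈ P, u ≠ 1 → k * u = u * k → ∀ y ∈ P, k * y * k⁻¹ ∈ P)
    (χ : X → ℂ) (hχ : IsCharacter X χ) (hfaith : ∀ g, χ g = χ 1 → g = 1) (n : ℕ)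
    (hn : χ 1 = n) (hdeg : n ^ 2 ≤ Nat.card P) :
    ∀ k ∈ K, ∀ y ∈ P, k * y = y * k := by
  classical
  have : Fintype X := Fintype.ofFinite X
  have hpow : ∀ g ∈ P, ∃ k : ℕ, g ^ (p ^ k) = 1 := by
    intro g hg
    obtain ⟨k, hk⟩ := hP ⟨g, hg⟩
    refine ⟨k, ?_⟩
    have := congrArg Subtype.val hk
    simpa using this
  have hKP' : ∀ g : X, g ∈ K → g ∈ P → g = 1 := by
    intro g hgK hgP
    obtain ⟨k, hk'⟩ := hpow g hgP
    have h1 : orderOf g ∣ p ^ k := orderOf_dvd_of_pow_eq_one hk'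
    have h2 : orderOf g ∣ Nat.card K := by
      have := orderOf_dvd_natCard (⟨g, hgK⟩ : K)
      rwa [Subgroup.orderOf_mk] at this
    have hcop : Nat.Coprime (p ^ k) (Nat.card K) :=
      Nat.Coprime.pow_left _ ((Nat.Prime.coprime_iff_not_dvd hp.out).mpr hpK)
    have h3 : orderOf g = 1 := Nat.eq_one_of_dvd_coprimes hcop h1 h2
    exact orderOf_eq_one_iff.mp h3
  have hstep2 : ∀ u ∈ P, u ≠ 1 → ∀ k ∈ K, k * u = u * k → ∀ y ∈ P, k * y = y * k := by
    intro u hu hu1 k hk hku y hy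
    have h1 := hTI k hk u hu hu1 hku y hy
    have h2 : k * y * k⁻¹ * y⁻¹ ∈ K := by
      have : y * k⁻¹ * y⁻¹ ∈ K := hKn.conj_mem _ (K.inv_mem hk) y
      have h3 := K.mul_mem hk this
      have e : k * (y * k⁻¹ * y⁻¹) = k * y * k⁻¹ * y⁻¹ := by group
      rwa [e] at h3
    have h3 := hKP' _ h2 (P.mul_mem h1 (P.inv_mem hy))
    calc k * y = (k * y * k⁻¹ * y⁻¹) * (y * k) := by group
      _ = y * k := by rw [h3, one_mul]
  by_cases hbot : ∀ y ∈ P, y = 1
  · intro k hk y hy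
    rw [hbot y hy, mul_one, one_mul]
  push Not at hbot
  obtain ⟨y₀, hy₀, hy₀1⟩ := hbot
  obtain ⟨z, hzP, hz1, hzc⟩ : ∃ z ∈ P, z ≠ 1 ∧ ∀ a ∈ P, a * z = z * a := by
    have hnt : Nontrivial P := ⟨⟨⟨y₀, hy₀⟩, 1, fun h => hy₀1 (congrArg Subtype.val h)⟩⟩
    have hcn := hP.center_nontrivial
    obtain ⟨⟨z, hz⟩, hz1⟩ := exists_ne (1 : Subgroup.center P)
    refine ⟨(z : X), z.2, ?_, ?_⟩
    · intro h
      apply hz1
      apply Subtype.ext
      apply Subtype.ext
      exact h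
    · intro a ha
      have := Subgroup.mem_center_iff.mp hz ⟨a, ha⟩
      exact congrArg Subtype.val this
  have hfib : ∀ a ∈ P, a ≠ 1 → ∀ j ∈ K, ∀ c ∈ K ⊓ Subgroup.centralizer (P : Set X),
      ∀ c' ∈ K ⊓ Subgroup.centralizer (P : Set X), j * (a * c) * j⁻¹ = a * c' →
      j ∈ Subgroup.centralizer (P : Set X) := by
    intro a ha ha1 j hj c hc c' hc' hjc
    have hac : a * c = c * a :=
      (Subgroup.mem_centralizer_iff.mp (Subgroup.mem_inf.mp hc).2) a ha
    have hac' : a * c' = c' * a :=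
      (Subgroup.mem_centralizer_iff.mp (Subgroup.mem_inf.mp hc').2) a ha
    have h1 := commute_of_conj_mul K hpK (hpow a ha) (Subgroup.mem_inf.mp hc).1
      (Subgroup.mem_inf.mp hc').1 hac hac' hjc
    rw [Subgroup.mem_centralizer_iff]
    intro y hy
    exact (hstep2 a ha ha1 j hj h1 y hy).symm
  have hzX : ∀ x : X, z * x * z⁻¹ * x⁻¹ = 1 := by
    intro x
    apply hfaith
    apply char_eq_of_constituents hχ
    intro τ hτ hne
    obtain ⟨dτ, -, hdτ⟩ := irr_apply_one hτ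
    have hle : dτ ≤ n := constituent_degree_le hχ hτ hne hn hdτ
    have hsq : dτ ^ 2 ≤ Nat.card P := (Nat.pow_le_pow_left hle 2).trans hdeg
    exact ito_sum_ti K P hKP hKP' hfib τ hτ dτ hdτ hsq z hzP hzc x
  intro k hk y hy
  have h1 : k * z = z * k := by
    have h2 := hzX k
    have e : z * k = (z * k * z⁻¹ * k⁻¹) * (k * z) := by group
    rw [h2, one_mul] at e
    exact e.symm
  exact hstep2 z hzP hz1 k hk h1 y hy

theorem eq_one_of_coprime_of_pgroup {G : Type u} [Group G] [Finite G] (p : ℕ)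
    [hp : Fact p.Prime] (K P : Subgroup G) (hKc : (Nat.card K).Coprime p) (hP : IsPGroup p P)
    (g : G) (hgK : g ∈ K) (hgP : g ∈ P) : g = 1 := by
  obtain ⟨k, hk⟩ := hP ⟨g, hgP⟩
  have hk' : g ^ (p ^ k) = 1 := by
    have := congrArg Subtype.val hk
    simpa using this
  have h1 : orderOf g ∣ p ^ k := orderOf_dvd_of_pow_eq_one hk'
  have h2 : orderOf g ∣ Nat.card K := by
    have := orderOf_dvd_natCard (⟨g, hgK⟩ : K)
    rwa [Subgroup.orderOf_mk] at this
  have hcop : Nat.Coprime (p ^ k) (Nat.card K) := Nat.Coprime.pow_left _ hKc.symm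
  have h3 : orderOf g = 1 := Nat.eq_one_of_dvd_coprimes hcop h1 h2
  exact orderOf_eq_one_iff.mp h3

theorem ti_sylow_normal {G : Type u} [Group G] [Finite G] (p : ℕ) [hp : Fact p.Prime]
    (hsolv : IsPSolvable p G) (P : Sylow p G)
    (hTI : ∀ g : G, g ∉ Subgroup.normalizer ((P : Subgroup G) : Set G) →
      (P : Subgroup G) ⊓ (MulAut.conj g • (P : Subgroup G)) = ⊥)
    (χ : G → ℂ) (hχ : IsCharacter G χ) (hfaith : ∀ g : G, χ g = χ 1 → g = 1) (n : ℕ)
    (hn : χ 1 = n) (hdeg : n ^ 2 ≤ Nat.card ↥(P : Subgroup G)) : (P : Subgroup G).Normal := by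
  classical
  obtain ⟨K, hKdef⟩ : ∃ K : Subgroup G, K = pPrimeCore p G := ⟨_, rfl⟩
  have hKn : K.Normal := by
    rw [hKdef]
    infer_instance
  have hKc : (Nat.card K).Coprime p := by
    rw [hKdef]
    exact Cfsg.Agent.Lib.Helper14.pPrimeCore_coprime p
  have hpK : ¬ p ∣ Nat.card K := (Nat.Prime.coprime_iff_not_dvd hp.out).mp hKc.symm
  have hTIG : ∀ k : G, ∀ u ∈ (P : Subgroup G), u ≠ 1 → k * u = u * k →
      k ∈ Subgroup.normalizer ((P : Subgroup G) : Set G) := by
    intro k u hu hu1 hku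
    by_contra hk
    have h1 := hTI k hk
    have h2 : u ∈ (P : Subgroup G) ⊓ (MulAut.conj k • (P : Subgroup G)) := by
      refine Subgroup.mem_inf.mpr ⟨hu, ?_⟩
      rw [Subgroup.mem_smul_pointwise_iff_exists]
      refine ⟨u, hu, ?_⟩
      rw [MulAut.smul_def, MulAut.conj_apply, hku, mul_inv_cancel_right]
    rw [h1] at h2
    exact hu1 (Subgroup.mem_bot.mp h2)
  by_cases hPbot : (P : Subgroup G) = ⊥
  · rw [hPbot]
    infer_instance
  have hfr : Subgroup.normalizer ((P : Subgroup G) : Set G) ⊔ K = ⊤ := by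
    obtain ⟨P₁, hP₁⟩ := Cfsg.Agent.Lib.Helper1.AG.exists_sylow_pPrimePCore (X := G) (p := p)
      (R := (P : Subgroup G)) P.isPGroup' P.not_dvd_index
    have h1 := Cfsg.Agent.Lib.Helper6.normalizer_sup_pPrimeCore_eq_top P₁
    rw [hP₁] at h1
    have hne : (P : Subgroup G) ⊓ pPrimePCore p G ≠ ⊥ := by
      intro hbot
      have hfacts := (Cfsg.Agent.Lib.Helper11.sylow_pPrimePCore_facts p P₁).2.1
      rw [hP₁, hbot, Subgroup.map_bot] at hfacts
      have hO' : pPrimeCore p (G ⧸ pPrimeCore p G) = ⊥ :=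
        Cfsg.Agent.Lib.Helper6.pPrimeCore_quotient_pPrimeCore_eq_bot
      have hsol' : IsPSolvable p (G ⧸ pPrimeCore p G) :=
        Cfsg.Agent.Lib.Helper6.isPSolvable_quotient hp.out (pPrimeCore p G) hsolv
      by_cases htriv : (⊤ : Subgroup (G ⧸ pPrimeCore p G)) = ⊥
      · apply hPbot
        rw [eq_bot_iff]
        intro y hy
        have hyK : y ∈ K := by
          rw [hKdef]
          have h2 : (QuotientGroup.mk' (pPrimeCore p G) y) ∈ (⊤ : Subgroup (G ⧸ pPrimeCore p G)) :=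
            Subgroup.mem_top _
          rw [htriv, Subgroup.mem_bot] at h2
          exact (QuotientGroup.eq_one_iff y).mp h2
        rw [Subgroup.mem_bot]
        exact eq_one_of_coprime_of_pgroup p K (P : Subgroup G) hKc P.isPGroup' y hyK hy
      · obtain ⟨M, -, hMn, hMne, hM⟩ :=
          Cfsg.Agent.Lib.Helper6.exists_normal_p_or_p' hp.out hsol' ⊤ htriv
        apply hMne
        rw [eq_bot_iff]
        rcases hM with hM | hM
        · rw [hfacts]
          exact le_sSup ⟨hMn, hM⟩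
        · rw [← hO']
          exact le_sSup ⟨hMn, hM⟩
    rw [eq_top_iff, ← h1]
    apply sup_le _ (by rw [hKdef]; exact le_sup_right)
    intro g hg
    apply Subgroup.mem_sup_left
    by_contra hgn
    have h2 := hTI g hgn
    apply hne
    rw [eq_bot_iff, ← h2]
    intro x hx
    refine Subgroup.mem_inf.mpr ⟨(Subgroup.mem_inf.mp hx).1, ?_⟩
    rw [Subgroup.mem_smul_pointwise_iff_exists]
    have h3 : g⁻¹ * x * g ∈ (P : Subgroup G) ⊓ pPrimePCore p G :=
      (Subgroup.mem_normalizer_iff''.mp hg x).mp hx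
    refine ⟨g⁻¹ * x * g, (Subgroup.mem_inf.mp h3).1, ?_⟩
    rw [MulAut.smul_def, MulAut.conj_apply]
    group
  have hcent : ∀ k ∈ K, ∀ y ∈ (P : Subgroup G), k * y = y * k := by
    obtain ⟨S, hSdef⟩ : ∃ S : Subgroup G, S = K ⊔ (P : Subgroup G) := ⟨_, rfl⟩
    have hKS : K ≤ S := hSdef ▸ le_sup_left
    have hPS : (P : Subgroup G) ≤ S := hSdef ▸ le_sup_right
    have hmemS : ∀ x ∈ S, ∃ u ∈ K, ∃ a ∈ (P : Subgroup G), x = u * a := by
      intro x hx
      rw [hSdef, ← SetLike.mem_coe, Subgroup.normal_mul] at hx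
      obtain ⟨u, hu, a, ha, rfl⟩ := Set.mem_mul.mp hx
      exact ⟨u, hu, a, ha, rfl⟩
    have hpK' : ¬ p ∣ Nat.card (K.subgroupOf S) := by
      rw [Nat.card_congr (Subgroup.subgroupOfEquivOfLe hKS).toEquiv]
      exact hpK
    have hdeg' : n ^ 2 ≤ Nat.card ((P : Subgroup G).subgroupOf S) := by
      rw [Nat.card_congr (Subgroup.subgroupOfEquivOfLe hPS).toEquiv]
      exact hdeg
    have key := ti_core (X := ↥S) p (K.subgroupOf S) ((P : Subgroup G).subgroupOf S)
      hpK' (P.isPGroup'.comap_subtype)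
      (by
        rintro ⟨x, hx⟩
        obtain ⟨u, hu, a, ha, rfl⟩ := hmemS x hx
        exact ⟨⟨u, hKS hu⟩, Subgroup.mem_subgroupOf.mpr hu, ⟨a, hPS ha⟩,
          Subgroup.mem_subgroupOf.mpr ha, Subtype.ext rfl⟩)
      (by
        intro k hk u hu hu1 hku y hy
        have hN := hTIG (k : G) (u : G) (Subgroup.mem_subgroupOf.mp hu)
          (fun h => hu1 (Subtype.ext h)) (congrArg Subtype.val hku)
        rw [Subgroup.mem_subgroupOf]
        have h4 := (Subgroup.mem_normalizer_iff.mp hN (y : G)).mp (Subgroup.mem_subgroupOf.mp hy)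
        simpa using h4)
      (fun x : S => χ x) (IsCharacter.restrict hχ S)
      (by
        intro g hg
        apply Subtype.ext
        apply hfaith
        simpa using hg)
      n (by simpa using hn) hdeg'
    intro k hk y hy
    have h5 := key ⟨k, hKS hk⟩ (Subgroup.mem_subgroupOf.mpr hk) ⟨y, hPS hy⟩
      (Subgroup.mem_subgroupOf.mpr hy)
    exact congrArg Subtype.val h5
  have hKN : K ≤ Subgroup.normalizer ((P : Subgroup G) : Set G) := by
    intro k hk
    rw [Subgroup.mem_normalizer_iff]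
    intro h
    constructor
    · intro hh
      rw [hcent k hk h hh, mul_inv_cancel_right]
      exact hh
    · intro hh
      have e := hcent k⁻¹ (K.inv_mem hk) (k * h * k⁻¹) hh
      have e2 : k * h * k⁻¹ = h := by
        have e3 : k⁻¹ * (k * h * k⁻¹) = h * k⁻¹ := by group
        rw [e3] at e
        exact (mul_right_cancel e).symm
      rw [← e2]
      exact hh
  have htop : Subgroup.normalizer ((P : Subgroup G) : Set G) = ⊤ := by
    rw [eq_top_iff, ← hfr]
    exact sup_le le_rfl hKN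
  exact Subgroup.normalizer_eq_top_iff.mp htop

end tisyl

end Cfsg.Agent.Lib.Helper8
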